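import Cfsg.Agent.J2W.Def

/-! Basic API (copies of the corresponding lemmas of `Wr2/St`, `Wr2/Z0`, `Wr2/Z1`, `Wr2/Z2`). -/

set_option autoImplicit false
set_option linter.unusedSectionVars false

namespace Cfsg.Agent.J2W

open Cfsg Subgroup Cfsg.Agent.PLocal Cfsg.Agent.PLocal.Amb Cfsg.Agent.Lyons
open Cfsg.Agent.Wr2 (St Tw Fo Oc Sw')
open Cfsg.Agent.Wr (mem_z mem_C conj_eq_iff inv_eq_of_sq conj_sq conj_comm)
open Cfsg.Agent.Wr3 (MulOn Au)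
open scoped commutatorElement

universe v

variable {G : Type*} [Group G] [Finite G] {Y : Type*} [Group Y] [Finite Y] {D : Dt Y}
  {A : Subgroup G} {ρ : G → Y} {j : Y → G}

namespace Bs
variable (F : Bs D)
include F

theorem nrm : D.Y₀.Normal := Wr2.idx_normal F.idx
theorem mul_iff (a b : Y) : a * b ∈ D.Y₀ ↔ (a ∈ D.Y₀ ↔ b ∈ D.Y₀) := Wr2.idx_mul F.idx a b
theorem sq (a : Y) : a * a ∈ D.Y₀ := (F.mul_iff a a).2 Iff.rfl
theorem zY : D.z ∈ D.Y₀ := F.sylT.le F.zT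
theorem TH : D.T ≤ D.C D.z := fun a ha => mem_inf.2 ⟨F.sylT.le ha, mem_z.2 (F.zc a ha)⟩
/-- `cz`, `zn` -/
theorem cen {y : Y} (h : ∀ a ∈ D.Y₀, y * a = a * y) : y = 1 :=
  (F.cz y fun a ha => (h a (F.sylT.le ha)).symm).resolve_right fun e =>
    let ⟨a, ha, n⟩ := F.zn; n (e ▸ (h a ha).symm)
theorem odd_mem {a : Y} (h : Odd (orderOf a)) : a ∈ D.Y₀ :=
  mem_of_odd_of_pow h (k := 1) (by rw [pow_one, _root_.sq]; exact F.sq a)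
/-- `T = U ⊓ Y₀` (`sylT.eq`) -/
theorem UY {a : Y} (ha : a ∈ D.U) (h : a ∈ D.Y₀) : a ∈ D.T :=
  (F.sylT.eq (F.sylU.pgrp.to_le (inf_le_left : D.U ⊓ D.Y₀ ≤ D.U)) (le_inf F.TU F.sylT.le)
    inf_le_right).le ⟨ha, h⟩
/-- `N(T)` fixes `z`: the conjugate of `z` centralises `T`, use `cz` -/
theorem NT {y : Y} (h : y ∈ 𝐍[D.T]) : y * D.z = D.z * y :=
  conj_eq_iff.1 ((F.cz _ fun a ha => by
    simpa [mul_assoc] using conj_comm (g := y) (F.zc _ (inv_conj_mem_of_mem_normalizer h ha))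
      ).resolve_left fun e => F.z1 (conj_eq_one_iff.1 e))
/-- `y T y⁻¹` is Sylow in `Y₀`, so `k y ∈ N(T)` with `k ∈ Y₀`; `NT` -/
theorem cjz (y : Y) : D.Cj D.z (y * D.z * y⁻¹) := by
  have := F.nrm
  obtain ⟨g, hg, e⟩ := F.sylT.exists_cj_eq (F.sylT.cj_of_mem_normalizer (g := y)
    (cj_eq_iff.1 (cj_of_normal y _)))
  rw [← cj_mul, cj_eq_iff] at e
  refine ⟨g⁻¹, inv_mem hg, ?_⟩
  calc _ = g⁻¹ * (D.z * (g * y)) * y⁻¹ := by group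
    _ = _ := by rw [← F.NT e]; group
/-- an involution of `Y₀` centralised by a Sylow subgroup of `Y₀` is conjugate to `z` -/
theorem cjz' {a : Y} {P : Subgroup Y} (hP : IsSyl 2 P D.Y₀) (a1 : a ≠ 1)
    (c : ∀ x ∈ P, x * a = a * x) : D.Cj D.z a := by
  obtain ⟨g, hg, e⟩ := F.sylT.exists_cj_eq hP
  refine ⟨g⁻¹, inv_mem hg, ?_⟩
  rw [← (F.cz (g * a * g⁻¹) fun x hx => by
    obtain ⟨y, hy, rfl⟩ := mem_cj_iff_exists.1 (e.ge hx)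
    exact conj_comm (c y hy)).resolve_left fun e => a1 (conj_eq_one_iff.1 e)]
  group
/-- `sim` for the closure of the involutions of `Y₀` -/
theorem genI : D.Y₀ ≤ closure {a | a ∈ D.Y₀ ∧ a * a = 1} := by
  refine ((F.sim _ ((closure_le _).2 fun _ ha => ha.1) fun g hg => mem_normalizer_of_cj_le
    (cj_le_iff.2 ((closure_le _).2 fun a ha => mem_cj.2 (Subgroup.subset_closure ?_)))).resolve_left
      fun e => F.z1 (mem_bot.1 (e.le (Subgroup.subset_closure ?_)))).ge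
  · exact ⟨mul_mem (mul_mem (inv_mem (inv_mem hg)) ha.1) (inv_mem hg),
      by simpa using conj_sq (g := g) ha.2⟩
  · exact ⟨F.zY, F.zz⟩

/-- copy of `Wr2.exists_St` (uses `cen`, `aut` only) -/
theorem exists_St {A : Subgroup G}
    {ψ : G → Y} (h1 : ∀ a ∈ A, ∀ b ∈ A, ψ (a * b) = ψ a * ψ b) (h2 : ∀ a ∈ A, ψ a ∈ D.Y₀)
    (h3 : ∀ y ∈ D.Y₀, ∃ a ∈ A, ψ a = y) (h4 : ∀ a ∈ A, ψ a = 1 → a ∈ 𝐂[A] ∧ Odd (orderOf a))
    (h5 : ⁅A, A⁆ = A) : ∃ ρ, St A ρ D.Y₀ ∧ ∀ m ∈ 𝐍[A], ∀ y,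
      (∀ a ∈ A, ψ (m * a * m⁻¹) = y * ψ a * y⁻¹) → ρ m = y := by
  classical
  let χ : A →* Y := MonoidHom.mk' (fun a => ψ a) fun a b => h1 a a.2 b b.2
  have hi : ∀ a ∈ A, ψ a⁻¹ = (ψ a)⁻¹ := fun a ha => map_inv χ ⟨a, ha⟩
  have c1 : ∀ a ∈ A, a ∈ 𝐂[A] → ψ a = 1 := fun a ha hc => F.cen fun y hy => by
    obtain ⟨b, hb, rfl⟩ := h3 y hy
    rw [← h1 a ha b hb, ← h1 b hb a ha, mem_C.1 hc b hb]
  have wd : ∀ m ∈ 𝐍[A], ∀ a ∈ A, ∀ b ∈ A, ψ a = ψ b → ψ (m * a * m⁻¹) = ψ (m * b * m⁻¹) := by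
    intro m hm a ha b hb e
    have c := (h4 _ (mul_mem (inv_mem ha) hb) (by rw [h1 _ (inv_mem ha) _ hb, hi a ha, e]; group)).1
    have := c1 _ (conj_mem_of_mem_normalizer hm (mul_mem (inv_mem ha) hb))
      (conj_mem_of_mem_normalizer (normalizer_le_normalizer_centralizer A hm) c)
    rw [show m * (a⁻¹ * b) * m⁻¹ = (m * a * m⁻¹)⁻¹ * (m * b * m⁻¹) by group,
      h1 _ (inv_mem (conj_mem_of_mem_normalizer hm ha)) _ (conj_mem_of_mem_normalizer hm hb),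
      hi _ (conj_mem_of_mem_normalizer hm ha), inv_mul_eq_one] at this
    exact this
  choose! s hs using h3
  have ex : ∀ m, ∃ y, m ∈ 𝐍[A] → ∀ a ∈ A, ψ (m * a * m⁻¹) = y * ψ a * y⁻¹ := fun m => by
    by_cases hm : m ∈ 𝐍[A]
    swap
    · exact ⟨1, fun h => absurd h hm⟩
    let f : ∀ m ∈ 𝐍[A], D.Y₀ → D.Y₀ := fun m hm y =>
      ⟨ψ (m * s y * m⁻¹), h2 _ (conj_mem_of_mem_normalizer hm (hs y y.2).1)⟩
    have k : ∀ m (hm : m ∈ 𝐍[A]), ∀ a (ha : a ∈ A), ∀ y : D.Y₀, ψ a = y →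
        (f m hm y : Y) = ψ (m * a * m⁻¹) := fun m hm a ha y e =>
      wd m hm _ (hs y y.2).1 a ha ((hs y y.2).2.trans e.symm)
    have inv : ∀ m (hm : m ∈ 𝐍[A]) m' (hm' : m' ∈ 𝐍[A]), m * m' = 1 → ∀ y,
        f m hm (f m' hm' y) = y := fun m hm m' hm' e y => Subtype.ext (by
      rw [k m hm _ (conj_mem_of_mem_normalizer hm' (hs y y.2).1) _ rfl,
        show m * (m' * s y * m'⁻¹) * m⁻¹ = (m * m') * s y * (m * m')⁻¹ by group, e]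
      simpa using (hs y y.2).2)
    obtain ⟨y, hy⟩ := F.aut ⟨⟨f m hm, f m⁻¹ (inv_mem hm), inv _ (inv_mem hm) _ hm (inv_mul_cancel m),
      inv _ hm _ (inv_mem hm) (mul_inv_cancel m)⟩, fun a b => Subtype.ext (by
        show (f m hm (a * b) : Y) = f m hm a * f m hm b
        rw [k m hm _ (mul_mem (hs a a.2).1 (hs b b.2).1) _ (by
          rw [h1 _ (hs a a.2).1 _ (hs b b.2).1, (hs a a.2).2, (hs b b.2).2]; rfl),
          ← h1 _ (conj_mem_of_mem_normalizer hm (hs a a.2).1) _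
            (conj_mem_of_mem_normalizer hm (hs b b.2).1)]
        congr 1; group)⟩
    exact ⟨y, fun _ a ha => (k m hm a ha ⟨_, h2 a ha⟩ rfl).symm.trans (hy ⟨_, h2 a ha⟩)⟩
  choose ρ hρ using ex
  have uq : ∀ m ∈ 𝐍[A], ∀ y, (∀ a ∈ A, ψ (m * a * m⁻¹) = y * ψ a * y⁻¹) → ρ m = y :=
    fun m hm y hy => (inv_mul_eq_one.1 (F.cen fun b hb => by
      have := (hy _ (hs b hb).1).symm.trans (hρ m hm _ (hs b hb).1)
      rw [(hs b hb).2] at this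
      calc _ = y⁻¹ * (ρ m * b * (ρ m)⁻¹) * ρ m := by group
        _ = _ := by rw [← this]; group)).symm
  have e1 : ∀ a ∈ A, ρ a = ψ a := fun a ha => uq a (le_normalizer ha) _ fun b hb => by
    rw [h1 _ (mul_mem ha hb) _ (inv_mem ha), h1 a ha b hb, hi a ha]
  refine ⟨ρ, ⟨fun a ha b hb => uq _ (mul_mem ha hb) _ fun c hc => ?_, fun m hm => ⟨fun e => ?_,
    fun hc => uq m hm 1 fun a ha => by rw [← mem_C.1 hc a ha]; simp⟩,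
    fun a ha => e1 a ha ▸ h2 a ha, fun y hy => ⟨s y, (hs y hy).1, by rw [e1 _ (hs y hy).1, (hs y hy).2]⟩,
    fun a ha e => (h4 a ha (e1 a ha ▸ e)).2, h5⟩, uq⟩
  · rw [show a * b * c * (a * b)⁻¹ = a * (b * c * b⁻¹) * a⁻¹ by group,
      hρ a ha _ (conj_mem_of_mem_normalizer hb hc), hρ b hb c hc]; group
  · have := Std.aut_eq_one_of_center (Wr2.comm_top h5) (A.normalizerMonoidHom ⟨m, hm⟩) fun y =>
      mem_center_iff.2 fun b => Subtype.ext (mem_C.1 (h4 _ (A.normalizerMonoidHom ⟨m, hm⟩ y * y⁻¹).2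
        (by
          show ψ (m * y * m⁻¹ * (y : G)⁻¹) = 1
          rw [h1 _ (conj_mem_of_mem_normalizer hm y.2) _ (inv_mem y.2), hρ m hm _ y.2, e, hi _ y.2]
          group)).1 b b.2)
    exact mem_C.2 fun a ha => (conj_eq_iff.1 (congrArg Subtype.val (DFunLike.congr_fun this
      ⟨a, ha⟩))).symm

/-- a subgroup normalised by `B` meets `B` in the centre or contains `B` (`sim` for
`st.img (N ⊓ B)`, `St.le_of_sur`) -/
theorem qs {B N : Subgroup G} (st : St B ρ D.Y₀) (hN : B ≤ 𝐍[N]) : N ⊓ B ≤ 𝐂[B] ∨ B ≤ N := by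
  have n : N ⊓ B ≤ 𝐍[B] := inf_le_right.trans le_normalizer
  refine (F.sim (st.img (N ⊓ B)) (fun y hy => ?_) fun y hy => ?_).imp (fun e x hx => ?_)
    fun e => st.le_of_sur fun y hy => inf_comm N B ▸ (st.mem_img n).1 (e.ge hy)
  · obtain ⟨x, hx, rfl⟩ := (st.mem_img n).1 hy
    exact st.mem x hx.2
  · obtain ⟨b, hb, rfl⟩ := st.sur y hy
    refine mem_normalizer_of_cj_le (cj_le_iff_forall.2 fun y hy => ?_)
    obtain ⟨x, hx, rfl⟩ := (st.mem_img n).1 hy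
    exact (st.mem_img n).2 ⟨_, conj_mem_of_mem_normalizer (le_normalizer_inf hN le_normalizer hb) hx,
      st.conj (le_normalizer hb) (n hx)⟩
  · exact (st.ker x (n hx)).1 (mem_bot.1 (e.le ((st.mem_img n).2 ⟨x, hx, rfl⟩)))

/-- `genI`, `St.lift2`, `St.gen`, `St.le_of_sur` -/
theorem le_of_inv {B N : Subgroup G} (st : St B ρ D.Y₀) (hN : ∀ a ∈ B, a * a = 1 → a ∈ N) :
    B ≤ N :=
  st.le_of_sur fun _ hy => st.gen (fun _ hy => let ⟨a, ha, e, a2⟩ := st.lift2 hy.1 hy.2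
    ⟨a, mem_inf.2 ⟨ha, hN a ha a2⟩, e⟩) (F.genI hy)

end Bs

theorem Dt.Cj.refl (D : Dt Y) (a : Y) : D.Cj a a := ⟨1, one_mem _, by simp⟩
theorem Dt.Cj.symm {a b : Y} (h : D.Cj a b) : D.Cj b a :=
  let ⟨k, hk, e⟩ := h; ⟨k⁻¹, inv_mem hk, by rw [← e]; group⟩
theorem Dt.Cj.trans {a b c : Y} (h : D.Cj a b) (h' : D.Cj b c) : D.Cj a c :=
  let ⟨k, hk, e⟩ := h; let ⟨l, hl, e'⟩ := h'; ⟨l * k, mul_mem hl hk, by rw [← e', ← e]; group⟩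

namespace Fx
variable (F : Fx D)
include F

theorem zY : D.z ∈ D.Y₀ := F.toBs.zY
theorem dY : D.d ∈ D.Y₀ := F.sylT.le F.dT
theorem wY : D.w ∈ D.Y₀ := F.sylT.le F.wT
theorem dzc : D.d * D.z = D.z * D.d := F.zc _ F.dT
theorem uzc : D.u * D.z = D.z * D.u := F.zc _ F.uT
theorem dd : D.d * D.d = 1 := F.r1 ▸ conj_sq F.zz
theorem zV : D.z ∈ D.V := (F.memV _).2 (.inr (.inl rfl))
theorem dV : D.d ∈ D.V := (F.memV _).2 (.inr (.inr (.inl rfl)))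
theorem VT : D.V ≤ D.T := fun x hx => by
  rcases (F.memV x).1 hx with rfl | rfl | rfl | rfl
  exacts [one_mem _, F.zT, F.dT, mul_mem F.zT F.dT]
theorem VY : D.V ≤ D.Y₀ := F.VT.trans F.sylT.le
theorem r3 : D.r * (D.z * D.d) * D.r⁻¹ = D.z := by
  rw [← conj_mul, F.r1, F.r2, ← mul_assoc, F.dzc, mul_assoc, F.dd, mul_one]
theorem cjd : D.Cj D.z D.d := ⟨_, F.rY, F.r1⟩
theorem cjzd : D.Cj D.z (D.z * D.d) := F.cjd.trans ⟨_, F.rY, F.r2⟩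
theorem cjw : D.Cj D.u D.w := ⟨_, F.rBY, F.rB1⟩
theorem cjuw : D.Cj D.u (D.u * D.w) := F.cjw.trans ⟨_, F.rBY, F.rB2⟩
theorem zCu : D.z ∈ D.C D.u := ⟨F.zY, mem_z.2 F.uzc.symm⟩
theorem lin : Lin D :=
  ⟨D.d, D.r, F.rY, F.dzc, F.r1, F.r2, fun x hx => F.VY (F.cP x hx)⟩

end Fx

namespace Sx
variable (h : Sx D A ρ j)
include h

theorem jN {a : Y} (ha : a ∈ D.Y₀) : j a ∈ 𝐍[A] := le_normalizer (h.jA a ha)
theorem uq {a b : G} (ha : a ∈ A) (hb : b ∈ A) (e : ρ a = ρ b) : a = b :=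
  inv_mul_eq_one.1 (h.inj _ (mul_mem (inv_mem ha) hb)
    (h.st.kerC (h.st.div (le_normalizer ha) (le_normalizer hb) e)))
theorem jρ {a : G} (ha : a ∈ A) : j (ρ a) = a :=
  h.uq (h.jA _ (h.st.mem a ha)) ha (h.ρj _ (h.st.mem a ha))
theorem jmul {a b : Y} (ha : a ∈ D.Y₀) (hb : b ∈ D.Y₀) : j (a * b) = j a * j b :=
  h.uq (h.jA _ (mul_mem ha hb)) (mul_mem (h.jA a ha) (h.jA b hb)) (by
    rw [h.ρj _ (mul_mem ha hb), h.st.mul _ (h.jN ha) _ (h.jN hb), h.ρj a ha, h.ρj b hb])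
theorem jone : j 1 = 1 := h.inj _ (h.jA _ (one_mem _)) (h.ρj _ (one_mem _))
theorem jinv {a : Y} (ha : a ∈ D.Y₀) : j a⁻¹ = (j a)⁻¹ :=
  eq_inv_of_mul_eq_one_left (by rw [← h.jmul (inv_mem ha) ha, inv_mul_cancel, h.jone])
theorem jpow {a : Y} (ha : a ∈ D.Y₀) (n : ℕ) : j (a ^ n) = j a ^ n :=
  h.uq (h.jA _ (pow_mem ha n)) (pow_mem (h.jA a ha) n) (by
    rw [h.ρj _ (pow_mem ha n), h.st.pow (h.jN ha), h.ρj a ha])
theorem jinj {a b : Y} (ha : a ∈ D.Y₀) (hb : b ∈ D.Y₀) (e : j a = j b) : a = b := by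
  rw [← h.ρj a ha, e, h.ρj b hb]
theorem jconj {m : G} (hm : m ∈ 𝐍[A]) {a : Y} (ha : a ∈ D.Y₀) :
    m * j a * m⁻¹ = j (ρ m * a * (ρ m)⁻¹) :=
  have m1 := h.F.toBs.nrm.conj_mem a ha (ρ m)
  h.uq (conj_mem_of_mem_normalizer hm (h.jA a ha)) (h.jA _ m1) (by
    rw [h.st.conj hm (h.jN ha), h.ρj a ha, h.ρj _ m1])
theorem jcom {m : G} (hm : m ∈ 𝐍[A]) {a : Y} (ha : a ∈ D.Y₀) :
    m * j a = j a * m ↔ ρ m * a = a * ρ m := by
  rw [← conj_eq_iff, ← conj_eq_iff, h.jconj hm ha]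
  exact ⟨h.jinj (h.F.toBs.nrm.conj_mem a ha _) ha, fun e => by rw [e]⟩
theorem AK {a : G} (ha : a ∈ A) (hk : a ∈ 𝐂[A]) : a = 1 := h.inj a ha (h.st.kerC hk)
theorem zA : j D.z ∈ A := h.jA _ h.F.toBs.zY
theorem zz : j D.z * j D.z = 1 := by rw [← h.jmul h.F.toBs.zY h.F.toBs.zY, h.F.zz, h.jone]
theorem z1 : j D.z ≠ 1 := fun e => h.F.z1 (h.jinj h.F.toBs.zY (one_mem _) (e.trans h.jone.symm))

/-- the preimage in `A` of a subgroup of `Y` -/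
def pre (P : Subgroup Y) : Subgroup G := A ⊓ (P.comap h.st.hom).map 𝐍[A].subtype

theorem mem_pre {P : Subgroup Y} {x : G} : x ∈ h.pre P ↔ x ∈ A ∧ ρ x ∈ P :=
  ⟨fun ⟨a, _, hy, e⟩ => ⟨a, e ▸ hy⟩, fun ⟨a, b⟩ => ⟨a, ⟨x, le_normalizer a⟩, b, rfl⟩⟩
theorem j_pre {P : Subgroup Y} {a : Y} (ha : a ∈ D.Y₀) : j a ∈ h.pre P ↔ a ∈ P := by
  rw [h.mem_pre, h.ρj a ha, and_iff_right (h.jA a ha)]
theorem pre_mono {P Q : Subgroup Y} (e : P ≤ Q) : h.pre P ≤ h.pre Q := fun _ hx =>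
  h.mem_pre.2 ((h.mem_pre.1 hx).imp_right fun c => e c)
theorem card_pre {P : Subgroup Y} (hP : P ≤ D.Y₀) : Nat.card (h.pre P) = Nat.card P :=
  Nat.card_congr ⟨fun x => ⟨ρ x, (h.mem_pre.1 x.2).2⟩, fun a => ⟨j a, (h.j_pre (hP a.2)).2 a.2⟩,
    fun x => Subtype.ext (h.jρ (h.mem_pre.1 x.2).1), fun a => Subtype.ext (h.ρj _ (hP a.2))⟩
theorem pre_comm {P Q : Subgroup Y} (hP : P ≤ D.Y₀) (hQ : Q ≤ D.Y₀) :
    h.pre ⁅P, Q⁆ = ⁅h.pre P, h.pre Q⁆ := by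
  have c : ∀ a ∈ A, ∀ b ∈ A, ρ ⁅a, b⁆ = ⁅ρ a, ρ b⁆ := fun a ha b hb =>
    map_commutatorElement h.st.hom ⟨a, le_normalizer ha⟩ ⟨b, le_normalizer hb⟩
  have m : ∀ a ∈ A, ∀ b ∈ A, ⁅a, b⁆ ∈ A := fun a ha b hb =>
    mul_mem (mul_mem (mul_mem ha hb) (inv_mem ha)) (inv_mem hb)
  refine le_antisymm (fun x hx => ?_) (commutator_le.2 fun a ha b hb => ?_)
  · obtain ⟨h1, h2⟩ := h.mem_pre.1 hx
    obtain ⟨a, ha, e⟩ := h.st.gen (B := ⁅h.pre P, h.pre Q⁆) (by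
      rintro _ ⟨p, hp, q, hq, rfl⟩
      exact ⟨_, mem_inf.2 ⟨m _ (h.jA p (hP hp)) _ (h.jA q (hQ hq)), commutator_mem_commutator
        ((h.j_pre (hP hp)).2 hp) ((h.j_pre (hQ hq)).2 hq)⟩, by
          rw [c _ (h.jA p (hP hp)) _ (h.jA q (hQ hq)), h.ρj p (hP hp), h.ρj q (hQ hq)]⟩) h2
    exact h.uq ha.1 h1 e ▸ ha.2
  · rw [h.mem_pre] at ha hb ⊢
    exact ⟨m a ha.1 b hb.1, c a ha.1 b hb.1 ▸ commutator_mem_commutator ha.2 hb.2⟩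
theorem pre_C {a : Y} (ha : a ∈ D.Y₀) : h.pre (D.C a) = A ⊓ 𝐳[j a] := by
  ext x
  rw [h.mem_pre, mem_inf, mem_inf, mem_z, mem_z]
  exact and_congr_right fun hx => by
    rw [and_iff_right (h.st.mem x hx), h.jcom (le_normalizer hx) ha]
theorem pre_N {P : Subgroup Y} {m : G} (hm : m ∈ 𝐍[A]) (e : ρ m ∈ 𝐍[P]) : m ∈ 𝐍[h.pre P] :=
  mem_normalizer_of_cj_le (cj_le_iff_forall.2 fun x hx => by
    rw [h.mem_pre] at hx ⊢
    exact ⟨conj_mem_of_mem_normalizer hm hx.1,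
      h.st.conj hm (le_normalizer hx.1) ▸ conj_mem_of_mem_normalizer e hx.2⟩)
theorem pre_closure {S : Set Y} {B : Subgroup G} (hS : ∀ a ∈ S, a ∈ D.Y₀ ∧ j a ∈ B) {a : Y}
    (ha : a ∈ closure S) : j a ∈ B := by
  obtain ⟨b, hb, rfl⟩ := h.st.gen (B := B) (fun y hy =>
    ⟨j y, mem_inf.2 ⟨h.jA y (hS y hy).1, (hS y hy).2⟩, h.ρj y (hS y hy).1⟩) ha
  exact (h.jρ hb.1).symm ▸ hb.2
theorem sylT : IsSyl 2 (h.pre D.T) A := by
  obtain ⟨R, hR⟩ := exists_isSyl 2 A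
  refine hR.of_card_ge (isPGroup_iff.2 fun x hx => ?_) inf_le_left ?_
  · obtain ⟨h1, h2⟩ := h.mem_pre.1 hx
    exact (isPGroup_iff.1 h.F.sylT.pgrp _ h2).imp fun k hk =>
      h.inj _ (pow_mem h1 _) (by rw [h.st.pow (le_normalizer h1), hk])
  · rw [h.card_pre h.F.sylT.le, h.st.card_img' (hR.le.trans le_normalizer)
      fun x hx => h.AK (hR.le hx)]
    exact ((h.st.img_A ▸ h.st.syl_img hR le_normalizer).card_eq h.F.sylT).le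
theorem card_A : Nat.card A = Nat.card D.Y₀ := by
  rw [h.st.card_img' le_normalizer fun x hx => h.AK hx, h.st.img_A]

theorem ti {g x : G} (hg : g ∉ 𝐍[A]) (hx : x ∈ 𝐂[A]) (hx' : g⁻¹ * x * g ∈ 𝐂[A]) (x2 : Tw x) :
    x = 1 :=
  x2.eq_one (odd_orderOf (h.std.2.1.2 g (h.std.2.2.2 ▸ hg)) (mem_inf.2 ⟨hx, mem_cj.2 hx'⟩))
theorem cM {s x : G} (hs : s ∈ 𝐂[A]) (s2 : s * s = 1) (s1 : s ≠ 1) (e : x * s = s * x) :
    x ∈ 𝐍[A] := Std.mem_normalizer_of_commute h.std (Wr2.ord2 s2 s1) hs e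
theorem cM' {g s x : G} (hs : g⁻¹ * s * g ∈ 𝐂[A]) (s2 : s * s = 1) (s1 : s ≠ 1)
    (e : x * s = s * x) : g⁻¹ * x * g ∈ 𝐍[A] :=
  h.cM hs (by simpa using conj_sq (g := g⁻¹) s2) (fun e => s1 (Wr2.cj1 e))
    (by simpa using conj_comm (g := g⁻¹) e)
theorem nc {g : G} (hg : g ∉ 𝐍[A]) : ¬ A ≤ cj(g, 𝐂[A]) := fun e =>
  h.std.2.2.1 g (fun e => hg (cj_eq_iff.1 e)) (by
    rw [commutator_eq_bot_iff_le_centralizer]; rwa [← centralizer_cj] at e)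

end Sx

namespace Sy
variable {t : G} (h : Sy D A ρ j t)
include h

theorem tA {a : G} (ha : a ∈ A) : a * t = t * a := mem_C.1 h.tK a ha
theorem tN {x : G} (e : x * t = t * x) : x ∈ 𝐍[A] := h.cM h.tK h.tt h.t1 e
theorem tnA : t ∉ A := fun e => h.t1 (h.AK e h.tK)
theorem OK {o : G} (ho : o ∈ Oc A t) : o ∈ 𝐂[A] := (mem_inf.1 (oc_le _ ho)).1
theorem Ot {o : G} (ho : o ∈ Oc A t) : o * t = t * o := mem_z.1 (mem_inf.1 (oc_le _ ho)).2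
theorem OA {o a : G} (ho : o ∈ Oc A t) (ha : a ∈ A) : a * o = o * a := mem_C.1 (h.OK ho) a ha
theorem Opow {o : G} (ho : o ∈ Oc A t) : o ^ Nat.card (Oc A t) = 1 :=
  congrArg Subtype.val (pow_card_eq_one' (x := (⟨o, ho⟩ : Oc A t)))
theorem syl {L : Subgroup G} (h1 : t ∈ L) (h2 : L ≤ 𝐂[A]) : IsSyl 2 (zpowers t) L := by
  obtain ⟨P, hP⟩ := exists_isSyl 2 L
  exact hP.of_card_ge (isPGroup_zpowers (Wr2.tw_of_sq h.tt)) (zpowers_le.2 h1)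
    (Wr2.card_zp h.tt h.t1 ▸ h.two P (hP.le.trans h2) hP.pgrp)
theorem odd_O {k : G} (hk : k ∈ 𝐂[A]) (e : k * t = t * k) (ho : Odd (orderOf k)) :
    k ∈ Oc A t :=
  burn_odd (h.syl (mem_inf.2 ⟨h.tK, mem_z.2 rfl⟩) inf_le_left)
    (Amb.centralizer_zpowers t ▸ inf_le_left.trans inf_le_right) (mem_inf.2 ⟨hk, mem_z.2 e⟩) ho
theorem Kt {k : G} (hk : k ∈ 𝐂[A]) (e : k * t = t * k) : k ∈ Oc A t ∨ k * t ∈ Oc A t := by
  obtain ⟨o, ho, u, hu, rfl⟩ := burn (h.syl (mem_inf.2 ⟨h.tK, mem_z.2 rfl⟩) inf_le_left)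
    (Amb.centralizer_zpowers t ▸ inf_le_left.trans inf_le_right) (mem_inf.2 ⟨hk, mem_z.2 e⟩)
  rcases Wr2.mem_zp h.tt hu with rfl | rfl
  · left; simpa using ho
  · right; rwa [mul_assoc, h.tt, mul_one]
theorem Ktw {k : G} (hk : k ∈ 𝐂[A]) (e : k * t = t * k) (k2 : Tw k) : k = 1 ∨ k = t :=
  (h.Kt hk e).imp (fun c => k2.eq_one (odd_orderOf (odd_oc _) c)) fun c =>
    (eq_inv_of_mul_eq_one_left ((k2.mul (Wr2.tw_of_sq h.tt) e).eq_one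
      (odd_orderOf (odd_oc _) c))).trans (inv_eq_of_sq h.tt)
theorem nO {x : G} (e : x * t = t * x) : x ∈ 𝐍[Oc A t] :=
  norm_le_norm_oc _ (le_normalizer_inf (L := 𝐳[t]) (fun _ hy =>
    normalizer_le_normalizer_centralizer A (h.tN (mem_z.1 hy))) le_normalizer (mem_z.2 e))
theorem tO : t ∉ Oc A t := fun e => h.t1 ((Wr2.tw_of_sq h.tt).eq_one (odd_orderOf (odd_oc _) e))
theorem twA {x : G} (hx : x ∈ A ⊔ Oc A t) (x2 : Tw x) : x ∈ A := by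
  obtain ⟨a, ha, o, ho, rfl⟩ := (mem_sup_of_le_normalizer_right fun a ha => h.nO (h.tA ha)).1 hx
  refine mem_of_pow_mem_of_coprime (n := Nat.card (Oc A t)) ?_ ?_
  · rw [(show Commute a o from h.OA ho ha).mul_pow, h.Opow ho, mul_one]; exact pow_mem ha _
  · obtain ⟨k, hk⟩ := x2
    exact Nat.Coprime.coprime_dvd_left (orderOf_dvd_of_pow_eq_one hk)
      ((Nat.coprime_two_left.2 (odd_oc _)).pow_left k)
theorem decO {x a : G} (e1 : x * t = t * x) (ha : a ∈ A) (e2 : ρ x = ρ a) :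
    ∃ u, (u = 1 ∨ u = t) ∧ ∃ o ∈ Oc A t, x = a * u * o := by
  have e3 : a⁻¹ * x * t = t * (a⁻¹ * x) := by
    rw [mul_assoc, e1, ← mul_assoc, h.tA (inv_mem ha), mul_assoc]
  rcases h.Kt (h.st.div (le_normalizer ha) (h.tN e1) e2.symm) e3 with h1 | h1
  · exact ⟨1, Or.inl rfl, _, h1, by group⟩
  · exact ⟨t, Or.inr rfl, _, h1, by rw [e3, mul_assoc, ← mul_assoc t, h.tt]; group⟩
theorem cenV {x : G} (e1 : x * t = t * x) (e2 : ∀ a ∈ D.T, x * j a = j a * x) :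
    ∃ v, (v = 1 ∨ v = j D.z) ∧ ∃ u, (u = 1 ∨ u = t) ∧ ∃ o ∈ Oc A t, x = v * u * o := by
  rcases h.F.cz (ρ x) fun a ha => ((h.jcom (h.tN e1) (h.F.sylT.le ha)).1 (e2 a ha)).symm with e3 | e3
  · exact ⟨1, Or.inl rfl, h.decO e1 (one_mem _) (by rw [e3, h.st.one])⟩
  · exact ⟨_, Or.inr rfl, h.decO e1 h.zA (by rw [e3, h.ρj _ h.F.toBs.zY])⟩

/-- PROOF. `N = A ⊔ O` is normalised by `C(t)`.  If `ρ x ∈ Y₀` then `x = a u o` (`decO`), so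
`⁅x, y⁆ ∈ N` for `y ∈ C(t)`; symmetric for `ρ y ∈ Y₀`; if both are outer, `x = x' y` with `ρ x' ∈ Y₀`,
and `⁅x' y, y⁆ = ⁅x', y⁆` up to conjugation.  Then `twA`. -/
theorem res {x : G} (hx : x ∈ ⁅𝐳[t], 𝐳[t]⁆) (x2 : Tw x) : x ∈ A := by
  have key : ∀ x ∈ 𝐳[t], ∀ y ∈ 𝐳[t], ρ x ∈ D.Y₀ → ⁅x, y⁆ ∈ A ⊔ Oc A t := fun x hx y hy e => by
    obtain ⟨a, ha, e1⟩ := h.st.sur _ e
    obtain ⟨u, hu, o, ho, rfl⟩ := h.decO (mem_z.1 hx) ha e1.symm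
    have c : ∀ w, w * t = t * w → u * w * u⁻¹ = w := fun w hw => by
      rcases hu with rfl | rfl
      exacts [by simp, conj_eq_iff.2 hw.symm]
    have m := mul_mem_sup ha ho
    have := mul_mem m (conj_mem_of_mem_normalizer (le_normalizer_sup (L := 𝐳[t])
      (fun y hy => h.tN (mem_z.1 hy)) (fun y hy => h.nO (mem_z.1 hy)) hy) (inv_mem m))
    rwa [commutatorElement_def, show a * u * o * y * (a * u * o)⁻¹ * y⁻¹ =
      a * (u * (o * y * o⁻¹) * u⁻¹) * a⁻¹ * y⁻¹ by group, c _ (mem_z.1 (mul_mem (mul_mem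
        (mem_z.2 (h.Ot ho)) hy) (inv_mem (mem_z.2 (h.Ot ho))))),
      show a * (o * y * o⁻¹) * a⁻¹ * y⁻¹ = a * o * (y * (a * o)⁻¹ * y⁻¹) by group]
  refine h.twA (commutator_le.2 (fun a ha b hb => ?_) hx) x2
  by_cases c1 : ρ b ∈ D.Y₀
  · rw [← commutatorElement_inv]
    exact inv_mem (key b hb a ha c1)
  by_cases c2 : ρ a ∈ D.Y₀
  · exact key a ha b hb c2
  have := key _ (mul_mem ha hb) b hb
    (h.st.mul _ (h.tN (mem_z.1 ha)) _ (h.tN (mem_z.1 hb)) ▸ h.F.idx _ _ c2 c1)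
  rwa [commutatorElement_def, show a * b * b * (a * b)⁻¹ * b⁻¹ = a * b * a⁻¹ * b⁻¹ by group] at this

/-- `res` transported: `y` maps `P` into `C(t)` -/
theorem res' {P : Subgroup G} {y x : G} (hy : ∀ a ∈ P, y * a * y⁻¹ * t = t * (y * a * y⁻¹))
    (hx : x ∈ ⁅P, P⁆) (x2 : Tw x) : y * x * y⁻¹ ∈ A :=
  have e : cj(y, P) ≤ 𝐳[t] := cj_le_iff_forall.2 fun a ha => mem_z.2 (hy a ha)
  h.res (commutator_mono e e (commutator_cj y P P ▸ conj_mem_cj y hx)) (x2.conj y)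

/-- `t` is not conjugate to `j z`: `j z` lies in the commutator subgroup of its centraliser in `A`
(`zd`, `TH`, `pre_comm`); `res'` gives `t ∈ A`. -/
theorem not_z (g : G) : g * t * g⁻¹ ≠ j D.z := fun e => by
  have hw := h.F.toBs.zY
  have c : D.z ∈ ⁅D.C D.z, D.C D.z⁆ := commutator_mono h.F.toBs.TH h.F.toBs.TH h.F.zd
  have e2 : g⁻¹ * j D.z * g⁻¹⁻¹ = t := by rw [← e]; group
  rw [← h.j_pre hw, h.pre_comm inf_le_left inf_le_left, h.pre_C hw] at c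
  exact h.tnA (e2 ▸ h.res' (fun a ha => e2 ▸ conj_comm (mem_z.1 (mem_inf.1 ha).2)) c
    (Wr2.tw_of_sq h.zz))

theorem sw_t {y : G} (hy : Sw' (j D.z) t y) : y * (t * j D.z) * y⁻¹ = t := by
  rw [show y * (t * j D.z) * y⁻¹ = y * t * y⁻¹ * (y * j D.z * y⁻¹) by group, hy.2,
    conj_eq_iff.2 hy.1, mul_assoc, h.zz, mul_one]
theorem sw_c {y x : G} (hy : Sw' (j D.z) t y) (h1 : x * t = t * x)
    (h2 : x * j D.z = j D.z * x) : y * x * y⁻¹ * t = t * (y * x * y⁻¹) := by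
  have := conj_comm (g := y) (show x * (t * j D.z) = t * j D.z * x by
    rw [← mul_assoc, h1, mul_assoc, h2, mul_assoc])
  rwa [h.sw_t hy] at this
theorem sw_mul {y c : G} (hy : Sw' (j D.z) t y) (h1 : c * t = t * c)
    (h2 : c * j D.z = j D.z * c) : Sw' (j D.z) t (c * y) :=
  ⟨by rw [mul_assoc, hy.1, ← mul_assoc, h2, mul_assoc], by
    rw [show c * y * t * (c * y)⁻¹ = c * (y * t * y⁻¹) * c⁻¹ by group, hy.2, conj_eq_iff,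
      ← mul_assoc, h1, mul_assoc, h2, mul_assoc]⟩

end Sy

end Cfsg.Agent.J2W
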