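import Cfsg.Agent.J2W.KT

set_option autoImplicit false
set_option Elab.async false
set_option maxRecDepth 4096

namespace Cfsg.Agent.J2W.K

open Cfsg.Agent.Comp

noncomputable def CzG_S4 : List SD :=
  []

noncomputable def CzG_d3 : SD :=
  ⟨0, 2, [54, 56], lab 2 3 (nat_lit 0x10200000000000000200000000000800000000000008000), 3⟩

noncomputable def CzG_S3 : List SD :=
  CzG_d3 :: CzG_S4

noncomputable def CzG_d2 : SD :=
  ⟨66, 4, [58, 54, 56], lab 3 7 (nat_lit 0x8002100c061810809821b004023008000122000101000804100108404400200000002010000), 6⟩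

noncomputable def CzG_S2 : List SD :=
  CzG_d2 :: CzG_S3

noncomputable def CzG_d1 : SD :=
  ⟨9, 3, [60, 58, 54, 56], lab 3 7 (nat_lit 0x188105201000000000000040400000001000060600c01030c000050c0004046818000082011), 4⟩

noncomputable def CzG_S1 : List SD :=
  CzG_d1 :: CzG_S2

noncomputable def CzG_d0 : SD :=
  ⟨2, 3, [62, 60, 58, 54, 56], lab 4 15 (nat_lit 0x7152040714721275156175133827530034865310080440430464460311265530802400570084121642642322403133120020), 5⟩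

noncomputable def CzG_S0 : List SD :=
  CzG_d0 :: CzG_S1

theorem kx_1 : Known ns (gen ns [[42], [0], [2]]) 68719476735 :=
  kx_0.steps ctx (es := [(27, [17, 6, 16, 9, 18, 14, 20, 26, 24]),
 (28, [42, 4, 8, 16, 18, 24]),
 (29, [16, 6, 19, 10, 14, 18, 26, 24]),
 (30, [20, 12, 0, 15, 8, 22, 26]),
 (31, [42, 12, 4, 12, 8, 16, 18, 22, 26]),
 (32, [4, 8, 16, 18, 24]),
 (33, [42, 4, 17, 12, 8, 15, 18, 24]),
 (34, [42, 16, 9, 18, 14, 20, 22, 26, 24]),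
 (35, [42, 0, 20, 11, 18, 14, 18, 22])]) (by decide +kernel)

theorem CzG_ex : Exact 128 ns CzG_S0 ∧ gen ns (sTop CzG_S0) = gen ns [[42], [0], [2]] ∧ gen ns [[42], [0], [2]] = gen ns [[42], [0], [2]] :=
  exact_of_known ctx hn1 (le_rfl) kx_1 (by decide +kernel)

noncomputable def Cz_as : List (List ℕ) :=
  [[28]]

noncomputable def Cz_p : List (List ℕ × List ℕ) :=
  derAs (dg Cz_as) [[0]]

noncomputable def Cz_s : List (ℕ × ℕ) :=
  derSs 128 7 ns (dg Cz_as) [[0]]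

noncomputable def Cz_k0 : List (List ℕ) :=
  [[70], [68], [66], [64], [56]]

noncomputable def Cz_k1 : List (List ℕ) :=
  [[68], [66], [64], [56]]

noncomputable def Cz_k2 : List (List ℕ) :=
  [[66], [64], [56]]

noncomputable def Cz_k3 : List (List ℕ) :=
  [[64], [56]]

noncomputable def Cz_k4 : List (List ℕ) :=
  []

theorem Cz_cm : commB 128 7 ns (dg Cz_as) Cz_k0 = true :=
  by decide +kernel

theorem Cz_g0 : Good 128 ns Cz_p Cz_s (gen ns (sTop CzG_S0)) Cz_k0 :=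
  good_der ctx kx_1 (CzG_ex.2.1.trans CzG_ex.2.2.symm) _ _ ((and'_eq_true _ _).2 ⟨by decide +kernel, Cz_cm⟩)

theorem Cz_g1 : Good 128 ns Cz_p Cz_s (gen ns (sTop CzG_S1)) Cz_k1 :=
  Cz_g0.tail ctx CzG_ex.1 (by decide +kernel)

theorem Cz_g2 : Good 128 ns Cz_p Cz_s (gen ns (sTop CzG_S2)) Cz_k2 :=
  Cz_g1.tail ctx CzG_ex.1.tail (by decide +kernel)

theorem Cz_g3 : Good 128 ns Cz_p Cz_s (gen ns (sTop CzG_S3)) Cz_k3 :=
  Cz_g2.tail ctx CzG_ex.1.tail.tail (by decide +kernel)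

theorem Cz_l4 : LevX 128 ns Cz_p Cz_s (gen ns (sTop CzG_S4)) Cz_k4 1 :=
  levX_nil _ _ _ _

theorem Cz_l3 : LevX 128 ns Cz_p Cz_s (gen ns (sTop CzG_S3)) Cz_k3 8 :=
  Cz_l4.step ctx CzG_ex.1.tail.tail.tail Cz_g3 (br_zero _ _ _ _ _ _ _) [] 2 2 (by decide +kernel)

theorem Cz_l2 : LevX 128 ns Cz_p Cz_s (gen ns (sTop CzG_S2)) Cz_k2 16 :=
  Cz_l3.step ctx CzG_ex.1.tail.tail Cz_g2 (br_zero _ _ _ _ _ _ _) [] 1 1 (by decide +kernel)

theorem Cz_l1 : LevX 128 ns Cz_p Cz_s (gen ns (sTop CzG_S1)) Cz_k1 192 :=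
  Cz_l2.step ctx CzG_ex.1.tail Cz_g1 (br_zero _ _ _ _ _ _ _) [] 3 3 (by decide +kernel)

theorem Cz_l0 : LevX 128 ns Cz_p Cz_s (gen ns (sTop CzG_S0)) Cz_k0 3840 :=
  Cz_l1.step ctx CzG_ex.1 Cz_g0 (br_zero _ _ _ _ _ _ _) [] 2 2 (by decide +kernel)

theorem Cz : CentEq ns (gen ns [[42], [0], [2]]) Cz_as Cz_k0 3840 :=
  centEq_of ctx CzG_ex.2.1 Cz_l0 Cz_g0 Cz_cm

noncomputable def ChG_S4 : List SD :=
  []

noncomputable def ChG_d3 : SD :=
  ⟨0, 3, [54], lab 1 1 (nat_lit 0x100000000000000000000000), 2⟩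

noncomputable def ChG_S3 : List SD :=
  ChG_d3 :: ChG_S4

noncomputable def ChG_d2 : SD :=
  ⟨66, 7, [72, 54], lab 2 3 (nat_lit 0x804810c13418c908070c002a01301001001883700000010000), 7⟩

noncomputable def ChG_S2 : List SD :=
  ChG_d2 :: ChG_S3

noncomputable def ChG_d1 : SD :=
  ⟨9, 4, [74, 72, 54], lab 3 7 (nat_lit 0x500c02020000000000008c0600000100400080400205008602001000001044420000a0280b), 4⟩

noncomputable def ChG_S1 : List SD :=
  ChG_d1 :: ChG_S2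

noncomputable def ChG_d0 : SD :=
  ⟨2, 3, [76, 74, 72, 54], lab 3 7 (nat_lit 0xb1588eac28c0baaa68b61d1f809613785352d5125f3cf019960bbb0bac4a0a608ac5ced1a2f), 5⟩

noncomputable def ChG_S0 : List SD :=
  ChG_d0 :: ChG_S1

theorem kn_2 : Known ns (gen ns [[0], [2]]) 8731934851071 :=
  kn_1.steps ctx (es := [(27, [17, 6, 16, 9, 18, 14, 20, 26, 24]),
 (36, [12, 4, 11, 8, 14, 14, 24]),
 (37, [3, 11, 22]),
 (38, [4, 13, 0, 12, 10, 18, 14, 18, 22, 24]),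
 (32, [4, 8, 16, 18, 24]),
 (39, [9, 6, 17, 8, 16, 18, 22, 26, 24]),
 (40, [14, 0, 15, 10, 18, 14, 18, 22]),
 (41, [11, 6, 15, 10, 18, 14, 18, 22, 24]),
 (42, [14, 3, 0, 13, 8, 16, 20, 22, 26])]) (by decide +kernel)

theorem ChG_ex : Exact 128 ns ChG_S0 ∧ gen ns (sTop ChG_S0) = gen ns [[0], [2]] ∧ gen ns [[0], [2]] = gen ns [[0], [2]] :=
  exact_of_known ctx hn (le_rfl) kn_2 (by decide +kernel)

noncomputable def Ch_as : List (List ℕ) :=
  [[28]]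

noncomputable def Ch_p : List (List ℕ × List ℕ) :=
  derAs (dg Ch_as) [[0]]

noncomputable def Ch_s : List (ℕ × ℕ) :=
  derSs 128 7 ns (dg Ch_as) [[0]]

noncomputable def Ch_k0 : List (List ℕ) :=
  [[84], [80], [82], [78], [64]]

noncomputable def Ch_k1 : List (List ℕ) :=
  [[80], [82], [78], [64]]

noncomputable def Ch_k2 : List (List ℕ) :=
  [[78], [64]]

noncomputable def Ch_k3 : List (List ℕ) :=
  [[64]]

noncomputable def Ch_k4 : List (List ℕ) :=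
  []

theorem Ch_cm : commB 128 7 ns (dg Ch_as) Ch_k0 = true :=
  by decide +kernel

theorem Ch_g0 : Good 128 ns Ch_p Ch_s (gen ns (sTop ChG_S0)) Ch_k0 :=
  good_der ctx kn_2 (ChG_ex.2.1.trans ChG_ex.2.2.symm) _ _ ((and'_eq_true _ _).2 ⟨by decide +kernel, Ch_cm⟩)

theorem Ch_g1 : Good 128 ns Ch_p Ch_s (gen ns (sTop ChG_S1)) Ch_k1 :=
  Ch_g0.tail ctx ChG_ex.1 (by decide +kernel)

theorem Ch_g2 : Good 128 ns Ch_p Ch_s (gen ns (sTop ChG_S2)) Ch_k2 :=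
  Ch_g1.tail ctx ChG_ex.1.tail (by decide +kernel)

theorem Ch_g3 : Good 128 ns Ch_p Ch_s (gen ns (sTop ChG_S3)) Ch_k3 :=
  Ch_g2.tail ctx ChG_ex.1.tail.tail (by decide +kernel)

theorem Ch_l4 : LevX 128 ns Ch_p Ch_s (gen ns (sTop ChG_S4)) Ch_k4 1 :=
  levX_nil _ _ _ _

theorem Ch_l3 : LevX 128 ns Ch_p Ch_s (gen ns (sTop ChG_S3)) Ch_k3 4 :=
  Ch_l4.step ctx ChG_ex.1.tail.tail.tail Ch_g3 (br_zero _ _ _ _ _ _ _) [] 3 3 (by decide +kernel)

theorem Ch_l2 : LevX 128 ns Ch_p Ch_s (gen ns (sTop ChG_S2)) Ch_k2 8 :=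
  Ch_l3.step ctx ChG_ex.1.tail.tail Ch_g2 (br_zero _ _ _ _ _ _ _) [] 1 1 (by decide +kernel)

theorem Ch_l1 : LevX 128 ns Ch_p Ch_s (gen ns (sTop ChG_S1)) Ch_k1 96 :=
  Ch_l2.step ctx ChG_ex.1.tail Ch_g1 (br_zero _ _ _ _ _ _ _) [] 2 2 (by decide +kernel)

theorem Ch_l0 : LevX 128 ns Ch_p Ch_s (gen ns (sTop ChG_S0)) Ch_k0 1920 :=
  Ch_l1.step ctx ChG_ex.1 Ch_g0 (br_zero _ _ _ _ _ _ _) [] 2 2 (by decide +kernel)

theorem Ch : CentEq ns (gen ns [[0], [2]]) Ch_as Ch_k0 1920 :=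
  centEq_of ctx ChG_ex.2.1 Ch_l0 Ch_g0 Ch_cm

noncomputable def CuG_S4 : List SD :=
  []

noncomputable def CuG_d3 : SD :=
  ⟨10, 4, [86, 88], lab 2 3 (nat_lit 0x820c008020000c400c30a00c200b041004802000000), 5⟩

noncomputable def CuG_S3 : List SD :=
  CuG_d3 :: CuG_S4

noncomputable def CuG_d2 : SD :=
  ⟨94, 3, [90, 86, 88], lab 3 7 (nat_lit 0xc00040050000000000000000000000800000000000000082000000000030c0000000000002), 4⟩

noncomputable def CuG_S2 : List SD :=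
  CuG_d2 :: CuG_S3

noncomputable def CuG_d1 : SD :=
  ⟨91, 4, [92, 90, 86, 88], lab 3 7 (nat_lit 0x1f0045000000000000000b404002000008001e8200002038002006198000101828018006e01), 5⟩

noncomputable def CuG_S1 : List SD :=
  CuG_d1 :: CuG_S2

noncomputable def CuG_d0 : SD :=
  ⟨2, 3, [94, 92, 90, 86, 88], lab 4 15 (nat_lit 0x6003103035086889781384256882717659931526924114674109420264119415793124015558242151726568305510340042), 4⟩

noncomputable def CuG_S0 : List SD :=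
  CuG_d0 :: CuG_S1

theorem kx_2 : Known ns (gen ns [[42], [0], [2]]) 2243072440139775 :=
  kx_1.steps ctx (es := [(43, [17, 6, 12, 14, 14, 20, 22]),
 (44, [2, 20, 2, 21, 9, 17, 20, 22, 26]),
 (45, [42, 3, 14, 4, 8, 12, 20, 26]),
 (46, [42, 4, 3, 15, 9, 14, 24]),
 (47, [15, 8, 4, 15, 8, 18, 14, 20]),
 (48, [18, 22, 26]),
 (49, [42, 9, 6, 10, 13, 14, 20, 26]),
 (50, [22, 6, 22, 8, 16, 18, 22, 26])]) (by decide +kernel)

theorem CuG_ex : Exact 128 ns CuG_S0 ∧ gen ns (sTop CuG_S0) = gen ns [[42], [0], [2]] ∧ gen ns [[42], [0], [2]] = gen ns [[42], [0], [2]] :=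
  exact_of_known ctx hn1 (le_rfl) kx_2 (by decide +kernel)

noncomputable def Cu_as : List (List ℕ) :=
  [[32]]

noncomputable def Cu_p : List (List ℕ × List ℕ) :=
  derAs (dg Cu_as) [[0]]

noncomputable def Cu_s : List (ℕ × ℕ) :=
  derSs 128 7 ns (dg Cu_as) [[0]]

noncomputable def Cu_k0 : List (List ℕ) :=
  [[100], [98], [96], [28]]

noncomputable def Cu_k1 : List (List ℕ) :=
  [[98], [96], [28]]

noncomputable def Cu_k2 : List (List ℕ) :=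
  [[98], [96], [28]]

noncomputable def Cu_k3 : List (List ℕ) :=
  [[96], [28]]

noncomputable def Cu_k4 : List (List ℕ) :=
  []

theorem Cu_cm : commB 128 7 ns (dg Cu_as) Cu_k0 = true :=
  by decide +kernel

theorem Cu_g0 : Good 128 ns Cu_p Cu_s (gen ns (sTop CuG_S0)) Cu_k0 :=
  good_der ctx kx_2 (CuG_ex.2.1.trans CuG_ex.2.2.symm) _ _ ((and'_eq_true _ _).2 ⟨by decide +kernel, Cu_cm⟩)

theorem Cu_g1 : Good 128 ns Cu_p Cu_s (gen ns (sTop CuG_S1)) Cu_k1 :=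
  Cu_g0.tail ctx CuG_ex.1 (by decide +kernel)

theorem Cu_g2 : Good 128 ns Cu_p Cu_s (gen ns (sTop CuG_S2)) Cu_k2 :=
  Cu_g1.tail ctx CuG_ex.1.tail (by decide +kernel)

theorem Cu_g3 : Good 128 ns Cu_p Cu_s (gen ns (sTop CuG_S3)) Cu_k3 :=
  Cu_g2.tail ctx CuG_ex.1.tail.tail (by decide +kernel)

theorem Cu_l4 : LevX 128 ns Cu_p Cu_s (gen ns (sTop CuG_S4)) Cu_k4 1 :=
  levX_nil _ _ _ _

theorem Cu_l3 : LevX 128 ns Cu_p Cu_s (gen ns (sTop CuG_S3)) Cu_k3 6 :=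
  Cu_l4.step ctx CuG_ex.1.tail.tail.tail Cu_g3 (br_zero _ _ _ _ _ _ _) [(0, 62, 3)] 2 2 (by decide +kernel)

theorem Cu_c2_37 : Br 128 ns Cu_p Cu_s (gen ns (sTop CuG_S2)) CuG_d2.p (Nat.shiftLeft 1 37) (InCs ns CuG_S2 []) :=
  br_of_cnt ctx CuG_ex.1.tail.tail [91, 91] (.pair 38 1 1 2 0) (by decide +kernel) _

noncomputable def Cu_B2_cs : List (List ℕ) :=
  []

noncomputable def Cu_B2_pl : List Pl :=
  [⟨.lst 0, []⟩, ⟨.free, []⟩]

noncomputable def Cu_B2_M0 : ℕ :=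
  nat_lit 0x800000000

theorem Cu_B2_b0 : Br 128 ns Cu_p Cu_s (gen ns (sTop CuG_S2)) CuG_d2.p Cu_B2_M0 (InCs ns CuG_S2 Cu_B2_cs) :=
  br_of_brB ctx hE CuG_ex.1.tail.tail (pl := Cu_B2_pl) (bs := [91, 2]) (tps := [52]) (by decide +kernel)

theorem Cu_l2 : LevX 128 ns Cu_p Cu_s (gen ns (sTop CuG_S2)) Cu_k2 12 :=
  Cu_l3.step ctx CuG_ex.1.tail.tail Cu_g2 (((br_zero _ _ _ _ _ _ _).lor Cu_c2_37).lor Cu_B2_b0) [] 1 1 (by decide +kernel)

theorem Cu_l1 : LevX 128 ns Cu_p Cu_s (gen ns (sTop CuG_S1)) Cu_k1 12 :=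
  Cu_l2.step ctx CuG_ex.1.tail Cu_g1 (br_zero _ _ _ _ _ _ _) [(0, 2, 0)] 0 0 (by decide +kernel)

theorem Cu_c0_41 : Br 128 ns Cu_p Cu_s (gen ns (sTop CuG_S0)) CuG_d0.p (Nat.shiftLeft 1 41) (InCs ns CuG_S0 []) :=
  br_of_cnt ctx CuG_ex.1 [95] (.pair 0 3 2 0 0) (by decide +kernel) _

theorem Cu_l0 : LevX 128 ns Cu_p Cu_s (gen ns (sTop CuG_S0)) Cu_k0 480 :=
  Cu_l1.step ctx CuG_ex.1 Cu_g0 ((br_zero _ _ _ _ _ _ _).lor Cu_c0_41) [] 5 5 (by decide +kernel)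

theorem Cu : CentEq ns (gen ns [[42], [0], [2]]) Cu_as Cu_k0 480 :=
  centEq_of ctx CuG_ex.2.1 Cu_l0 Cu_g0 Cu_cm

noncomputable def CvG_S4 : List SD :=
  []

noncomputable def CvG_d3 : SD :=
  ⟨10, 4, [88, 102], lab 2 3 (nat_lit 0x108004010000002082010042008000008800000000), 6⟩

noncomputable def CvG_S3 : List SD :=
  CvG_d3 :: CvG_S4

noncomputable def CvG_d2 : SD :=
  ⟨94, 2, [104, 88, 102], lab 3 7 (nat_lit 0x3000000000000000000000000000000000000000000000000000001000000000000002), 3⟩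

noncomputable def CvG_S2 : List SD :=
  CvG_d2 :: CvG_S3

noncomputable def CvG_d1 : SD :=
  ⟨91, 3, [106, 104, 88, 102], lab 3 7 (nat_lit 0x680060010000000000001802000000064001300002040106030030880030454200084c0231), 4⟩

noncomputable def CvG_S1 : List SD :=
  CvG_d1 :: CvG_S2

noncomputable def CvG_d0 : SD :=
  ⟨2, 3, [108, 106, 104, 88, 102], lab 4 15 (nat_lit 0x1112058122408556660503303203503216487307703113228531187201814602172784084043828344353002475881402012), 4⟩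

noncomputable def CvG_S0 : List SD :=
  CvG_d0 :: CvG_S1

theorem kn_3 : Known ns (gen ns [[0], [2]]) 574235276610633727 :=
  kn_2.steps ctx (es := [(44, [2, 20, 2, 21, 9, 17, 20, 22, 26]),
 (51, [17, 6, 12, 14, 14, 18, 22, 24]),
 (52, [4, 22, 8, 16, 20, 22, 26]),
 (53, [13, 3, 22, 12, 18, 14, 18]),
 (54, [2, 20, 2, 12, 8, 15, 22, 26, 24]),
 (55, [9, 6, 10, 13, 14, 18, 22, 26, 24]),
 (56, [10, 4, 8, 24]),
 (57, [17, 2, 16, 9, 15, 20, 22, 26, 24]),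
 (58, [0, 12, 0, 12, 9, 14, 20, 22])]) (by decide +kernel)

theorem CvG_ex : Exact 128 ns CvG_S0 ∧ gen ns (sTop CvG_S0) = gen ns [[0], [2]] ∧ gen ns [[0], [2]] = gen ns [[0], [2]] :=
  exact_of_known ctx hn (le_rfl) kn_3 (by decide +kernel)

noncomputable def Cv_as : List (List ℕ) :=
  [[32]]

noncomputable def Cv_p : List (List ℕ × List ℕ) :=
  derAs (dg Cv_as) [[0]]

noncomputable def Cv_s : List (ℕ × ℕ) :=
  derSs 128 7 ns (dg Cv_as) [[0]]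

noncomputable def Cv_k0 : List (List ℕ) :=
  [[114], [116], [110], [112]]

noncomputable def Cv_k1 : List (List ℕ) :=
  [[110], [112]]

noncomputable def Cv_k2 : List (List ℕ) :=
  [[110], [112]]

noncomputable def Cv_k3 : List (List ℕ) :=
  [[110], [112]]

noncomputable def Cv_k4 : List (List ℕ) :=
  []

theorem Cv_cm : commB 128 7 ns (dg Cv_as) Cv_k0 = true :=
  by decide +kernel

theorem Cv_g0 : Good 128 ns Cv_p Cv_s (gen ns (sTop CvG_S0)) Cv_k0 :=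
  good_der ctx kn_3 (CvG_ex.2.1.trans CvG_ex.2.2.symm) _ _ ((and'_eq_true _ _).2 ⟨by decide +kernel, Cv_cm⟩)

theorem Cv_g1 : Good 128 ns Cv_p Cv_s (gen ns (sTop CvG_S1)) Cv_k1 :=
  Cv_g0.tail ctx CvG_ex.1 (by decide +kernel)

theorem Cv_g2 : Good 128 ns Cv_p Cv_s (gen ns (sTop CvG_S2)) Cv_k2 :=
  Cv_g1.tail ctx CvG_ex.1.tail (by decide +kernel)

theorem Cv_g3 : Good 128 ns Cv_p Cv_s (gen ns (sTop CvG_S3)) Cv_k3 :=
  Cv_g2.tail ctx CvG_ex.1.tail.tail (by decide +kernel)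

theorem Cv_l4 : LevX 128 ns Cv_p Cv_s (gen ns (sTop CvG_S4)) Cv_k4 1 :=
  levX_nil _ _ _ _

theorem Cv_l3 : LevX 128 ns Cv_p Cv_s (gen ns (sTop CvG_S3)) Cv_k3 6 :=
  Cv_l4.step ctx CvG_ex.1.tail.tail.tail Cv_g3 (br_zero _ _ _ _ _ _ _) [(0, 62, 2)] 2 2 (by decide +kernel)

theorem Cv_c2_37 : Br 128 ns Cv_p Cv_s (gen ns (sTop CvG_S2)) CvG_d2.p (Nat.shiftLeft 1 37) (InCs ns CvG_S2 []) :=
  br_of_cnt ctx CvG_ex.1.tail.tail [104] (.pair 38 1 1 3 0) (by decide +kernel) _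

noncomputable def Cv_B2_cs : List (List ℕ) :=
  []

noncomputable def Cv_B2_pl : List Pl :=
  [⟨.lst 0, []⟩, ⟨.free, []⟩]

noncomputable def Cv_B2_M0 : ℕ :=
  nat_lit 0x100000

theorem Cv_B2_b0 : Br 128 ns Cv_p Cv_s (gen ns (sTop CvG_S2)) CvG_d2.p Cv_B2_M0 (InCs ns CvG_S2 Cv_B2_cs) :=
  br_of_brB ctx hE CvG_ex.1.tail.tail (pl := Cv_B2_pl) (bs := [91, 2]) (tps := [6, 61]) (by decide +kernel)

theorem Cv_l2 : LevX 128 ns Cv_p Cv_s (gen ns (sTop CvG_S2)) Cv_k2 6 :=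
  Cv_l3.step ctx CvG_ex.1.tail.tail Cv_g2 (((br_zero _ _ _ _ _ _ _).lor Cv_c2_37).lor Cv_B2_b0) [] 1 0 (by decide +kernel)

theorem Cv_l1 : LevX 128 ns Cv_p Cv_s (gen ns (sTop CvG_S1)) Cv_k1 6 :=
  Cv_l2.step ctx CvG_ex.1.tail Cv_g1 (br_zero _ _ _ _ _ _ _) [(0, 2, 0)] 0 0 (by decide +kernel)

theorem Cv_c0_42 : Br 128 ns Cv_p Cv_s (gen ns (sTop CvG_S0)) CvG_d0.p (Nat.shiftLeft 1 42) (InCs ns CvG_S0 []) :=
  br_of_cnt ctx CvG_ex.1 [109] (.pair 0 3 2 0 0) (by decide +kernel) _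

theorem Cv_l0 : LevX 128 ns Cv_p Cv_s (gen ns (sTop CvG_S0)) Cv_k0 240 :=
  Cv_l1.step ctx CvG_ex.1 Cv_g0 ((br_zero _ _ _ _ _ _ _).lor Cv_c0_42) [] 3 3 (by decide +kernel)

theorem Cv : CentEq ns (gen ns [[0], [2]]) Cv_as Cv_k0 240 :=
  centEq_of ctx CvG_ex.2.1 Cv_l0 Cv_g0 Cv_cm

noncomputable def CsG_S5 : List SD :=
  []

noncomputable def CsG_d4 : SD :=
  ⟨0, 1, [42], lab 1 1 0, 1⟩

noncomputable def CsG_S4 : List SD :=
  CsG_d4 :: CsG_S5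

noncomputable def CsG_d3 : SD :=
  ⟨42, 4, [118, 42], lab 2 3 (nat_lit 0x101000000100000000000000000000000000000000), 4⟩

noncomputable def CsG_S3 : List SD :=
  CsG_d3 :: CsG_S4

noncomputable def CsG_d2 : SD :=
  ⟨26, 3, [120, 118, 42], lab 3 7 (nat_lit 0x2010000000000000006000000c1000000200001000601000000002002000000000210), 4⟩

noncomputable def CsG_S2 : List SD :=
  CsG_d2 :: CsG_S3

noncomputable def CsG_d1 : SD :=
  ⟨9, 3, [122, 120, 118, 42], lab 3 7 (nat_lit 0xd80c2000000000000000200000a001816001202008050000000020500051808280002c1809), 4⟩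

noncomputable def CsG_S1 : List SD :=
  CsG_d1 :: CsG_S2

noncomputable def CsG_d0 : SD :=
  ⟨2, 3, [124, 122, 120, 118, 42], lab 4 15 (nat_lit 0x541362501560577700650545434488015063020000010300351701372260041844132428265318267170105101731111048), 5⟩

noncomputable def CsG_S0 : List SD :=
  CsG_d0 :: CsG_S1

theorem kx_3 : Known ns (gen ns [[42], [0], [2]]) 73212758614974922751 :=
  kx_2.steps ctx (es := [(59, [42, 15, 7, 15, 9, 18]),
 (60, [19, 3, 20, 11, 18, 22, 26, 24]),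
 (61, [18, 7, 13, 8, 15, 20]),
 (62, [12, 4, 12, 9]),
 (63, [42, 15, 7, 15, 9, 18, 26, 24]),
 (64, [9, 6, 10, 13, 14]),
 (65, [42, 4, 8, 0, 22, 12, 18, 22, 26, 24])]) (by decide +kernel)

theorem CsG_ex : Exact 128 ns CsG_S0 ∧ gen ns (sTop CsG_S0) = gen ns [[42], [0], [2]] ∧ gen ns [[42], [0], [2]] = gen ns [[42], [0], [2]] :=
  exact_of_known ctx hn1 (le_rfl) kx_3 (by decide +kernel)

noncomputable def Cs_as : List (List ℕ) :=
  [[42]]

noncomputable def Cs_p : List (List ℕ × List ℕ) :=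
  derAs (dg Cs_as) [[0]]

noncomputable def Cs_s : List (ℕ × ℕ) :=
  derSs 128 7 ns (dg Cs_as) [[0]]

noncomputable def Cs_k0 : List (List ℕ) :=
  [[130], [128], [28], [126], [42]]

noncomputable def Cs_k1 : List (List ℕ) :=
  [[128], [28], [126], [42]]

noncomputable def Cs_k2 : List (List ℕ) :=
  [[28], [126], [42]]

noncomputable def Cs_k3 : List (List ℕ) :=
  [[126], [42]]

noncomputable def Cs_k4 : List (List ℕ) :=
  [[42]]

noncomputable def Cs_k5 : List (List ℕ) :=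
  []

theorem Cs_cm : commB 128 7 ns (dg Cs_as) Cs_k0 = true :=
  by decide +kernel

theorem Cs_g0 : Good 128 ns Cs_p Cs_s (gen ns (sTop CsG_S0)) Cs_k0 :=
  good_der ctx kx_3 (CsG_ex.2.1.trans CsG_ex.2.2.symm) _ _ ((and'_eq_true _ _).2 ⟨by decide +kernel, Cs_cm⟩)

theorem Cs_g1 : Good 128 ns Cs_p Cs_s (gen ns (sTop CsG_S1)) Cs_k1 :=
  Cs_g0.tail ctx CsG_ex.1 (by decide +kernel)

theorem Cs_g2 : Good 128 ns Cs_p Cs_s (gen ns (sTop CsG_S2)) Cs_k2 :=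
  Cs_g1.tail ctx CsG_ex.1.tail (by decide +kernel)

theorem Cs_g3 : Good 128 ns Cs_p Cs_s (gen ns (sTop CsG_S3)) Cs_k3 :=
  Cs_g2.tail ctx CsG_ex.1.tail.tail (by decide +kernel)

theorem Cs_g4 : Good 128 ns Cs_p Cs_s (gen ns (sTop CsG_S4)) Cs_k4 :=
  Cs_g3.tail ctx CsG_ex.1.tail.tail.tail (by decide +kernel)

theorem Cs_l5 : LevX 128 ns Cs_p Cs_s (gen ns (sTop CsG_S5)) Cs_k5 1 :=
  levX_nil _ _ _ _

theorem Cs_l4 : LevX 128 ns Cs_p Cs_s (gen ns (sTop CsG_S4)) Cs_k4 2 :=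
  Cs_l5.step ctx CsG_ex.1.tail.tail.tail.tail Cs_g4 (br_zero _ _ _ _ _ _ _) [] 1 1 (by decide +kernel)

theorem Cs_l3 : LevX 128 ns Cs_p Cs_s (gen ns (sTop CsG_S3)) Cs_k3 4 :=
  Cs_l4.step ctx CsG_ex.1.tail.tail.tail Cs_g3 (br_zero _ _ _ _ _ _ _) [] 1 1 (by decide +kernel)

theorem Cs_l2 : LevX 128 ns Cs_p Cs_s (gen ns (sTop CsG_S2)) Cs_k2 12 :=
  Cs_l3.step ctx CsG_ex.1.tail.tail Cs_g2 (br_zero _ _ _ _ _ _ _) [] 1 1 (by decide +kernel)

theorem Cs_l1 : LevX 128 ns Cs_p Cs_s (gen ns (sTop CsG_S1)) Cs_k1 48 :=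
  Cs_l2.step ctx CsG_ex.1.tail Cs_g1 (br_zero _ _ _ _ _ _ _) [] 1 1 (by decide +kernel)

theorem Cs_l0 : LevX 128 ns Cs_p Cs_s (gen ns (sTop CsG_S0)) Cs_k0 672 :=
  Cs_l1.step ctx CsG_ex.1 Cs_g0 (br_zero _ _ _ _ _ _ _) [] 3 3 (by decide +kernel)

theorem Cs : CentEq ns (gen ns [[42], [0], [2]]) Cs_as Cs_k0 672 :=
  centEq_of ctx CsG_ex.2.1 Cs_l0 Cs_g0 Cs_cm

noncomputable def CdG_S4 : List SD :=
  []

noncomputable def CdG_d3 : SD :=
  ⟨0, 2, [132, 134], lab 2 3 (nat_lit 0x800008000000000000), 3⟩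

noncomputable def CdG_S3 : List SD :=
  CdG_d3 :: CdG_S4

noncomputable def CdG_d2 : SD :=
  ⟨19, 4, [136, 132, 134], lab 3 7 (nat_lit 0x20200009101080000040020000080100a1001000000400000420200100000002400020000), 6⟩

noncomputable def CdG_S2 : List SD :=
  CdG_d2 :: CdG_S3

noncomputable def CdG_d1 : SD :=
  ⟨76, 3, [138, 136, 132, 134], lab 3 7 (nat_lit 0x4008080409194013902e00091010202080a3c030501a04000082b0203600410101184030000), 5⟩

noncomputable def CdG_S1 : List SD :=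
  CdG_d1 :: CdG_S2

noncomputable def CdG_d0 : SD :=
  ⟨2, 3, [140, 138, 136, 132, 134], lab 4 15 (nat_lit 0x6835023003216551102338621320140116640503580234503145544488604312413822331602342816541614252211422003), 5⟩

noncomputable def CdG_S0 : List SD :=
  CdG_d0 :: CdG_S1

theorem kx_4 : Known ns (gen ns [[42], [0], [2]]) 37778357645277298425855 :=
  kx_3.steps ctx (es := [(66, [42, 20, 3, 11, 18, 22, 26]),
 (67, [42, 10, 7, 10, 9, 18]),
 (68, [20, 3, 16, 9, 16, 20, 26, 24]),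
 (69, [42, 18, 7, 13, 8, 15, 20, 24]),
 (70, [42, 17, 2, 10, 8, 18, 14, 18, 22]),
 (71, [13, 3, 14, 8, 20, 26]),
 (72, [42, 12, 4, 17, 12, 8, 17, 18, 24]),
 (73, [42, 11, 6, 10, 8, 17, 20, 26, 24]),
 (74, [42, 7, 16, 2, 17, 8, 17, 20, 22, 24])]) (by decide +kernel)

theorem CdG_ex : Exact 128 ns CdG_S0 ∧ gen ns (sTop CdG_S0) = gen ns [[42], [0], [2]] ∧ gen ns [[42], [0], [2]] = gen ns [[42], [0], [2]] :=
  exact_of_known ctx hn1 (le_rfl) kx_4 (by decide +kernel)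

noncomputable def Cd_as : List (List ℕ) :=
  [[28], [30]]

noncomputable def Cd_p : List (List ℕ × List ℕ) :=
  derAs (dg Cd_as) [[0], [2]]

noncomputable def Cd_s : List (ℕ × ℕ) :=
  derSs 128 7 ns (dg Cd_as) [[0], [2]]

noncomputable def Cd_k0 : List (List ℕ) :=
  [[148], [146], [142], [144]]

noncomputable def Cd_k1 : List (List ℕ) :=
  [[146], [142], [144]]

noncomputable def Cd_k2 : List (List ℕ) :=
  [[146], [142], [144]]

noncomputable def Cd_k3 : List (List ℕ) :=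
  [[142], [144]]

noncomputable def Cd_k4 : List (List ℕ) :=
  []

theorem Cd_cm : commB 128 7 ns (dg Cd_as) Cd_k0 = true :=
  by decide +kernel

theorem Cd_g0 : Good 128 ns Cd_p Cd_s (gen ns (sTop CdG_S0)) Cd_k0 :=
  good_der ctx kx_4 (CdG_ex.2.1.trans CdG_ex.2.2.symm) _ _ ((and'_eq_true _ _).2 ⟨by decide +kernel, Cd_cm⟩)

theorem Cd_g1 : Good 128 ns Cd_p Cd_s (gen ns (sTop CdG_S1)) Cd_k1 :=
  Cd_g0.tail ctx CdG_ex.1 (by decide +kernel)

theorem Cd_g2 : Good 128 ns Cd_p Cd_s (gen ns (sTop CdG_S2)) Cd_k2 :=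
  Cd_g1.tail ctx CdG_ex.1.tail (by decide +kernel)

theorem Cd_g3 : Good 128 ns Cd_p Cd_s (gen ns (sTop CdG_S3)) Cd_k3 :=
  Cd_g2.tail ctx CdG_ex.1.tail.tail (by decide +kernel)

theorem Cd_l4 : LevX 128 ns Cd_p Cd_s (gen ns (sTop CdG_S4)) Cd_k4 1 :=
  levX_nil _ _ _ _

theorem Cd_l3 : LevX 128 ns Cd_p Cd_s (gen ns (sTop CdG_S3)) Cd_k3 6 :=
  Cd_l4.step ctx CdG_ex.1.tail.tail.tail Cd_g3 (br_zero _ _ _ _ _ _ _) [] 2 2 (by decide +kernel)

theorem Cd_l2 : LevX 128 ns Cd_p Cd_s (gen ns (sTop CdG_S2)) Cd_k2 48 :=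
  Cd_l3.step ctx CdG_ex.1.tail.tail Cd_g2 (br_zero _ _ _ _ _ _ _) [] 3 3 (by decide +kernel)

theorem Cd_l1 : LevX 128 ns Cd_p Cd_s (gen ns (sTop CdG_S1)) Cd_k1 48 :=
  Cd_l2.step ctx CdG_ex.1.tail Cd_g1 (br_zero _ _ _ _ _ _ _) [] 0 0 (by decide +kernel)

theorem Cd_l0 : LevX 128 ns Cd_p Cd_s (gen ns (sTop CdG_S0)) Cd_k0 384 :=
  Cd_l1.step ctx CdG_ex.1 Cd_g0 (br_zero _ _ _ _ _ _ _) [] 2 2 (by decide +kernel)

theorem Cd : CentEq ns (gen ns [[42], [0], [2]]) Cd_as Cd_k0 384 :=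
  centEq_of ctx CdG_ex.2.1 Cd_l0 Cd_g0 Cd_cm

noncomputable def CpG_S4 : List SD :=
  []

noncomputable def CpG_d3 : SD :=
  ⟨0, 2, [80], lab 1 1 2, 1⟩

noncomputable def CpG_S3 : List SD :=
  CpG_d3 :: CpG_S4

noncomputable def CpG_d2 : SD :=
  ⟨19, 6, [150, 80], lab 2 3 (nat_lit 0x300008c00000100000000284000248100d400200001c00800), 6⟩

noncomputable def CpG_S2 : List SD :=
  CpG_d2 :: CpG_S3

noncomputable def CpG_d1 : SD :=
  ⟨76, 4, [152, 150, 80], lab 3 7 (nat_lit 0xa052081105589001200e300905208161804820012a0c89421204e80038082280c0605008000), 5⟩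

noncomputable def CpG_S1 : List SD :=
  CpG_d1 :: CpG_S2

noncomputable def CpG_d0 : SD :=
  ⟨2, 3, [154, 152, 150, 80], lab 3 7 (nat_lit 0x3e06d0f51690523ef22726751aa2ac6a8f5595b5e223f86c771b30fd67d172cd85ac2198403), 5⟩

noncomputable def CpG_S0 : List SD :=
  CpG_d0 :: CpG_S1

theorem kn_4 : Known ns (gen ns [[0], [2]]) 1171147461986948623630335 :=
  kn_3.steps ctx (es := [(75, [14, 0, 10, 9, 14, 20, 26]),
 (76, [16, 6, 15, 10, 14, 20, 22, 26, 24]),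
 (77, [19, 10, 14, 20, 22, 26]),
 (78, [8, 0, 10, 8, 16, 20, 22]),
 (79, [8, 4, 21, 10, 14, 14, 18, 26, 24])]) (by decide +kernel)

theorem CpG_ex : Exact 128 ns CpG_S0 ∧ gen ns (sTop CpG_S0) = gen ns [[0], [2]] ∧ gen ns [[0], [2]] = gen ns [[0], [2]] :=
  exact_of_known ctx hn (le_rfl) kn_4 (by decide +kernel)

noncomputable def Cp_as : List (List ℕ) :=
  [[28], [30]]

noncomputable def Cp_p : List (List ℕ × List ℕ) :=
  derAs (dg Cp_as) [[0], [2]]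

noncomputable def Cp_s : List (ℕ × ℕ) :=
  derSs 128 7 ns (dg Cp_as) [[0], [2]]

noncomputable def Cp_k0 : List (List ℕ) :=
  [[158], [156], [80]]

noncomputable def Cp_k1 : List (List ℕ) :=
  [[156], [80]]

noncomputable def Cp_k2 : List (List ℕ) :=
  [[156], [80]]

noncomputable def Cp_k3 : List (List ℕ) :=
  [[80]]

noncomputable def Cp_k4 : List (List ℕ) :=
  []

theorem Cp_cm : commB 128 7 ns (dg Cp_as) Cp_k0 = true :=
  by decide +kernel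

theorem Cp_g0 : Good 128 ns Cp_p Cp_s (gen ns (sTop CpG_S0)) Cp_k0 :=
  good_der ctx kn_4 (CpG_ex.2.1.trans CpG_ex.2.2.symm) _ _ ((and'_eq_true _ _).2 ⟨by decide +kernel, Cp_cm⟩)

theorem Cp_g1 : Good 128 ns Cp_p Cp_s (gen ns (sTop CpG_S1)) Cp_k1 :=
  Cp_g0.tail ctx CpG_ex.1 (by decide +kernel)

theorem Cp_g2 : Good 128 ns Cp_p Cp_s (gen ns (sTop CpG_S2)) Cp_k2 :=
  Cp_g1.tail ctx CpG_ex.1.tail (by decide +kernel)

theorem Cp_g3 : Good 128 ns Cp_p Cp_s (gen ns (sTop CpG_S3)) Cp_k3 :=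
  Cp_g2.tail ctx CpG_ex.1.tail.tail (by decide +kernel)

theorem Cp_l4 : LevX 128 ns Cp_p Cp_s (gen ns (sTop CpG_S4)) Cp_k4 1 :=
  levX_nil _ _ _ _

theorem Cp_l3 : LevX 128 ns Cp_p Cp_s (gen ns (sTop CpG_S3)) Cp_k3 3 :=
  Cp_l4.step ctx CpG_ex.1.tail.tail.tail Cp_g3 (br_zero _ _ _ _ _ _ _) [] 2 2 (by decide +kernel)

theorem Cp_l2 : LevX 128 ns Cp_p Cp_s (gen ns (sTop CpG_S2)) Cp_k2 24 :=
  Cp_l3.step ctx CpG_ex.1.tail.tail Cp_g2 (br_zero _ _ _ _ _ _ _) [] 3 3 (by decide +kernel)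

theorem Cp_l1 : LevX 128 ns Cp_p Cp_s (gen ns (sTop CpG_S1)) Cp_k1 24 :=
  Cp_l2.step ctx CpG_ex.1.tail Cp_g1 (br_zero _ _ _ _ _ _ _) [] 0 0 (by decide +kernel)

theorem Cp_l0 : LevX 128 ns Cp_p Cp_s (gen ns (sTop CpG_S0)) Cp_k0 192 :=
  Cp_l1.step ctx CpG_ex.1 Cp_g0 (br_zero _ _ _ _ _ _ _) [] 3 3 (by decide +kernel)

theorem Cp : CentEq ns (gen ns [[0], [2]]) Cp_as Cp_k0 192 :=
  centEq_of ctx CpG_ex.2.1 Cp_l0 Cp_g0 Cp_cm

noncomputable def CaG_S4 : List SD :=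
  []

noncomputable def CaG_d3 : SD :=
  ⟨12, 4, [160, 162], lab 2 3 (nat_lit 0xa008000000000080000000008800200000200000), 8⟩

noncomputable def CaG_S3 : List SD :=
  CaG_d3 :: CaG_S4

noncomputable def CaG_d2 : SD :=
  ⟨80, 3, [164, 160, 162], lab 3 7 (nat_lit 0x200810000800408009000000000021000000000080100000000000000000000000000010000), 4⟩

noncomputable def CaG_S2 : List SD :=
  CaG_d2 :: CaG_S3

noncomputable def CaG_d1 : SD :=
  ⟨91, 3, [166, 164, 160, 162], lab 3 7 (nat_lit 0x1100010010000000000007802002000402000f0600004020c02002088001081018018100c10), 4⟩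

noncomputable def CaG_S1 : List SD :=
  CaG_d1 :: CaG_S2

noncomputable def CaG_d0 : SD :=
  ⟨2, 3, [168, 166, 164, 160, 162], lab 4 15 (nat_lit 0x1538421234000400100254283460852163403043221441581118258626546110230505022605161150655043630503583053), 5⟩

noncomputable def CaG_S0 : List SD :=
  CaG_d0 :: CaG_S1

theorem kx_5 : Known ns (gen ns [[42], [0], [2]]) 76200104993366915304914943 :=
  kx_4.steps ctx (es := [(80, [17, 6, 20, 12, 14, 14, 20, 22]),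
 (81, [42, 2, 20, 2, 15, 8, 14, 18, 26]),
 (82, [42, 17, 6, 20, 12, 14, 14, 20]),
 (83, [13, 3, 14, 8, 24]),
 (84, [42, 24, 6, 8, 17, 20, 22, 24]),
 (85, [6, 12, 10, 15, 24])]) (by decide +kernel)

theorem CaG_ex : Exact 128 ns CaG_S0 ∧ gen ns (sTop CaG_S0) = gen ns [[42], [0], [2]] ∧ gen ns [[42], [0], [2]] = gen ns [[42], [0], [2]] :=
  exact_of_known ctx hn1 (le_rfl) kx_5 (by decide +kernel)

noncomputable def Ca_as : List (List ℕ) :=
  [[28], [48]]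

noncomputable def Ca_p : List (List ℕ × List ℕ) :=
  derAs (dg Ca_as) [[0], [2]]

noncomputable def Ca_s : List (ℕ × ℕ) :=
  derSs 128 7 ns (dg Ca_as) [[0], [2]]

noncomputable def Ca_k0 : List (List ℕ) :=
  [[170], [28]]

noncomputable def Ca_k1 : List (List ℕ) :=
  [[28]]

noncomputable def Ca_k2 : List (List ℕ) :=
  [[28]]

noncomputable def Ca_k3 : List (List ℕ) :=
  [[28]]

noncomputable def Ca_k4 : List (List ℕ) :=
  []

theorem Ca_cm : commB 128 7 ns (dg Ca_as) Ca_k0 = true :=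
  by decide +kernel

theorem Ca_g0 : Good 128 ns Ca_p Ca_s (gen ns (sTop CaG_S0)) Ca_k0 :=
  good_der ctx kx_5 (CaG_ex.2.1.trans CaG_ex.2.2.symm) _ _ ((and'_eq_true _ _).2 ⟨by decide +kernel, Ca_cm⟩)

theorem Ca_g1 : Good 128 ns Ca_p Ca_s (gen ns (sTop CaG_S1)) Ca_k1 :=
  Ca_g0.tail ctx CaG_ex.1 (by decide +kernel)

theorem Ca_g2 : Good 128 ns Ca_p Ca_s (gen ns (sTop CaG_S2)) Ca_k2 :=
  Ca_g1.tail ctx CaG_ex.1.tail (by decide +kernel)

theorem Ca_g3 : Good 128 ns Ca_p Ca_s (gen ns (sTop CaG_S3)) Ca_k3 :=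
  Ca_g2.tail ctx CaG_ex.1.tail.tail (by decide +kernel)

theorem Ca_l4 : LevX 128 ns Ca_p Ca_s (gen ns (sTop CaG_S4)) Ca_k4 1 :=
  levX_nil _ _ _ _

theorem Ca_l3 : LevX 128 ns Ca_p Ca_s (gen ns (sTop CaG_S3)) Ca_k3 2 :=
  Ca_l4.step ctx CaG_ex.1.tail.tail.tail Ca_g3 (br_zero _ _ _ _ _ _ _) [(1, 14, 3)] 1 1 (by decide +kernel)

theorem Ca_l2 : LevX 128 ns Ca_p Ca_s (gen ns (sTop CaG_S2)) Ca_k2 2 :=
  Ca_l3.step ctx CaG_ex.1.tail.tail Ca_g2 (br_zero _ _ _ _ _ _ _) [(1, 91, 0)] 0 0 (by decide +kernel)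

theorem Ca_l1 : LevX 128 ns Ca_p Ca_s (gen ns (sTop CaG_S1)) Ca_k1 2 :=
  Ca_l2.step ctx CaG_ex.1.tail Ca_g1 (br_zero _ _ _ _ _ _ _) [(1, 2, 0)] 0 0 (by decide +kernel)

theorem Ca_c0_18 : Br 128 ns Ca_p Ca_s (gen ns (sTop CaG_S0)) CaG_d0.p (Nat.shiftLeft 1 18) (InCs ns CaG_S0 []) :=
  br_of_cnt ctx CaG_ex.1 [168, 165, 169] (.pair 0 3 2 0 1) (by decide +kernel) _

theorem Ca_c0_71 : Br 128 ns Ca_p Ca_s (gen ns (sTop CaG_S0)) CaG_d0.p (Nat.shiftLeft 1 71) (InCs ns CaG_S0 []) :=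
  br_of_cnt ctx CaG_ex.1 [162, 168] (.pair 0 3 2 0 1) (by decide +kernel) _

noncomputable def Ca_B0_cs : List (List ℕ) :=
  []

noncomputable def Ca_B0_pl : List Pl :=
  [⟨.lst 0, []⟩, ⟨.free, []⟩, ⟨.free, []⟩, ⟨.free, []⟩]

noncomputable def Ca_B0_M0 : ℕ :=
  512

theorem Ca_B0_b0 : Br 128 ns Ca_p Ca_s (gen ns (sTop CaG_S0)) CaG_d0.p Ca_B0_M0 (InCs ns CaG_S0 Ca_B0_cs) :=
  br_of_brB ctx hE CaG_ex.1 (pl := Ca_B0_pl) (bs := []) (tps := [83, 54, 70]) (by decide +kernel)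

theorem Ca_l0 : LevX 128 ns Ca_p Ca_s (gen ns (sTop CaG_S0)) Ca_k0 10 :=
  Ca_l1.step ctx CaG_ex.1 Ca_g0 ((((br_zero _ _ _ _ _ _ _).lor Ca_c0_18).lor Ca_c0_71).lor Ca_B0_b0) [] 4 4 (by decide +kernel)

theorem Ca : CentEq ns (gen ns [[42], [0], [2]]) Ca_as Ca_k0 10 :=
  centEq_of ctx CaG_ex.2.1 Ca_l0 Ca_g0 Ca_cm

noncomputable def CyG_S4 : List SD :=
  []

noncomputable def CyG_d3 : SD :=
  ⟨10, 2, [172, 174], lab 2 3 (nat_lit 0x8000200020020000000c000c000000), 3⟩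

noncomputable def CyG_S3 : List SD :=
  CyG_d3 :: CyG_S4

noncomputable def CyG_d2 : SD :=
  ⟨11, 3, [176, 172, 174], lab 3 7 (nat_lit 0x4000000b00000240008300004300008080010a00028080000000), 4⟩

noncomputable def CyG_S2 : List SD :=
  CyG_d2 :: CyG_S3

noncomputable def CyG_d1 : SD :=
  ⟨7, 3, [178, 176, 172, 174], lab 3 7 (nat_lit 0x40001000d9108b0ba91e6008bc7f000201803130403320001378602088200704100b000000), 5⟩

noncomputable def CyG_S1 : List SD :=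
  CyG_d1 :: CyG_S2

noncomputable def CyG_d0 : SD :=
  ⟨0, 3, [180, 178, 176, 172, 174], lab 4 15 (nat_lit 0x1545826134548481333526921258115182230033142402013181301120694221304954081862640530492050108530109860), 4⟩

noncomputable def CyG_S0 : List SD :=
  CyG_d0 :: CyG_S1

theorem kx_6 : Known ns (gen ns [[42], [0], [2]]) 9902349166821072847316713471 :=
  kx_5.steps ctx (es := [(86, [42, 6, 0, 15, 10, 14, 20, 22, 26, 24]),
 (87, [15, 8, 17, 20, 22, 24]),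
 (88, [42, 6, 0, 11, 15, 20, 26, 24]),
 (89, [42, 6, 0, 21, 10, 20]),
 (90, [4, 3, 15, 8, 17, 20, 24]),
 (91, [15, 4, 15, 10, 18, 14, 18, 22]),
 (92, [17, 7, 10, 8, 20])]) (by decide +kernel)

theorem CyG_ex : Exact 128 ns CyG_S0 ∧ gen ns (sTop CyG_S0) = gen ns [[42], [0], [2]] ∧ gen ns [[42], [0], [2]] = gen ns [[42], [0], [2]] :=
  exact_of_known ctx hn1 (le_rfl) kx_6 (by decide +kernel)

noncomputable def Cy_as : List (List ℕ) :=
  [[32], [50]]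

noncomputable def Cy_p : List (List ℕ × List ℕ) :=
  derAs (dg Cy_as) [[0], [2]]

noncomputable def Cy_s : List (ℕ × ℕ) :=
  derSs 128 7 ns (dg Cy_as) [[0], [2]]

noncomputable def Cy_k0 : List (List ℕ) :=
  [[182], [184]]

noncomputable def Cy_k1 : List (List ℕ) :=
  []

noncomputable def Cy_k2 : List (List ℕ) :=
  []

noncomputable def Cy_k3 : List (List ℕ) :=
  []

noncomputable def Cy_k4 : List (List ℕ) :=
  []

theorem Cy_cm : commB 128 7 ns (dg Cy_as) Cy_k0 = true :=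
  by decide +kernel

theorem Cy_g0 : Good 128 ns Cy_p Cy_s (gen ns (sTop CyG_S0)) Cy_k0 :=
  good_der ctx kx_6 (CyG_ex.2.1.trans CyG_ex.2.2.symm) _ _ ((and'_eq_true _ _).2 ⟨by decide +kernel, Cy_cm⟩)

theorem Cy_g1 : Good 128 ns Cy_p Cy_s (gen ns (sTop CyG_S1)) Cy_k1 :=
  Cy_g0.tail ctx CyG_ex.1 (by decide +kernel)

theorem Cy_g2 : Good 128 ns Cy_p Cy_s (gen ns (sTop CyG_S2)) Cy_k2 :=
  Cy_g1.tail ctx CyG_ex.1.tail (by decide +kernel)

theorem Cy_g3 : Good 128 ns Cy_p Cy_s (gen ns (sTop CyG_S3)) Cy_k3 :=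
  Cy_g2.tail ctx CyG_ex.1.tail.tail (by decide +kernel)

theorem Cy_l4 : LevX 128 ns Cy_p Cy_s (gen ns (sTop CyG_S4)) Cy_k4 1 :=
  levX_nil _ _ _ _

theorem Cy_l3 : LevX 128 ns Cy_p Cy_s (gen ns (sTop CyG_S3)) Cy_k3 1 :=
  Cy_l4.step ctx CyG_ex.1.tail.tail.tail Cy_g3 (br_zero _ _ _ _ _ _ _) [(0, 62, 2), (1, 30, 1)] 0 0 (by decide +kernel)

theorem Cy_l2 : LevX 128 ns Cy_p Cy_s (gen ns (sTop CyG_S2)) Cy_k2 1 :=
  Cy_l3.step ctx CyG_ex.1.tail.tail Cy_g2 (br_zero _ _ _ _ _ _ _) [(1, 7, 0)] 0 0 (by decide +kernel)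

theorem Cy_l1 : LevX 128 ns Cy_p Cy_s (gen ns (sTop CyG_S1)) Cy_k1 1 :=
  Cy_l2.step ctx CyG_ex.1.tail Cy_g1 (br_zero _ _ _ _ _ _ _) [(0, 0, 0)] 0 0 (by decide +kernel)

theorem Cy_c0_24 : Br 128 ns Cy_p Cy_s (gen ns (sTop CyG_S0)) CyG_d0.p (Nat.shiftLeft 1 24) (InCs ns CyG_S0 []) :=
  br_of_cnt ctx CyG_ex.1 [178, 180] (.pair 0 0 1 3 0) (by decide +kernel) _

theorem Cy_c0_92 : Br 128 ns Cy_p Cy_s (gen ns (sTop CyG_S0)) CyG_d0.p (Nat.shiftLeft 1 92) (InCs ns CyG_S0 []) :=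
  br_of_cnt ctx CyG_ex.1 [181] (.pair 0 0 1 3 0) (by decide +kernel) _

noncomputable def Cy_B0_cs : List (List ℕ) :=
  []

noncomputable def Cy_B0_pl : List Pl :=
  [⟨.lst 0, []⟩, ⟨.forced 0 0, []⟩, ⟨.free, []⟩, ⟨.free, []⟩]

noncomputable def Cy_B0_M0 : ℕ :=
  nat_lit 0x80000000800000

theorem Cy_B0_b0 : Br 128 ns Cy_p Cy_s (gen ns (sTop CyG_S0)) CyG_d0.p Cy_B0_M0 (InCs ns CyG_S0 Cy_B0_cs) :=
  br_of_brB ctx hE CyG_ex.1 (pl := Cy_B0_pl) (bs := []) (tps := [19, 76]) (by decide +kernel)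

theorem Cy_l0 : LevX 128 ns Cy_p Cy_s (gen ns (sTop CyG_S0)) Cy_k0 20 :=
  Cy_l1.step ctx CyG_ex.1 Cy_g0 ((((br_zero _ _ _ _ _ _ _).lor Cy_c0_24).lor Cy_c0_92).lor Cy_B0_b0) [] 5 5 (by decide +kernel)

theorem Cy : CentEq ns (gen ns [[42], [0], [2]]) Cy_as Cy_k0 20 :=
  centEq_of ctx CyG_ex.2.1 Cy_l0 Cy_g0 Cy_cm

noncomputable def CeG_S5 : List SD :=
  []

noncomputable def CeG_d4 : SD :=
  ⟨19, 2, [186, 78], lab 2 3 (nat_lit 0x202000000000080200000000000), 4⟩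

noncomputable def CeG_S4 : List SD :=
  CeG_d4 :: CeG_S5

noncomputable def CeG_d3 : SD :=
  ⟨18, 1, [56, 186, 78], lab 3 7 0, 1⟩

noncomputable def CeG_S3 : List SD :=
  CeG_d3 :: CeG_S4

noncomputable def CeG_d2 : SD :=
  ⟨9, 3, [188, 56, 186, 78], lab 3 7 (nat_lit 0x80000000000000000c80000400000000000000200000000000000000004000000000000), 5⟩

noncomputable def CeG_S2 : List SD :=
  CeG_d2 :: CeG_S3

noncomputable def CeG_d1 : SD :=
  ⟨76, 2, [190, 188, 56, 186, 78], lab 4 15 (nat_lit 0x1000108004206180448861401863008103810080606002364002046100608008040062003002421080000108000000300000), 5⟩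

noncomputable def CeG_S1 : List SD :=
  CeG_d1 :: CeG_S2

noncomputable def CeG_d0 : SD :=
  ⟨2, 3, [192, 190, 188, 56, 186, 78], lab 4 15 (nat_lit 0x3150a481423a2a0125436610124600240388132130a243aa56850a551022820226a06a5126a38a2241312201832a016a5013), 5⟩

noncomputable def CeG_S0 : List SD :=
  CeG_d0 :: CeG_S1

theorem kx_7 : Known ns (gen ns [[42], [0], [2]]) 1267649429080767432694582738943 :=
  kx_6.steps ctx (es := [(93, [4, 17, 12, 8, 15, 18, 24]),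
 (39, [9, 6, 17, 8, 16, 18, 22, 26, 24]),
 (94, [10, 2, 12, 14, 14, 20, 24]),
 (95, [3, 16, 9, 16, 18, 22]),
 (96, [20, 12, 0, 16, 9, 17, 18]),
 (97, [7, 16, 2, 21, 10, 18, 14]),
 (98, [2, 8, 0, 10, 9, 18, 14, 22, 26, 24]),
 (99, [4, 3, 21, 10, 16, 22])]) (by decide +kernel)

theorem CeG_ex : Exact 128 ns CeG_S0 ∧ gen ns (sTop CeG_S0) = gen ns [[42], [0], [2]] ∧ gen ns [[42], [0], [2]] = gen ns [[42], [0], [2]] :=
  exact_of_known ctx hn1 (le_rfl) kx_7 (by decide +kernel)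

noncomputable def Ce_as : List (List ℕ) :=
  [[28], [30], [32]]

noncomputable def Ce_p : List (List ℕ × List ℕ) :=
  derAs (dg Ce_as) [[0], [2], [4]]

noncomputable def Ce_s : List (ℕ × ℕ) :=
  derSs 128 7 ns (dg Ce_as) [[0], [2], [4]]

noncomputable def Ce_k0 : List (List ℕ) :=
  [[194], [196], [198], [28]]

noncomputable def Ce_k1 : List (List ℕ) :=
  [[28]]

noncomputable def Ce_k2 : List (List ℕ) :=
  [[28]]

noncomputable def Ce_k3 : List (List ℕ) :=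
  [[28]]

noncomputable def Ce_k4 : List (List ℕ) :=
  [[28]]

noncomputable def Ce_k5 : List (List ℕ) :=
  []

theorem Ce_cm : commB 128 7 ns (dg Ce_as) Ce_k0 = true :=
  by decide +kernel

theorem Ce_g0 : Good 128 ns Ce_p Ce_s (gen ns (sTop CeG_S0)) Ce_k0 :=
  good_der ctx kx_7 (CeG_ex.2.1.trans CeG_ex.2.2.symm) _ _ ((and'_eq_true _ _).2 ⟨by decide +kernel, Ce_cm⟩)

theorem Ce_g1 : Good 128 ns Ce_p Ce_s (gen ns (sTop CeG_S1)) Ce_k1 :=
  Ce_g0.tail ctx CeG_ex.1 (by decide +kernel)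

theorem Ce_g2 : Good 128 ns Ce_p Ce_s (gen ns (sTop CeG_S2)) Ce_k2 :=
  Ce_g1.tail ctx CeG_ex.1.tail (by decide +kernel)

theorem Ce_g3 : Good 128 ns Ce_p Ce_s (gen ns (sTop CeG_S3)) Ce_k3 :=
  Ce_g2.tail ctx CeG_ex.1.tail.tail (by decide +kernel)

theorem Ce_g4 : Good 128 ns Ce_p Ce_s (gen ns (sTop CeG_S4)) Ce_k4 :=
  Ce_g3.tail ctx CeG_ex.1.tail.tail.tail (by decide +kernel)

theorem Ce_l5 : LevX 128 ns Ce_p Ce_s (gen ns (sTop CeG_S5)) Ce_k5 1 :=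
  levX_nil _ _ _ _

theorem Ce_c4_52 : Br 128 ns Ce_p Ce_s (gen ns (sTop CeG_S4)) CeG_d4.p (Nat.shiftLeft 1 52) (InCs ns CeG_S4 []) :=
  br_of_cnt ctx CeG_ex.1.tail.tail.tail.tail [78, 186] (.pair 25 0 23 0 2) (by decide +kernel) _

theorem Ce_l4 : LevX 128 ns Ce_p Ce_s (gen ns (sTop CeG_S4)) Ce_k4 2 :=
  Ce_l5.step ctx CeG_ex.1.tail.tail.tail.tail Ce_g4 ((br_zero _ _ _ _ _ _ _).lor Ce_c4_52) [] 1 1 (by decide +kernel)

noncomputable def Ce_B3_cs : List (List ℕ) :=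
  []

noncomputable def Ce_B3_pl : List Pl :=
  [⟨.lst 0, []⟩, ⟨.free, []⟩]

noncomputable def Ce_B3_M0 : ℕ :=
  nat_lit 0x2000000000

theorem Ce_B3_b0 : Br 128 ns Ce_p Ce_s (gen ns (sTop CeG_S3)) CeG_d3.p Ce_B3_M0 (InCs ns CeG_S3 Ce_B3_cs) :=
  br_of_brB ctx hE CeG_ex.1.tail.tail.tail (pl := Ce_B3_pl) (bs := [9, 76, 2]) (tps := [83]) (by decide +kernel)

theorem Ce_l3 : LevX 128 ns Ce_p Ce_s (gen ns (sTop CeG_S3)) Ce_k3 2 :=
  Ce_l4.step ctx CeG_ex.1.tail.tail.tail Ce_g3 ((br_zero _ _ _ _ _ _ _).lor Ce_B3_b0) [] 0 0 (by decide +kernel)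

theorem Ce_l2 : LevX 128 ns Ce_p Ce_s (gen ns (sTop CeG_S2)) Ce_k2 2 :=
  Ce_l3.step ctx CeG_ex.1.tail.tail Ce_g2 (br_zero _ _ _ _ _ _ _) [(2, 76, 0)] 0 0 (by decide +kernel)

theorem Ce_l1 : LevX 128 ns Ce_p Ce_s (gen ns (sTop CeG_S1)) Ce_k1 2 :=
  Ce_l2.step ctx CeG_ex.1.tail Ce_g1 (br_zero _ _ _ _ _ _ _) [] 0 0 (by decide +kernel)

theorem Ce_l0 : LevX 128 ns Ce_p Ce_s (gen ns (sTop CeG_S0)) Ce_k0 16 :=
  Ce_l1.step ctx CeG_ex.1 Ce_g0 (br_zero _ _ _ _ _ _ _) [] 1 1 (by decide +kernel)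

theorem Ce : CentEq ns (gen ns [[42], [0], [2]]) Ce_as Ce_k0 16 :=
  centEq_of ctx CeG_ex.2.1 Ce_l0 Ce_g0 Ce_cm

noncomputable def CqG_S4 : List SD :=
  []

noncomputable def CqG_d3 : SD :=
  ⟨0, 2, [200, 98], lab 2 3 (nat_lit 0x20000000000000000000000200000000000800000008000), 4⟩

noncomputable def CqG_S3 : List SD :=
  CqG_d3 :: CqG_S4

noncomputable def CqG_d2 : SD :=
  ⟨5, 4, [202, 200, 98], lab 3 7 (nat_lit 0x4020800010000000000020002100000000500000000900000000402000000000400004), 7⟩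

noncomputable def CqG_S2 : List SD :=
  CqG_d2 :: CqG_S3

noncomputable def CqG_d1 : SD :=
  ⟨91, 3, [204, 202, 200, 98], lab 3 7 (nat_lit 0xc0003608002005000880a07006100c046832000802041806404100904506201000004c10c0a), 5⟩

noncomputable def CqG_S1 : List SD :=
  CqG_d1 :: CqG_S2

noncomputable def CqG_d0 : SD :=
  ⟨9, 3, [206, 204, 202, 200, 98], lab 4 15 (nat_lit 0x8031004832434121840018212146484124606136380388646021661424344018110203206032848008120113040680411034), 5⟩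

noncomputable def CqG_S0 : List SD :=
  CqG_d0 :: CqG_S1

theorem kx_8 : Known ns (gen ns [[42], [0], [2]]) 20282408432504208455145130819583 :=
  kx_7.steps ctx (es := [(100, [42, 16, 0, 13, 8, 15, 20, 26, 24]),
 (101, [42, 13, 7, 20, 12, 18, 14, 22, 24]),
 (102, [18, 2, 10, 8, 14, 14, 18, 26]),
 (103, [16, 6, 19, 10, 17, 22, 26])]) (by decide +kernel)

theorem CqG_ex : Exact 128 ns CqG_S0 ∧ gen ns (sTop CqG_S0) = gen ns [[42], [0], [2]] ∧ gen ns [[42], [0], [2]] = gen ns [[42], [0], [2]] :=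
  exact_of_known ctx hn1 (le_rfl) kx_8 (by decide +kernel)

noncomputable def Cq_as : List (List ℕ) :=
  [[30], [36], [38], [40]]

noncomputable def Cq_p : List (List ℕ × List ℕ) :=
  derAs (dg Cq_as) [[0], [2], [4], [6]]

noncomputable def Cq_s : List (ℕ × ℕ) :=
  derSs 128 7 ns (dg Cq_as) [[0], [2], [4], [6]]

noncomputable def Cq_k0 : List (List ℕ) :=
  [[28]]

noncomputable def Cq_k1 : List (List ℕ) :=
  [[28]]

noncomputable def Cq_k2 : List (List ℕ) :=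
  [[28]]

noncomputable def Cq_k3 : List (List ℕ) :=
  []

noncomputable def Cq_k4 : List (List ℕ) :=
  []

theorem Cq_cm : commB 128 7 ns (dg Cq_as) Cq_k0 = true :=
  by decide +kernel

theorem Cq_g0 : Good 128 ns Cq_p Cq_s (gen ns (sTop CqG_S0)) Cq_k0 :=
  good_der ctx kx_8 (CqG_ex.2.1.trans CqG_ex.2.2.symm) _ _ ((and'_eq_true _ _).2 ⟨by decide +kernel, Cq_cm⟩)

theorem Cq_g1 : Good 128 ns Cq_p Cq_s (gen ns (sTop CqG_S1)) Cq_k1 :=
  Cq_g0.tail ctx CqG_ex.1 (by decide +kernel)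

theorem Cq_g2 : Good 128 ns Cq_p Cq_s (gen ns (sTop CqG_S2)) Cq_k2 :=
  Cq_g1.tail ctx CqG_ex.1.tail (by decide +kernel)

theorem Cq_g3 : Good 128 ns Cq_p Cq_s (gen ns (sTop CqG_S3)) Cq_k3 :=
  Cq_g2.tail ctx CqG_ex.1.tail.tail (by decide +kernel)

theorem Cq_l4 : LevX 128 ns Cq_p Cq_s (gen ns (sTop CqG_S4)) Cq_k4 1 :=
  levX_nil _ _ _ _

theorem Cq_l3 : LevX 128 ns Cq_p Cq_s (gen ns (sTop CqG_S3)) Cq_k3 1 :=
  Cq_l4.step ctx CqG_ex.1.tail.tail.tail Cq_g3 (br_zero _ _ _ _ _ _ _) [(0, 17, 2), (2, 95, 2)] 0 0 (by decide +kernel)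

noncomputable def Cq_B2_cs : List (List ℕ) :=
  []

noncomputable def Cq_B2_pl : List Pl :=
  [⟨.lst 0, []⟩, ⟨.free, []⟩]

noncomputable def Cq_B2_M0 : ℕ :=
  nat_lit 0x40000000000

theorem Cq_B2_b0 : Br 128 ns Cq_p Cq_s (gen ns (sTop CqG_S2)) CqG_d2.p Cq_B2_M0 (InCs ns CqG_S2 Cq_B2_cs) :=
  br_of_brB ctx hE CqG_ex.1.tail.tail (pl := Cq_B2_pl) (bs := [91, 9]) (tps := [39]) (by decide +kernel)

theorem Cq_l2 : LevX 128 ns Cq_p Cq_s (gen ns (sTop CqG_S2)) Cq_k2 2 :=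
  Cq_l3.step ctx CqG_ex.1.tail.tail Cq_g2 ((br_zero _ _ _ _ _ _ _).lor Cq_B2_b0) [] 1 1 (by decide +kernel)

theorem Cq_l1 : LevX 128 ns Cq_p Cq_s (gen ns (sTop CqG_S1)) Cq_k1 2 :=
  Cq_l2.step ctx CqG_ex.1.tail Cq_g1 (br_zero _ _ _ _ _ _ _) [] 0 0 (by decide +kernel)

noncomputable def Cq_B0_cs : List (List ℕ) :=
  []

noncomputable def Cq_B0_pl : List Pl :=
  [⟨.lst 0, []⟩, ⟨.forced 0 1, []⟩, ⟨.free, []⟩, ⟨.free, []⟩]

noncomputable def Cq_B0_M0 : ℕ :=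
  nat_lit 0x80000000000000000000000

theorem Cq_B0_b0 : Br 128 ns Cq_p Cq_s (gen ns (sTop CqG_S0)) CqG_d0.p Cq_B0_M0 (InCs ns CqG_S0 Cq_B0_cs) :=
  br_of_brB ctx hE CqG_ex.1 (pl := Cq_B0_pl) (bs := []) (tps := [54]) (by decide +kernel)

theorem Cq_l0 : LevX 128 ns Cq_p Cq_s (gen ns (sTop CqG_S0)) Cq_k0 2 :=
  Cq_l1.step ctx CqG_ex.1 Cq_g0 ((br_zero _ _ _ _ _ _ _).lor Cq_B0_b0) [] 0 0 (by decide +kernel)

theorem Cq : CentEq ns (gen ns [[42], [0], [2]]) Cq_as Cq_k0 2 :=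
  centEq_of ctx CqG_ex.2.1 Cq_l0 Cq_g0 Cq_cm

noncomputable def CwG_S4 : List SD :=
  []

noncomputable def CwG_d3 : SD :=
  ⟨10, 4, [208, 96], lab 2 3 (nat_lit 0x8002004020000000080080040005042008800000000), 6⟩

noncomputable def CwG_S3 : List SD :=
  CwG_d3 :: CwG_S4

noncomputable def CwG_d2 : SD :=
  ⟨94, 3, [210, 208, 96], lab 3 7 (nat_lit 0xc0002000000000000000000000200000000000000200008000000000000040000000400003), 4⟩

noncomputable def CwG_S2 : List SD :=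
  CwG_d2 :: CwG_S3

noncomputable def CwG_d1 : SD :=
  ⟨91, 4, [212, 210, 208, 96], lab 3 7 (nat_lit 0x1680440020000000000006c04006000024000c0400801030403004018002186000030905a25), 5⟩

noncomputable def CwG_S1 : List SD :=
  CwG_d1 :: CwG_S2

noncomputable def CwG_d0 : SD :=
  ⟨2, 3, [214, 212, 210, 208, 96], lab 4 15 (nat_lit 0x6630401211506302460342462011444725102254565471172023000170134562383651674318725402655222373415510064), 4⟩

noncomputable def CwG_S0 : List SD :=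
  CwG_d0 :: CwG_S1

theorem kx_9 : Known ns (gen ns [[42], [0], [2]]) 1298074213462559553250213018730495 :=
  kx_8.steps ctx (es := [(104, [9, 6, 10, 13, 14, 20, 22, 26]),
 (105, [42, 17, 6, 8, 8, 16, 20, 22]),
 (106, [3, 16, 9, 16, 18]),
 (107, [42, 18, 2, 8, 12, 17, 22, 24]),
 (55, [9, 6, 10, 13, 14, 18, 22, 26, 24]),
 (56, [10, 4, 8, 24]),
 (108, [15, 7, 10, 8, 15, 22, 26, 24]),
 (109, [8, 7, 8, 16, 18, 24])]) (by decide +kernel)

theorem CwG_ex : Exact 128 ns CwG_S0 ∧ gen ns (sTop CwG_S0) = gen ns [[42], [0], [2]] ∧ gen ns [[42], [0], [2]] = gen ns [[42], [0], [2]] :=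
  exact_of_known ctx hn1 (le_rfl) kx_9 (by decide +kernel)

noncomputable def Cw_as : List (List ℕ) :=
  [[32], [34]]

noncomputable def Cw_p : List (List ℕ × List ℕ) :=
  derAs (dg Cw_as) [[0], [2]]

noncomputable def Cw_s : List (ℕ × ℕ) :=
  derSs 128 7 ns (dg Cw_as) [[0], [2]]

noncomputable def Cw_k0 : List (List ℕ) :=
  [[216], [218], [110], [112]]

noncomputable def Cw_k1 : List (List ℕ) :=
  [[110], [112]]

noncomputable def Cw_k2 : List (List ℕ) :=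
  [[110], [112]]

noncomputable def Cw_k3 : List (List ℕ) :=
  [[110], [112]]

noncomputable def Cw_k4 : List (List ℕ) :=
  []

theorem Cw_cm : commB 128 7 ns (dg Cw_as) Cw_k0 = true :=
  by decide +kernel

theorem Cw_g0 : Good 128 ns Cw_p Cw_s (gen ns (sTop CwG_S0)) Cw_k0 :=
  good_der ctx kx_9 (CwG_ex.2.1.trans CwG_ex.2.2.symm) _ _ ((and'_eq_true _ _).2 ⟨by decide +kernel, Cw_cm⟩)

theorem Cw_g1 : Good 128 ns Cw_p Cw_s (gen ns (sTop CwG_S1)) Cw_k1 :=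
  Cw_g0.tail ctx CwG_ex.1 (by decide +kernel)

theorem Cw_g2 : Good 128 ns Cw_p Cw_s (gen ns (sTop CwG_S2)) Cw_k2 :=
  Cw_g1.tail ctx CwG_ex.1.tail (by decide +kernel)

theorem Cw_g3 : Good 128 ns Cw_p Cw_s (gen ns (sTop CwG_S3)) Cw_k3 :=
  Cw_g2.tail ctx CwG_ex.1.tail.tail (by decide +kernel)

theorem Cw_l4 : LevX 128 ns Cw_p Cw_s (gen ns (sTop CwG_S4)) Cw_k4 1 :=
  levX_nil _ _ _ _

theorem Cw_l3 : LevX 128 ns Cw_p Cw_s (gen ns (sTop CwG_S3)) Cw_k3 6 :=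
  Cw_l4.step ctx CwG_ex.1.tail.tail.tail Cw_g3 (br_zero _ _ _ _ _ _ _) [(0, 62, 3)] 2 2 (by decide +kernel)

theorem Cw_l2 : LevX 128 ns Cw_p Cw_s (gen ns (sTop CwG_S2)) Cw_k2 6 :=
  Cw_l3.step ctx CwG_ex.1.tail.tail Cw_g2 (br_zero _ _ _ _ _ _ _) [(1, 91, 0)] 0 0 (by decide +kernel)

theorem Cw_l1 : LevX 128 ns Cw_p Cw_s (gen ns (sTop CwG_S1)) Cw_k1 6 :=
  Cw_l2.step ctx CwG_ex.1.tail Cw_g1 (br_zero _ _ _ _ _ _ _) [(0, 2, 0)] 0 0 (by decide +kernel)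

theorem Cw_c0_7 : Br 128 ns Cw_p Cw_s (gen ns (sTop CwG_S0)) CwG_d0.p (Nat.shiftLeft 1 7) (InCs ns CwG_S0 []) :=
  br_of_cnt ctx CwG_ex.1 [215] (.pair 0 3 2 0 0) (by decide +kernel) _

theorem Cw_l0 : LevX 128 ns Cw_p Cw_s (gen ns (sTop CwG_S0)) Cw_k0 240 :=
  Cw_l1.step ctx CwG_ex.1 Cw_g0 ((br_zero _ _ _ _ _ _ _).lor Cw_c0_7) [] 3 3 (by decide +kernel)

theorem Cw : CentEq ns (gen ns [[42], [0], [2]]) Cw_as Cw_k0 240 :=
  centEq_of ctx CwG_ex.2.1 Cw_l0 Cw_g0 Cw_cm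

noncomputable def ClG_S4 : List SD :=
  []

noncomputable def ClG_d3 : SD :=
  ⟨10, 4, [88, 220], lab 2 3 (nat_lit 0x30800c030000042082070042008041008800000000), 5⟩

noncomputable def ClG_S3 : List SD :=
  ClG_d3 :: ClG_S4

noncomputable def ClG_d2 : SD :=
  ⟨94, 3, [222, 88, 220], lab 3 7 (nat_lit 0x100001003000000000000000000a00000000000000400010000000000002140000000200004), 4⟩

noncomputable def ClG_S2 : List SD :=
  ClG_d2 :: ClG_S3

noncomputable def ClG_d1 : SD :=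
  ⟨91, 3, [224, 222, 88, 220], lab 3 7 (nat_lit 0x880860040000000000002000002001c4a000c0800a00038e0000102000000002801824120b), 4⟩

noncomputable def ClG_S1 : List SD :=
  ClG_d1 :: ClG_S2

noncomputable def ClG_d0 : SD :=
  ⟨2, 3, [226, 224, 222, 88, 220], lab 4 15 (nat_lit 0x5814217315212375390348426668123514231493508789725105010615421937049097610119403241890262065001040003), 4⟩

noncomputable def ClG_S0 : List SD :=
  ClG_d0 :: ClG_S1

theorem kx_10 : Known ns (gen ns [[42], [0], [2]]) 41538374867107473674361559570186239 :=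
  kx_9.steps ctx (es := [(110, [2, 20, 2, 21, 9, 17, 18, 24]),
 (111, [42, 10, 4, 8, 12, 14, 14, 20, 22, 24]),
 (112, [7, 16, 18, 22, 24]),
 (113, [8, 6, 0, 13, 8, 16, 24]),
 (114, [12, 6, 22, 8, 15, 18, 26, 24])]) (by decide +kernel)

theorem ClG_ex : Exact 128 ns ClG_S0 ∧ gen ns (sTop ClG_S0) = gen ns [[42], [0], [2]] ∧ gen ns [[42], [0], [2]] = gen ns [[42], [0], [2]] :=
  exact_of_known ctx hn1 (le_rfl) kx_10 (by decide +kernel)

noncomputable def Cl_as : List (List ℕ) :=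
  [[32], [46]]

noncomputable def Cl_p : List (List ℕ × List ℕ) :=
  derAs (dg Cl_as) [[0], [2]]

noncomputable def Cl_s : List (ℕ × ℕ) :=
  derSs 128 7 ns (dg Cl_as) [[0], [2]]

noncomputable def Cl_k0 : List (List ℕ) :=
  [[228], [112], [28]]

noncomputable def Cl_k1 : List (List ℕ) :=
  [[112], [28]]

noncomputable def Cl_k2 : List (List ℕ) :=
  [[112], [28]]

noncomputable def Cl_k3 : List (List ℕ) :=
  [[112], [28]]

noncomputable def Cl_k4 : List (List ℕ) :=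
  []

theorem Cl_cm : commB 128 7 ns (dg Cl_as) Cl_k0 = true :=
  by decide +kernel

theorem Cl_g0 : Good 128 ns Cl_p Cl_s (gen ns (sTop ClG_S0)) Cl_k0 :=
  good_der ctx kx_10 (ClG_ex.2.1.trans ClG_ex.2.2.symm) _ _ ((and'_eq_true _ _).2 ⟨by decide +kernel, Cl_cm⟩)

theorem Cl_g1 : Good 128 ns Cl_p Cl_s (gen ns (sTop ClG_S1)) Cl_k1 :=
  Cl_g0.tail ctx ClG_ex.1 (by decide +kernel)

theorem Cl_g2 : Good 128 ns Cl_p Cl_s (gen ns (sTop ClG_S2)) Cl_k2 :=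
  Cl_g1.tail ctx ClG_ex.1.tail (by decide +kernel)

theorem Cl_g3 : Good 128 ns Cl_p Cl_s (gen ns (sTop ClG_S3)) Cl_k3 :=
  Cl_g2.tail ctx ClG_ex.1.tail.tail (by decide +kernel)

theorem Cl_l4 : LevX 128 ns Cl_p Cl_s (gen ns (sTop ClG_S4)) Cl_k4 1 :=
  levX_nil _ _ _ _

theorem Cl_l3 : LevX 128 ns Cl_p Cl_s (gen ns (sTop ClG_S3)) Cl_k3 6 :=
  Cl_l4.step ctx ClG_ex.1.tail.tail.tail Cl_g3 (br_zero _ _ _ _ _ _ _) [(0, 62, 2)] 2 2 (by decide +kernel)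

theorem Cl_l2 : LevX 128 ns Cl_p Cl_s (gen ns (sTop ClG_S2)) Cl_k2 6 :=
  Cl_l3.step ctx ClG_ex.1.tail.tail Cl_g2 (br_zero _ _ _ _ _ _ _) [(1, 91, 0)] 0 0 (by decide +kernel)

theorem Cl_l1 : LevX 128 ns Cl_p Cl_s (gen ns (sTop ClG_S1)) Cl_k1 6 :=
  Cl_l2.step ctx ClG_ex.1.tail Cl_g1 (br_zero _ _ _ _ _ _ _) [(0, 2, 0)] 0 0 (by decide +kernel)

theorem Cl_l0 : LevX 128 ns Cl_p Cl_s (gen ns (sTop ClG_S0)) Cl_k0 60 :=
  Cl_l1.step ctx ClG_ex.1 Cl_g0 (br_zero _ _ _ _ _ _ _) [] 2 2 (by decide +kernel)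

theorem Cl : CentEq ns (gen ns [[42], [0], [2]]) Cl_as Cl_k0 60 :=
  centEq_of ctx ClG_ex.2.1 Cl_l0 Cl_g0 Cl_cm

theorem klH_0 : Known ns (gen ns [[32], [34], [40], [48]]) 18022400 :=
  known_gen (by decide +kernel)

theorem klH_1 : Known ns (gen ns [[32], [34], [40], [48]]) 2616917616701553124779370149944950784 :=
  klH_0.steps ctx (es := [(115, [41, 48, 33, 40]),
 (116, [35, 49, 35, 40, 40, 48, 48, 34]),
 (117, [231, 231]),
 (118, [231, 233, 230, 233, 231]),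
 (119, [234, 236, 235, 237, 235, 236]),
 (120, [238, 238])]) (by decide +kernel)

theorem lH : 1920 ≤ Nat.card (gen ns [[32], [34], [40], [48]]) :=
  have := finite_gen ctx.ok [[32], [34], [40], [48]]
  card_ge_of_known ctx klH_1 (S := ⟨2, 1, [32, 34, 40, 48, 230, 232, 234, 236, 238, 240], id, 0⟩ ::
   ⟨21, 1, [230, 232, 234, 236, 238, 240], id, 0⟩ ::
   ⟨0, 2, [234, 236, 238, 240], id, 0⟩ ::
   ⟨9, 1, [238, 240], id, 0⟩ ::
   ⟨1, 1, [240], id, 0⟩ ::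
   []) (by decide +kernel)

theorem klZ_0 : Known ns (gen ns [[32], [34], [40], [42], [48]]) 20119552 :=
  known_gen (by decide +kernel)

theorem klZ_1 : Known ns (gen ns [[32], [34], [40], [42], [48]]) 83949055608791102542814030390141059072 :=
  klZ_0.steps ctx (es := [(115, [35, 49, 41, 48, 33, 35, 49, 40]),
 (121, [35, 48, 33, 35, 33, 49, 49, 42, 49]),
 (122, [242, 231, 242]),
 (117, [231, 231]),
 (73, [231, 242, 242, 242, 231, 231]),
 (123, [244, 146, 245]),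
 (124, [244, 234, 147, 245, 245, 147, 147]),
 (125, [249, 246, 246, 246]),
 (120, [250, 250])]) (by decide +kernel)

theorem lZ : 3840 ≤ Nat.card (gen ns [[32], [34], [40], [42], [48]]) :=
  have := finite_gen ctx.ok [[32], [34], [40], [42], [48]]
  card_ge_of_known ctx klZ_1 (S := ⟨2, 1, [32, 34, 40, 42, 48, 230, 242, 244, 234, 146, 246, 248, 250, 240], id, 0⟩ ::
   ⟨21, 1, [230, 242, 244, 234, 146, 246, 248, 250, 240], id, 0⟩ ::
   ⟨0, 1, [244, 234, 146, 246, 248, 250, 240], id, 0⟩ ::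
   ⟨4, 1, [246, 248, 250, 240], id, 0⟩ ::
   ⟨9, 1, [250, 240], id, 0⟩ ::
   ⟨1, 1, [240], id, 0⟩ ::
   []) (by decide +kernel)

theorem klP_0 : Known ns (gen ns [[32], [34], [36], [38], [46]]) 9371648 :=
  known_gen (by decide +kernel)

theorem klP_1 : Known ns (gen ns [[32], [34], [36], [38], [46]]) 85070591730234615865843651862246408192 :=
  klP_0.steps ctx (es := [(126, [35, 32, 34, 32, 36, 38]),
 (32, [252, 47, 253, 46, 252, 252]),
 (14, [65, 65])]) (by decide +kernel)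

theorem lP : 192 ≤ Nat.card (gen ns [[32], [34], [36], [38], [46]]) :=
  have := finite_gen ctx.ok [[32], [34], [36], [38], [46]]
  card_ge_of_known ctx klP_1 (S := ⟨2, 1, [32, 34, 36, 38, 252, 46, 64, 28], id, 0⟩ ::
   ⟨9, 2, [252, 46, 64, 28], id, 0⟩ ::
   ⟨16, 1, [64, 28], id, 0⟩ ::
   ⟨0, 1, [28], id, 0⟩ ::
   []) (by decide +kernel)

theorem klL_0 : Known ns (gen ns [[28], [44], [50]]) 37765120 :=
  known_gen (by decide +kernel)

theorem klL_1 : Known ns (gen ns [[28], [44], [50]]) 36310272033439744 :=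
  klL_0.steps ctx (es := [(48, [44, 51, 29, 45, 51, 29, 51, 44]),
 (55, [45, 28, 51, 29, 29, 29, 44, 51])]) (by decide +kernel)

theorem lL : 60 ≤ Nat.card (gen ns [[28], [44], [50]]) :=
  have := finite_gen ctx.ok [[28], [44], [50]]
  card_ge_of_known ctx klL_1 (S := ⟨2, 1, [28, 44, 50, 110, 96], id, 0⟩ ::
   ⟨0, 1, [110, 96], id, 0⟩ ::
   ⟨8, 1, [96], id, 0⟩ ::
   []) (by decide +kernel)

theorem klV_0 : Known ns (gen ns [[28], [44], [50], [32], [34]]) 37961728 :=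
  known_gen (by decide +kernel)

theorem klV_1 : Known ns (gen ns [[28], [44], [50], [32], [34]]) 170141183460469231731687585190898778112 :=
  klV_0.steps ctx (es := [(48, [45, 29, 34, 51, 34, 51, 28]),
 (127, [45, 29, 35, 35, 51, 51])]) (by decide +kernel)

theorem lV : 240 ≤ Nat.card (gen ns [[28], [44], [50], [32], [34]]) :=
  have := finite_gen ctx.ok [[28], [44], [50], [32], [34]]
  card_ge_of_known ctx klV_1 (S := ⟨2, 1, [28, 44, 50, 32, 34, 254, 96], id, 0⟩ ::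
   ⟨0, 1, [254, 96], id, 0⟩ ::
   ⟨8, 1, [96], id, 0⟩ ::
   []) (by decide +kernel)

theorem klU_0 : Known ns (gen ns [[28], [44], [50], [32], [34], [42]]) 40058880 :=
  known_gen (by decide +kernel)

theorem klU_1 : Known ns (gen ns [[28], [44], [50], [32], [34], [42]]) 340282366920938463463410917703803944960 :=
  klU_0.steps ctx (es := [(128, [50, 33, 43, 32, 29, 32, 51, 33]),
 (55, [257, 28, 257, 28, 256, 29, 257, 28]),
 (48, [256, 29, 256])]) (by decide +kernel)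

theorem lU : 480 ≤ Nat.card (gen ns [[28], [44], [50], [32], [34], [42]]) :=
  have := finite_gen ctx.ok [[28], [44], [50], [32], [34], [42]]
  card_ge_of_known ctx klU_1 (S := ⟨2, 1, [44, 50, 32, 34, 42, 256, 28, 110, 96], id, 0⟩ ::
   ⟨94, 1, [256, 28, 110, 96], id, 0⟩ ::
   ⟨0, 1, [110, 96], id, 0⟩ ::
   ⟨8, 1, [96], id, 0⟩ ::
   []) (by decide +kernel)

theorem klY_0 : Known ns (gen ns [[32], [34], [40], [48], [52]]) 85131264 :=
  known_gen (by decide +kernel)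

theorem klY_1 : Known ns (gen ns [[32], [34], [40], [48], [52]]) 86431721197918369719697150287669210847744 :=
  klY_0.steps ctx (es := [(129, [41, 49, 40, 53, 49]),
 (130, [33, 48, 35, 33, 40, 53, 33, 35]),
 (131, [259, 259, 261, 258, 258, 258]),
 (132, [259, 261, 259, 261, 261, 262, 259]),
 (133, [260, 262, 260, 263, 261]),
 (9, [265, 267, 265, 266, 265, 266, 264, 267]),
 (134, [265, 266, 264, 266, 265, 267, 265]),
 (11, [19, 19, 19, 19, 19, 19]),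
 (12, [269, 22]),
 (135, [268, 22])]) (by decide +kernel)

theorem lY : 604800 ≤ Nat.card (gen ns [[32], [34], [40], [48], [52]]) :=
  have := finite_gen ctx.ok [[32], [34], [40], [48], [52]]
  card_ge_of_known ctx klY_1 (S := ⟨0, 1, [32, 34, 40, 48, 52, 258, 260, 262, 264, 266, 18, 268, 22, 270, 24], id, 0⟩ ::
   ⟨1, 2, [258, 260, 262, 264, 266, 18, 268, 22, 270, 24], id, 0⟩ ::
   ⟨2, 1, [264, 266, 18, 268, 22, 270, 24], id, 0⟩ ::
   ⟨15, 1, [18, 268, 22, 270, 24], id, 0⟩ ::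
   ⟨10, 1, [268, 22, 270, 24], id, 0⟩ ::
   ⟨3, 1, [270, 24], id, 0⟩ ::
   ⟨4, 1, [24], id, 0⟩ ::
   []) (by decide +kernel)

theorem klR_0 : Known ns (gen ns [[32], [34], [40], [48], [44]]) 22216704 :=
  known_gen (by decide +kernel)

theorem klR_1 : Known ns (gen ns [[32], [34], [40], [48], [44]]) 11128594527782371509106203161448547609686016 :=
  klR_0.steps ctx (es := [(136, [48, 48, 44, 49, 32, 49, 41]),
 (137, [35, 48, 35, 32, 40, 44, 41]),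
 (138, [272, 272, 275, 275]),
 (139, [273, 273, 275, 276, 273, 273, 276, 275, 277, 272]),
 (135, [273, 274, 277, 275, 276, 276, 274, 272]),
 (134, [279, 271, 278, 278, 271, 271, 271, 278, 271]),
 (140, [279, 279, 271, 279, 271, 279, 271, 279, 279]),
 (141, [280, 268, 281, 269, 281, 281]),
 (142, [269, 269, 269, 269, 269]),
 (13, [284, 283, 285, 283, 285, 282, 285, 282]),
 (12, [270, 27])]) (by decide +kernel)

theorem lR : 604800 ≤ Nat.card (gen ns [[32], [34], [40], [48], [44]]) :=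
  have := finite_gen ctx.ok [[32], [34], [40], [48], [44]]
  card_ge_of_known ctx klR_1 (S := ⟨0, 1, [32, 34, 40, 48, 44, 272, 274, 276, 278, 268, 280, 282, 284, 270, 26, 24], id, 0⟩ ::
   ⟨1, 2, [272, 274, 276, 278, 268, 280, 282, 284, 270, 26, 24], id, 0⟩ ::
   ⟨2, 1, [278, 268, 280, 282, 284, 270, 26, 24], id, 0⟩ ::
   ⟨15, 1, [268, 280, 282, 284, 270, 26, 24], id, 0⟩ ::
   ⟨10, 1, [282, 284, 270, 26, 24], id, 0⟩ ::
   ⟨3, 1, [270, 26, 24], id, 0⟩ ::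
   ⟨4, 1, [24], id, 0⟩ ::
   []) (by decide +kernel)

end Cfsg.Agent.J2W.K
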