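import Cfsg.Agent.Wr2.Br
import Cfsg.Agent.Spor.ModelJ2
import Cfsg.Agent.Comp.LookT

set_option autoImplicit false
set_option Elab.async false
set_option maxRecDepth 4096

namespace Cfsg.Agent.J2W.K

open Cfsg.Agent.Comp

noncomputable def ns_2 : Net :=
 (Net.cons (nat_lit 64) (nat_lit 0x913f1f3a56208210)
 (Net.cons (nat_lit 32) (nat_lit 0xf438da91000000004b68a19c)
 (Net.cons (nat_lit 16) (nat_lit 0x610c00003b070000604800001e44)
 (Net.cons (nat_lit 8) (nat_lit 0xd4004a00a9004e00c000e100d800d0)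
 (Net.cons (nat_lit 4) (nat_lit 0x10f030d09030e0f0008040508000207)
 (Net.cons (nat_lit 2) (nat_lit 0x110021000101302320013220030002)
 (Net.cons (nat_lit 1) (nat_lit 0x411504015450100500001444454444)
 (Net.cons (nat_lit 2) (nat_lit 0x220000000000200000000020000020)
 (Net.cons (nat_lit 4) (nat_lit 0xc00020e0c0008040a08000008)
 (Net.cons (nat_lit 8) (nat_lit 0xd400ca009a00420080002000c80010)
 (Net.cons (nat_lit 16) (nat_lit 0x6108000023100000604800001e44)
 (Net.cons (nat_lit 32) (nat_lit 0xf438da80000000004b68a19c)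
 (Net.cons (nat_lit 64) (nat_lit 0x913f1f3b16200080)
 Net.nil)))))))))))))

noncomputable def ns_3 : Net :=
 (Net.cons (nat_lit 64) (nat_lit 0x4244c41ba2c047ce)
 (Net.cons (nat_lit 32) (nat_lit 0xdca90970000000004c7a29d6)
 (Net.cons (nat_lit 16) (nat_lit 0xcc220000004a00006b1f00008e95)
 (Net.cons (nat_lit 8) (nat_lit 0x6a0075003a00b600be00d300ac0074)
 (Net.cons (nat_lit 4) (nat_lit 0x80004040102060a010509010f080e0d)
 (Net.cons (nat_lit 2) (nat_lit 0x22033001000200230330220202222112)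
 (Net.cons (nat_lit 1) (nat_lit 0x54051400010410441411501141054001)
 (Net.cons (nat_lit 2) (nat_lit 0x20200202200000202000000)
 (Net.cons (nat_lit 4) (nat_lit 0x2040c0000000208000c00000c08060e)
 (Net.cons (nat_lit 8) (nat_lit 0xaa0070003a00720014009a00800066)
 (Net.cons (nat_lit 16) (nat_lit 0x40020000404800006ad4000031b8)
 (Net.cons (nat_lit 32) (nat_lit 0xdcedc97800000000edd32972)
 (Net.cons (nat_lit 64) (nat_lit 0x4244c41d1825cd1a)
 Net.nil)))))))))))))

noncomputable def ns_4 : Net :=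
 (Net.cons (nat_lit 64) (nat_lit 0x54277e9f68a91dc)
 (Net.cons (nat_lit 32) (nat_lit 0x2400f10e0000000092df9b94)
 (Net.cons (nat_lit 16) (nat_lit 0x6420000e25b0000a95e0000a4f0)
 (Net.cons (nat_lit 8) (nat_lit 0x4000a0009e001b0025002a004c003c)
 (Net.cons (nat_lit 4) (nat_lit 0x400020e0f0608000f00080f0d000802)
 (Net.cons (nat_lit 2) (nat_lit 0x1003221032022132300000113301000)
 (Net.cons (nat_lit 1) (nat_lit 0x1001444444414411400001545405004)
 (Net.cons (nat_lit 2) (nat_lit 0x2220022020220000000020200000)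
 (Net.cons (nat_lit 4) (nat_lit 0x400020a0200040a0a00000c06000808)
 (Net.cons (nat_lit 8) (nat_lit 0x4000c400e8005800b400300018001c)
 (Net.cons (nat_lit 16) (nat_lit 0x22000000ed6e0000ab5c000044cc)
 (Net.cons (nat_lit 32) (nat_lit 0x2100d700000000000a5b1384)
 (Net.cons (nat_lit 64) (nat_lit 0x54277e0a9412aa4)
 Net.nil)))))))))))))

noncomputable def ns_5 : Net :=
 (Net.cons (nat_lit 64) (nat_lit 0x49c1f173e85bb7d8)
 (Net.cons (nat_lit 32) (nat_lit 0x95fe579a00000000d2016dcc)
 (Net.cons (nat_lit 16) (nat_lit 0x249200004bc2000092ba00008d62)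
 (Net.cons (nat_lit 8) (nat_lit 0xc300a7000000c900aa00c5008800a6)
 (Net.cons (nat_lit 4) (nat_lit 0x60409000000050800040a020c0704)
 (Net.cons (nat_lit 2) (nat_lit 0x31320021020032110000303102121222)
 (Net.cons (nat_lit 1) (nat_lit 0x5141014010110500401404414404014)
 (Net.cons (nat_lit 2) (nat_lit 0x220022020020000200202000000020)
 (Net.cons (nat_lit 4) (nat_lit 0xa06020400000200040202040004060c)
 (Net.cons (nat_lit 8) (nat_lit 0x4200e0000000a800ae00b200940030)
 (Net.cons (nat_lit 16) (nat_lit 0xb10800000bc20000d6b600000d44)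
 (Net.cons (nat_lit 32) (nat_lit 0x9c3e178000000000d20565cc)
 (Net.cons (nat_lit 64) (nat_lit 0x49c1f17bcc17c38c)
 Net.nil)))))))))))))

noncomputable def ns_6 : Net :=
 (Net.cons (nat_lit 64) (nat_lit 0x30c93a22107dd2e6)
 (Net.cons (nat_lit 32) (nat_lit 0x84dddd7a000000007876bc4a)
 (Net.cons (nat_lit 16) (nat_lit 0x62c000060420000836600004642)
 (Net.cons (nat_lit 8) (nat_lit 0x82001000290034001200be00d500be)
 (Net.cons (nat_lit 4) (nat_lit 0x70c03030a06020d040e0508000e00)
 (Net.cons (nat_lit 2) (nat_lit 0x22310022020120310320110222200)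
 (Net.cons (nat_lit 1) (nat_lit 0x141114000140404500144441415000)
 (Net.cons (nat_lit 2) (nat_lit 0x200000020202000000200000000)
 (Net.cons (nat_lit 4) (nat_lit 0xc0802000800020c000e0a0c020800)
 (Net.cons (nat_lit 8) (nat_lit 0x32001c000000340046003000500038)
 (Net.cons (nat_lit 16) (nat_lit 0x1274000048c800000730000083c8)
 (Net.cons (nat_lit 32) (nat_lit 0x845cdf54000000007740f886)
 (Net.cons (nat_lit 64) (nat_lit 0x30c93a21903bada0)
 Net.nil)))))))))))))

noncomputable def ns_7 : Net :=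
 (Net.cons (nat_lit 64) (nat_lit 0x1edd5b2e02506a78)
 (Net.cons (nat_lit 32) (nat_lit 0xd6f0813e0000000094413fc4)
 (Net.cons (nat_lit 16) (nat_lit 0xc3250000254f0000bb4100006b5c)
 (Net.cons (nat_lit 8) (nat_lit 0xac00c8006400ae00610084006000bc)
 (Net.cons (nat_lit 4) (nat_lit 0xf05020b080a010604000a06000e090c)
 (Net.cons (nat_lit 2) (nat_lit 0x20210030302322210020003000121000)
 (Net.cons (nat_lit 1) (nat_lit 0x44141051111141445141014000541440)
 (Net.cons (nat_lit 2) (nat_lit 0x2200002200002220220022000002020)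
 (Net.cons (nat_lit 4) (nat_lit 0x40002020c00020000000a06000e020c)
 (Net.cons (nat_lit 8) (nat_lit 0x6000c0006000a80020000000000034)
 (Net.cons (nat_lit 16) (nat_lit 0x10400000bc400002b0000008b40)
 (Net.cons (nat_lit 32) (nat_lit 0xd4bd8134000000009461bf90)
 (Net.cons (nat_lit 64) (nat_lit 0x1edd5b23b3f62b14)
 Net.nil)))))))))))))

noncomputable def ns_8 : Net :=
 (Net.cons (nat_lit 64) (nat_lit 0x6c12be83ea43b77a)
 (Net.cons (nat_lit 32) (nat_lit 0xfc81ac8e00000000c512bd7a)
 (Net.cons (nat_lit 16) (nat_lit 0x9c0b0000618a000011900000327c)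
 (Net.cons (nat_lit 8) (nat_lit 0x300096008000e900bf002d0008003c)
 (Net.cons (nat_lit 4) (nat_lit 0x30806080e06080e090d0b080e0002)
 (Net.cons (nat_lit 2) (nat_lit 0x20222030223022201310013100110230)
 (Net.cons (nat_lit 1) (nat_lit 0x10100440401040155404141001410440)
 (Net.cons (nat_lit 2) (nat_lit 0x20200020002020200200200002020020)
 (Net.cons (nat_lit 4) (nat_lit 0x8020806080c000e0c080400080e0000)
 (Net.cons (nat_lit 8) (nat_lit 0x20001400e0008000aa00540088001c)
 (Net.cons (nat_lit 16) (nat_lit 0x9c0a00004de4000010e000003318)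
 (Net.cons (nat_lit 32) (nat_lit 0xfc91248e00000000c43efc2a)
 (Net.cons (nat_lit 64) (nat_lit 0x6c12be82ea5327fa)
 Net.nil)))))))))))))

noncomputable def ns_9 : Net :=
 (Net.cons (nat_lit 64) (nat_lit 0xb63b361d6b66bdb4)
 (Net.cons (nat_lit 32) (nat_lit 0x88c4073c0000000086bd541c)
 (Net.cons (nat_lit 16) (nat_lit 0xa4640000d1ab00008b4100008ba4)
 (Net.cons (nat_lit 8) (nat_lit 0x3000e4008200cc00500013002e00c4)
 (Net.cons (nat_lit 4) (nat_lit 0xe09030b0c00020d090c080a0f020a00)
 (Net.cons (nat_lit 2) (nat_lit 0x10002020100002112021121030020100)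
 (Net.cons (nat_lit 1) (nat_lit 0x40114111140005111044400544004500)
 (Net.cons (nat_lit 2) (nat_lit 0x20222022000000022020000020000000)
 (Net.cons (nat_lit 4) (nat_lit 0xc0000020c00040000080c080a000a00)
 (Net.cons (nat_lit 8) (nat_lit 0x1800c0001000ea005c00ca00ce00c4)
 (Net.cons (nat_lit 16) (nat_lit 0x8454000095a80000c35800008aa0)
 (Net.cons (nat_lit 32) (nat_lit 0x2aff21340000000086b9543c)
 (Net.cons (nat_lit 64) (nat_lit 0xb63b361c2d37530c)
 Net.nil)))))))))))))

noncomputable def ns_10 : Net :=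
 (Net.cons (nat_lit 64) (nat_lit 0x62a4dacf58fa193a)
 (Net.cons (nat_lit 32) (nat_lit 0x7b3d4fe900000000f25d97b0)
 (Net.cons (nat_lit 16) (nat_lit 0x8d590000d2840000b80f0000ec50)
 (Net.cons (nat_lit 8) (nat_lit 0x56000100d000ea0049008a00be002c)
 (Net.cons (nat_lit 4) (nat_lit 0xc0501060600000f02040d0909070204)
 (Net.cons (nat_lit 2) (nat_lit 0x22130022200200212213302330130200)
 (Net.cons (nat_lit 1) (nat_lit 0x1040140401400155004111511010104)
 (Net.cons (nat_lit 2) (nat_lit 0x2020020000200200002022022000002)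
 (Net.cons (nat_lit 4) (nat_lit 0x8000004040600000a000c0000020a00)
 (Net.cons (nat_lit 8) (nat_lit 0xf60012009000220008002800ae002c)
 (Net.cons (nat_lit 16) (nat_lit 0x96580000928000000b000000e410)
 (Net.cons (nat_lit 32) (nat_lit 0x3bb91fa400000000f25d97b0)
 (Net.cons (nat_lit 64) (nat_lit 0x62a4dacfd8aa0e1a)
 Net.nil)))))))))))))

noncomputable def ns_11 : Net :=
 (Net.cons (nat_lit 64) (nat_lit 0x804010240400800)
 (Net.cons (nat_lit 32) (nat_lit 0xc4441040000000048b31280)
 (Net.cons (nat_lit 16) (nat_lit 0x45000000f1d8000030b000005c80)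
 (Net.cons (nat_lit 8) (nat_lit 0x4000060039004e00c1008a00aa0080)
 (Net.cons (nat_lit 4) (nat_lit 0x4040000010f000f0809040400080408)
 (Net.cons (nat_lit 2) (nat_lit 0x1000201222023333020303000003020)
 (Net.cons (nat_lit 1) (nat_lit 0x400011000410111005115415110)
 (Net.cons (nat_lit 2) (nat_lit 0x200022000000002000000000020)
 (Net.cons (nat_lit 4) (nat_lit 0x4000000000800000802040400080408)
 (Net.cons (nat_lit 8) (nat_lit 0x4000060020004e00c0008200280080)
 (Net.cons (nat_lit 16) (nat_lit 0x45000000f1d8000030b000001c80)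
 (Net.cons (nat_lit 32) (nat_lit 0xc444104000000004bb01280)
 (Net.cons (nat_lit 64) (nat_lit 0x804010240400800)
 Net.nil)))))))))))))

noncomputable def ns_12 : Net :=
 (Net.cons (nat_lit 64) (nat_lit 0x451f5550110a00c0)
 (Net.cons (nat_lit 32) (nat_lit 0xec23812600000000c8688800)
 (Net.cons (nat_lit 16) (nat_lit 0x43200003d960000b08000005810)
 (Net.cons (nat_lit 8) (nat_lit 0x8001e003700d20020002200500030)
 (Net.cons (nat_lit 4) (nat_lit 0xc000c01090b090c04080a02090a0a00)
 (Net.cons (nat_lit 2) (nat_lit 0x21002020031200200200222022022220)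
 (Net.cons (nat_lit 1) (nat_lit 0x40151540441404110440100011100010)
 (Net.cons (nat_lit 2) (nat_lit 0x20002020020002200200200022000020)
 (Net.cons (nat_lit 4) (nat_lit 0x4000c00080c080804080800000a0000)
 (Net.cons (nat_lit 8) (nat_lit 0x8001a002000d20000008000100030)
 (Net.cons (nat_lit 16) (nat_lit 0x432000039140000b08000005810)
 (Net.cons (nat_lit 32) (nat_lit 0xec23812600000000c8688800)
 (Net.cons (nat_lit 64) (nat_lit 0x451f5550110a0080)
 Net.nil)))))))))))))

noncomputable def ns_13 : Net :=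
 (Net.cons (nat_lit 64) (nat_lit 0xaa650204cf025000)
 (Net.cons (nat_lit 32) (nat_lit 0x8a6c800000000000c0308888)
 (Net.cons (nat_lit 16) (nat_lit 0xa80000009fe30000a49000008240)
 (Net.cons (nat_lit 8) (nat_lit 0x8000280039009100b20062004400b0)
 (Net.cons (nat_lit 4) (nat_lit 0x802060c080c0c080b0909040b00)
 (Net.cons (nat_lit 2) (nat_lit 0x220200002032201020000002022210)
 (Net.cons (nat_lit 1) (nat_lit 0x10005101050400510110440441100)
 (Net.cons (nat_lit 2) (nat_lit 0x20000002000200020000000022200)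
 (Net.cons (nat_lit 4) (nat_lit 0x802020808040c08000808040000)
 (Net.cons (nat_lit 8) (nat_lit 0x8000280018009000920022004400b0)
 (Net.cons (nat_lit 16) (nat_lit 0xa80000009ee00000a49000008240)
 (Net.cons (nat_lit 32) (nat_lit 0x8a2c800000000000c0308880)
 (Net.cons (nat_lit 64) (nat_lit 0xaa650204cf025000)
 Net.nil)))))))))))))

noncomputable def ns_14 : Net :=
 (Net.cons (nat_lit 64) (nat_lit 0x10b6220d7ec20c20)
 (Net.cons (nat_lit 32) (nat_lit 0x1e300c0c0000000067caa550)
 (Net.cons (nat_lit 16) (nat_lit 0xd3800000914000004742)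
 (Net.cons (nat_lit 8) (nat_lit 0x34000000b40068008200ac00920088)
 (Net.cons (nat_lit 4) (nat_lit 0x80a0400070800080a00080504080608)
 (Net.cons (nat_lit 2) (nat_lit 0x22002202222222132302021320000232)
 (Net.cons (nat_lit 1) (nat_lit 0x4144000444011051041411441005101)
 (Net.cons (nat_lit 2) (nat_lit 0x2002000222022002002020220000202)
 (Net.cons (nat_lit 4) (nat_lit 0x80a0400000800080a00080204000608)
 (Net.cons (nat_lit 8) (nat_lit 0x34000000b40048008000ac00820088)
 (Net.cons (nat_lit 16) (nat_lit 0xd3800000914000000742)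
 (Net.cons (nat_lit 32) (nat_lit 0x1e300c0c0000000067caa550)
 (Net.cons (nat_lit 64) (nat_lit 0x10b6220d7ec20c20)
 Net.nil)))))))))))))

noncomputable def ns_15 : Net :=
 (Net.cons (nat_lit 64) (nat_lit 0xea081f088c00dc30)
 (Net.cons (nat_lit 32) (nat_lit 0x486a4200000000000380a040)
 (Net.cons (nat_lit 16) (nat_lit 0x2400000038200000670000006342)
 (Net.cons (nat_lit 8) (nat_lit 0xe200380088008800d000cc00d00044)
 (Net.cons (nat_lit 4) (nat_lit 0xc0008030600060900060e0009040608)
 (Net.cons (nat_lit 2) (nat_lit 0x20000000032010022000220202221330)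
 (Net.cons (nat_lit 1) (nat_lit 0x404115100000000010010411140505)
 (Net.cons (nat_lit 2) (nat_lit 0x20220220000)
 (Net.cons (nat_lit 4) (nat_lit 0x80008000e08040800020a0002040608)
 (Net.cons (nat_lit 8) (nat_lit 0xe000380020008000d000cc00d00044)
 (Net.cons (nat_lit 16) (nat_lit 0x2400000038200000670000006342)
 (Net.cons (nat_lit 32) (nat_lit 0x486a42000000000003802040)
 (Net.cons (nat_lit 64) (nat_lit 0xea081f088800dc30)
 Net.nil)))))))))))))

noncomputable def ns_16 : Net :=
 (Net.cons (nat_lit 64) (nat_lit 0x280103c38e231912)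
 (Net.cons (nat_lit 32) (nat_lit 0x4c8cc050000000008cdafe74)
 (Net.cons (nat_lit 16) (nat_lit 0x4b180000aed800008c1000001f72)
 (Net.cons (nat_lit 8) (nat_lit 0x8000c000a40056002a00840074003d)
 (Net.cons (nat_lit 4) (nat_lit 0xe08080601080f00050a0e0b0d080e09)
 (Net.cons (nat_lit 2) (nat_lit 0x23210022222211002030023120303133)
 (Net.cons (nat_lit 1) (nat_lit 0x45100001000400111104541440540541)
 (Net.cons (nat_lit 2) (nat_lit 0x20200002000200000200022020000022)
 (Net.cons (nat_lit 4) (nat_lit 0x8080002000800000a0a0e0404080a08)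
 (Net.cons (nat_lit 8) (nat_lit 0x8000c000a40056002a0084007400c8)
 (Net.cons (nat_lit 16) (nat_lit 0x4b180000aed800008c1000001f70)
 (Net.cons (nat_lit 32) (nat_lit 0x4c8cc010000000008cda9e74)
 (Net.cons (nat_lit 64) (nat_lit 0x280103c38e221912)
 Net.nil)))))))))))))

noncomputable def ns_17 : Net :=
 (Net.cons (nat_lit 64) (nat_lit 0x21320ab4ed5be880)
 (Net.cons (nat_lit 32) (nat_lit 0x732c1284000000004a7fb284)
 (Net.cons (nat_lit 16) (nat_lit 0x3a34000040d3000007e20000b580)
 (Net.cons (nat_lit 8) (nat_lit 0x2003c002c009e000f00c8003c00a4)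
 (Net.cons (nat_lit 4) (nat_lit 0xc0c040a02040e060d0f0602080d0a08)
 (Net.cons (nat_lit 2) (nat_lit 0x21301202003130211201022003311033)
 (Net.cons (nat_lit 1) (nat_lit 0x10500011415451410440104145000150)
 (Net.cons (nat_lit 2) (nat_lit 0x20000002000200220020002000000000)
 (Net.cons (nat_lit 4) (nat_lit 0xc0c040a02060e040002020208080208)
 (Net.cons (nat_lit 8) (nat_lit 0x1c000c003800d00048003c00a4)
 (Net.cons (nat_lit 16) (nat_lit 0x3a3400006db0000007e20000b580)
 (Net.cons (nat_lit 32) (nat_lit 0x732c1284000000004a7fb280)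
 (Net.cons (nat_lit 64) (nat_lit 0x21320ab4ed5be880)
 Net.nil)))))))))))))

noncomputable def ns_18 : Net :=
 (Net.cons (nat_lit 64) (nat_lit 0x1173031838dbe01c)
 (Net.cons (nat_lit 32) (nat_lit 0xaa53ecf200000000d807ab8d)
 (Net.cons (nat_lit 16) (nat_lit 0x136200001769000048400000f364)
 (Net.cons (nat_lit 8) (nat_lit 0xa200390005007900aa0068005800bf)
 (Net.cons (nat_lit 4) (nat_lit 0x2040a0b040003070606040e08000302)
 (Net.cons (nat_lit 2) (nat_lit 0x210312102202302023322020202021)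
 (Net.cons (nat_lit 1) (nat_lit 0x1104411011005401400110504501440)
 (Net.cons (nat_lit 2) (nat_lit 0x2200220002000200000200000002220)
 (Net.cons (nat_lit 4) (nat_lit 0x204060a040806060a04040e00080404)
 (Net.cons (nat_lit 8) (nat_lit 0x8000e80016007c00220062003000fa)
 (Net.cons (nat_lit 16) (nat_lit 0x9950000006740000dc400000d708)
 (Net.cons (nat_lit 32) (nat_lit 0xab33ecf2000000009e87cb04)
 (Net.cons (nat_lit 64) (nat_lit 0x117303133ad920b6)
 Net.nil)))))))))))))

noncomputable def ns_19 : Net :=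
 (Net.cons (nat_lit 64) (nat_lit 0x7404e72f94346bd3)
 (Net.cons (nat_lit 32) (nat_lit 0x75468dd80000000003f9fcb4)
 (Net.cons (nat_lit 16) (nat_lit 0x3570000046100000023a000092d6)
 (Net.cons (nat_lit 8) (nat_lit 0x14000600d0004300d0000c00df00d9)
 (Net.cons (nat_lit 4) (nat_lit 0x406050c0406010701020e0902030d0d)
 (Net.cons (nat_lit 2) (nat_lit 0x10022101002201103200300321210302)
 (Net.cons (nat_lit 1) (nat_lit 0x10041405401001041100441101450041)
 (Net.cons (nat_lit 2) (nat_lit 0x22200202000022200002002200002)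
 (Net.cons (nat_lit 4) (nat_lit 0x4000c08040200040000080a00040c0c)
 (Net.cons (nat_lit 8) (nat_lit 0x30004a00d0004600d000a800d40040)
 (Net.cons (nat_lit 16) (nat_lit 0x357200009610000002a8000098ca)
 (Net.cons (nat_lit 32) (nat_lit 0x5146ecd0000000000a53fc34)
 (Net.cons (nat_lit 64) (nat_lit 0x7404e72612269774)
 Net.nil)))))))))))))

noncomputable def ns_20 : Net :=
 (Net.cons (nat_lit 64) (nat_lit 0x1528c11988499320)
 (Net.cons (nat_lit 32) (nat_lit 0x9560c58800000000454400c0)
 (Net.cons (nat_lit 16) (nat_lit 0x444800004450000010620000e7d8)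
 (Net.cons (nat_lit 8) (nat_lit 0x8000a009a008400f6002000e80012)
 (Net.cons (nat_lit 4) (nat_lit 0xc0008080e0c00080f0500060e0e060c)
 (Net.cons (nat_lit 2) (nat_lit 0x1000012230102032211000132022213)
 (Net.cons (nat_lit 1) (nat_lit 0x40000501104001054400004001101405)
 (Net.cons (nat_lit 2) (nat_lit 0x2200002002200000002002200)
 (Net.cons (nat_lit 4) (nat_lit 0x40000080e0c0008000000040e0a040e)
 (Net.cons (nat_lit 8) (nat_lit 0x8000a0098008400f6002000e80070)
 (Net.cons (nat_lit 16) (nat_lit 0xc04000004450000010620000e7d8)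
 (Net.cons (nat_lit 32) (nat_lit 0x8440858800000000454400c0)
 (Net.cons (nat_lit 64) (nat_lit 0x1528c11188499320)
 Net.nil)))))))))))))

noncomputable def ns_21 : Net :=
 (Net.cons (nat_lit 64) (nat_lit 0x1020c0147e92a0d0)
 (Net.cons (nat_lit 32) (nat_lit 0xb260008c0000000077dfd1c0)
 (Net.cons (nat_lit 16) (nat_lit 0x6040000054a000001ec500000dd8)
 (Net.cons (nat_lit 8) (nat_lit 0xa00054003000e80092006e0026)
 (Net.cons (nat_lit 4) (nat_lit 0x200000401000408020e080c000e0000)
 (Net.cons (nat_lit 2) (nat_lit 0x3002323330200233223220001)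
 (Net.cons (nat_lit 1) (nat_lit 0x50000010044510505100405045010100)
 (Net.cons (nat_lit 2) (nat_lit 0x2020000200200020020000)
 (Net.cons (nat_lit 4) (nat_lit 0x2000004000004080200080c000a0000)
 (Net.cons (nat_lit 8) (nat_lit 0x200054003000e80010006e0006)
 (Net.cons (nat_lit 16) (nat_lit 0x6040000054a000001ec400000dc8)
 (Net.cons (nat_lit 32) (nat_lit 0xb240008c00000000779fd1c0)
 (Net.cons (nat_lit 64) (nat_lit 0x1020c0147e92a0d0)
 Net.nil)))))))))))))

noncomputable def ns_22 : Net :=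
 (Net.cons (nat_lit 64) (nat_lit 0x9e40645443a16545)
 (Net.cons (nat_lit 32) (nat_lit 0x410869800000000288d8e47)
 (Net.cons (nat_lit 16) (nat_lit 0x48100000b2f300008a92000097d5)
 (Net.cons (nat_lit 8) (nat_lit 0x8000200010000a000a008a00960061)
 (Net.cons (nat_lit 4) (nat_lit 0x80802070e0c020a04030d020006)
 (Net.cons (nat_lit 2) (nat_lit 0x10300201133222232022021112203001)
 (Net.cons (nat_lit 1) (nat_lit 0x100014054155400105410511100540)
 (Net.cons (nat_lit 2) (nat_lit 0x200022002200200000000002000020)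
 (Net.cons (nat_lit 4) (nat_lit 0x40008060206000800020c020c02040e)
 (Net.cons (nat_lit 8) (nat_lit 0x800028003c00880000008a00140058)
 (Net.cons (nat_lit 16) (nat_lit 0x4a10000096b4000083b6000094d6)
 (Net.cons (nat_lit 32) (nat_lit 0x1410a6dc00000000093e054c)
 (Net.cons (nat_lit 64) (nat_lit 0x9e40645c1f9d2d00)
 Net.nil)))))))))))))

noncomputable def ns_23 : Net :=
 (Net.cons (nat_lit 64) (nat_lit 0xffcfff0000)
 (Net.cons (nat_lit 32) (nat_lit 0xd6027800000000ff000000)
 (Net.cons (nat_lit 16) (nat_lit 0x2f6000015b00000ff000000ff00)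
 (Net.cons (nat_lit 8) (nat_lit 0x20000001800c8000000cf00000000)
 (Net.cons (nat_lit 4) (nat_lit 0x600090b0a050c0e09030c0f030b03)
 (Net.cons (nat_lit 2) (nat_lit 0x300033300210231312000022223112)
 (Net.cons (nat_lit 1) (nat_lit 0x100014500100401404154105414011)
 (Net.cons (nat_lit 2) (nat_lit 0x20000000202200000000020022)
 (Net.cons (nat_lit 4) (nat_lit 0xc0a00000e0800000202040a)
 (Net.cons (nat_lit 8) (nat_lit 0x18008c000000c000000000)
 (Net.cons (nat_lit 16) (nat_lit 0x230000051b00000ff0000000000)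
 (Net.cons (nat_lit 32) (nat_lit 0xd6027000000000ff00ff00)
 (Net.cons (nat_lit 64) (nat_lit 0xfffcff0000)
 Net.nil)))))))))))))

noncomputable def ns_24 : Net :=
 (Net.cons (nat_lit 64) (nat_lit 0xca04a9224b20e412)
 (Net.cons (nat_lit 32) (nat_lit 0xf7f3574600000000dd778c9f)
 (Net.cons (nat_lit 16) (nat_lit 0x96660000e228000056b8000036e0)
 (Net.cons (nat_lit 8) (nat_lit 0x3900de00a00089001800d400ab0014)
 (Net.cons (nat_lit 4) (nat_lit 0xb0a020200040c0a0f010c050203070d)
 (Net.cons (nat_lit 2) (nat_lit 0x3232211002001202302301123200010)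
 (Net.cons (nat_lit 1) (nat_lit 0x1104441004001105541104101411015)
 (Net.cons (nat_lit 2) (nat_lit 0x2202000000000000200000200000)
 (Net.cons (nat_lit 4) (nat_lit 0xc06000e000c0402080c080a02000204)
 (Net.cons (nat_lit 8) (nat_lit 0x5a00900088008000dc001400b80072)
 (Net.cons (nat_lit 16) (nat_lit 0x62460000e22c00009e20000023c2)
 (Net.cons (nat_lit 32) (nat_lit 0x7ff3de4400000000e9359844)
 (Net.cons (nat_lit 64) (nat_lit 0xca04a927fcc53a34)
 Net.nil)))))))))))))

noncomputable def ns_25 : Net :=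
 (Net.cons (nat_lit 64) (nat_lit 0xc7fc43332401f187)
 (Net.cons (nat_lit 32) (nat_lit 0xffcfa77c00000000e7b8b64d)
 (Net.cons (nat_lit 16) (nat_lit 0xde7100008dde0000262e00001863)
 (Net.cons (nat_lit 8) (nat_lit 0x9a0039002400a1003400d6001800c9)
 (Net.cons (nat_lit 4) (nat_lit 0x10403040208090109040a0a0003050d)
 (Net.cons (nat_lit 2) (nat_lit 0x21001013010002100130220300331023)
 (Net.cons (nat_lit 1) (nat_lit 0x44414010040014400151401500451411)
 (Net.cons (nat_lit 2) (nat_lit 0x202000020000000002000000202022)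
 (Net.cons (nat_lit 4) (nat_lit 0x800060000000a080404000800020008)
 (Net.cons (nat_lit 8) (nat_lit 0x180004002e00e000a000d400180094)
 (Net.cons (nat_lit 16) (nat_lit 0x1c4c0000cc62000034a600002062)
 (Net.cons (nat_lit 32) (nat_lit 0x3e8ba57000000000efb88e0c)
 (Net.cons (nat_lit 64) (nat_lit 0xc7fc4334c07658fa)
 Net.nil)))))))))))))

noncomputable def ns_26 : Net :=
 (Net.cons (nat_lit 64) (nat_lit 0xb5a696ba9ad77420)
 (Net.cons (nat_lit 32) (nat_lit 0x1a3a1520000000074c918f4)
 (Net.cons (nat_lit 16) (nat_lit 0x50d0000c82600006b280000e648)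
 (Net.cons (nat_lit 8) (nat_lit 0x9100b6000a000a00ad00a20008000b)
 (Net.cons (nat_lit 4) (nat_lit 0xa08030103020004010d040202080e00)
 (Net.cons (nat_lit 2) (nat_lit 0x1022121013010301220220301232302)
 (Net.cons (nat_lit 1) (nat_lit 0x4101140440404011140141105440104)
 (Net.cons (nat_lit 2) (nat_lit 0x2202000020200020200200200020200)
 (Net.cons (nat_lit 4) (nat_lit 0xa0800000806040c080c0c040a0a0e04)
 (Net.cons (nat_lit 8) (nat_lit 0x940020005c008000cc00b200040008)
 (Net.cons (nat_lit 16) (nat_lit 0x302c0000923800001b3000006444)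
 (Net.cons (nat_lit 32) (nat_lit 0x31a125e200000000369139fa)
 (Net.cons (nat_lit 64) (nat_lit 0xb5a696b4f6cbb848)
 Net.nil)))))))))))))

noncomputable def ns_27 : Net :=
 (Net.cons (nat_lit 64) (nat_lit 0x1ee0769dd9e35f18)
 (Net.cons (nat_lit 32) (nat_lit 0xf90061b500000000a6e54e7c)
 (Net.cons (nat_lit 16) (nat_lit 0x97680000f64300004c280000c15b)
 (Net.cons (nat_lit 8) (nat_lit 0x480051008a009400a80057009a0025)
 (Net.cons (nat_lit 4) (nat_lit 0xf08080c00040405080b0502000d000b)
 (Net.cons (nat_lit 2) (nat_lit 0x10202103222132120210220300010020)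
 (Net.cons (nat_lit 1) (nat_lit 0x50404411140410044010140501044410)
 (Net.cons (nat_lit 2) (nat_lit 0x2000200020000020220002000020)
 (Net.cons (nat_lit 4) (nat_lit 0xc000c0c0e080c000c0a040400080000)
 (Net.cons (nat_lit 8) (nat_lit 0x6000600026009c00020014009a0024)
 (Net.cons (nat_lit 16) (nat_lit 0xd1e80000ea840000cb500000e052)
 (Net.cons (nat_lit 32) (nat_lit 0xf340712c0000000087f6ce3c)
 (Net.cons (nat_lit 64) (nat_lit 0x1ee0769778233f22)
 Net.nil)))))))))))))

noncomputable def ns_28 : Net :=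
 (Net.cons (nat_lit 64) (nat_lit 0x80a26c0125e88080)
 (Net.cons (nat_lit 32) (nat_lit 0x6402664800000000a8bfd488)
 (Net.cons (nat_lit 16) (nat_lit 0xaca0000081920000f5f20000ba80)
 (Net.cons (nat_lit 8) (nat_lit 0x24008000c80012009e00680030)
 (Net.cons (nat_lit 4) (nat_lit 0x400040c000f0c0c0e0f070e0d040200)
 (Net.cons (nat_lit 2) (nat_lit 0x20000203202020033012331313310212)
 (Net.cons (nat_lit 1) (nat_lit 0x44004440101140005455410541501101)
 (Net.cons (nat_lit 2) (nat_lit 0x20000200200220000000000002000202)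
 (Net.cons (nat_lit 4) (nat_lit 0x400040c0000040c0e00080e00040200)
 (Net.cons (nat_lit 8) (nat_lit 0x4008000c80012008a00680010)
 (Net.cons (nat_lit 16) (nat_lit 0xaca0000000900000f5f20000ba80)
 (Net.cons (nat_lit 32) (nat_lit 0x6402424800000000a8bfd488)
 (Net.cons (nat_lit 64) (nat_lit 0x80a26c0125e88080)
 Net.nil)))))))))))))

noncomputable def ns_29 : Net :=
 (Net.cons (nat_lit 64) (nat_lit 0x1ad634585b8096ca)
 (Net.cons (nat_lit 32) (nat_lit 0xe5567cce0000000024a03f89)
 (Net.cons (nat_lit 16) (nat_lit 0x98c00000a540000070890000353a)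
 (Net.cons (nat_lit 8) (nat_lit 0x200140075001000e800ea00ca0090)
 (Net.cons (nat_lit 4) (nat_lit 0x80000050b030000000e0e0804020a08)
 (Net.cons (nat_lit 2) (nat_lit 0x21023003300000120203022300122302)
 (Net.cons (nat_lit 1) (nat_lit 0x51045400141100101104414104414000)
 (Net.cons (nat_lit 2) (nat_lit 0x20000020000000200200002020000)
 (Net.cons (nat_lit 4) (nat_lit 0xa040c0804000000000e060a04000808)
 (Net.cons (nat_lit 8) (nat_lit 0x100010005000000068006000ca00a0)
 (Net.cons (nat_lit 16) (nat_lit 0xcc100000a5400000b08800007612)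
 (Net.cons (nat_lit 32) (nat_lit 0xe552788400000000e0a035a8)
 (Net.cons (nat_lit 64) (nat_lit 0x1ad634585b8096c2)
 Net.nil)))))))))))))

noncomputable def ns_30 : Net :=
 (Net.cons (nat_lit 64) (nat_lit 0xa40d86c4cba80389)
 (Net.cons (nat_lit 32) (nat_lit 0xbb3124de000000001131e800)
 (Net.cons (nat_lit 16) (nat_lit 0x22b0000089a2000078800000ce00)
 (Net.cons (nat_lit 8) (nat_lit 0x980000008d001800000007001a0089)
 (Net.cons (nat_lit 4) (nat_lit 0x60808090a0608050b070e030d000c01)
 (Net.cons (nat_lit 2) (nat_lit 0x30200003030302100002330210020332)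
 (Net.cons (nat_lit 1) (nat_lit 0x41100454454044011114410110445410)
 (Net.cons (nat_lit 2) (nat_lit 0x200202002000002002020020200000)
 (Net.cons (nat_lit 4) (nat_lit 0xc00080c060000000806060208080c02)
 (Net.cons (nat_lit 8) (nat_lit 0x22008c001c00600096006400d0)
 (Net.cons (nat_lit 16) (nat_lit 0xa4a00000c92c00007082000097d0)
 (Net.cons (nat_lit 32) (nat_lit 0x3b35a09a000000005873b832)
 (Net.cons (nat_lit 64) (nat_lit 0xa40d86c2d96463a0)
 Net.nil)))))))))))))

noncomputable def ns_31 : Net :=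
 (Net.cons (nat_lit 64) (nat_lit 0x129e5bde8e0aeb80)
 (Net.cons (nat_lit 32) (nat_lit 0xfdb634150000000050bba703)
 (Net.cons (nat_lit 16) (nat_lit 0xd1760000ca44000068380000f7c6)
 (Net.cons (nat_lit 8) (nat_lit 0x4800b0009e002300fc0004006a0027)
 (Net.cons (nat_lit 4) (nat_lit 0x90c090c000d0301000e060a060e0405)
 (Net.cons (nat_lit 2) (nat_lit 0x11021332100200220232202130030112)
 (Net.cons (nat_lit 1) (nat_lit 0x50405450440401154140411010404001)
 (Net.cons (nat_lit 2) (nat_lit 0x200000000202220220000000000)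
 (Net.cons (nat_lit 4) (nat_lit 0xa0c000400040208080e0008020e0006)
 (Net.cons (nat_lit 8) (nat_lit 0x5c0000009c003000dc0022006a0042)
 (Net.cons (nat_lit 16) (nat_lit 0xc8fc0000d84a0000e8300000d386)
 (Net.cons (nat_lit 32) (nat_lit 0xfdb66d5400000000f4fb8726)
 (Net.cons (nat_lit 64) (nat_lit 0x129e5bd63c5f98d8)
 Net.nil)))))))))))))

noncomputable def ns_32 : Net :=
 (Net.cons (nat_lit 64) (nat_lit 0x1ee0769778233f22)
 (Net.cons (nat_lit 32) (nat_lit 0xcae8e930000000083f6ce3e)
 (Net.cons (nat_lit 16) (nat_lit 0x1c7a0000aed10000c45900001d05)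
 (Net.cons (nat_lit 8) (nat_lit 0x9c0012002000f1002b00e0003900d5)
 (Net.cons (nat_lit 4) (nat_lit 0xc0e0e0d040c000b06050a0b01020807)
 (Net.cons (nat_lit 2) (nat_lit 0x12300022210123222203000202000320)
 (Net.cons (nat_lit 1) (nat_lit 0x40104401401441410104404141040150)
 (Net.cons (nat_lit 2) (nat_lit 0x202200002200202202202000200)
 (Net.cons (nat_lit 4) (nat_lit 0x40e0808000c06000204080a00000c0e)
 (Net.cons (nat_lit 8) (nat_lit 0x9400520050005a008800a000380054)
 (Net.cons (nat_lit 16) (nat_lit 0x18fc0000a8900000057000003d04)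
 (Net.cons (nat_lit 32) (nat_lit 0x6ee9e0a00000000a2e54e74)
 (Net.cons (nat_lit 64) (nat_lit 0x1ee0769dd9e35f18)
 Net.nil)))))))))))))

noncomputable def ns_33 : Net :=
 (Net.cons (nat_lit 64) (nat_lit 0xda7b8e96884afe4a)
 (Net.cons (nat_lit 32) (nat_lit 0xf9f3b8fc000000000529110d)
 (Net.cons (nat_lit 16) (nat_lit 0xdfe60000dd80000060210000a2d4)
 (Net.cons (nat_lit 8) (nat_lit 0x4200a2007a00100060006a003000c3)
 (Net.cons (nat_lit 4) (nat_lit 0x40e0f000d0a08070204080004020f07)
 (Net.cons (nat_lit 2) (nat_lit 0x32322220212100320323200010303012)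
 (Net.cons (nat_lit 1) (nat_lit 0x14011451104044410441410041101551)
 (Net.cons (nat_lit 2) (nat_lit 0x22002000002000220222000000200002)
 (Net.cons (nat_lit 4) (nat_lit 0x606000806000602080a0004040000)
 (Net.cons (nat_lit 8) (nat_lit 0xca003200bc00140064006a00620044)
 (Net.cons (nat_lit 16) (nat_lit 0x6504000015900000600800008582)
 (Net.cons (nat_lit 32) (nat_lit 0xf1f1347c0000000020ad702e)
 (Net.cons (nat_lit 64) (nat_lit 0xda7b8e92fe2b16e0)
 Net.nil)))))))))))))

noncomputable def ns_34 : Net :=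
 (Net.cons (nat_lit 64) (nat_lit 0xfa6d7a3185ed516c)
 (Net.cons (nat_lit 32) (nat_lit 0x840f991b000000000de2c0bf)
 (Net.cons (nat_lit 16) (nat_lit 0x760b000029e80000047000000eda)
 (Net.cons (nat_lit 8) (nat_lit 0xd00098006e00d700f200c0000e0094)
 (Net.cons (nat_lit 4) (nat_lit 0x6010b0b060d0409050004060b000b00)
 (Net.cons (nat_lit 2) (nat_lit 0x2103001120220013100012030010201)
 (Net.cons (nat_lit 1) (nat_lit 0x4401114441415104500001110051404)
 (Net.cons (nat_lit 2) (nat_lit 0x2000022020220202000000000000000)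
 (Net.cons (nat_lit 4) (nat_lit 0x40808020e060c0c0e00000002000808)
 (Net.cons (nat_lit 8) (nat_lit 0xb8008c004e00e400f2000000c20010)
 (Net.cons (nat_lit 16) (nat_lit 0xc60c000021b80000050000000f50)
 (Net.cons (nat_lit 32) (nat_lit 0x64ad13000000000096045b0)
 (Net.cons (nat_lit 64) (nat_lit 0xfa6d7a33604ebe0c)
 Net.nil)))))))))))))

noncomputable def ns_35 : Net :=
 (Net.cons (nat_lit 64) (nat_lit 0xd324d7300a1c13c)
 (Net.cons (nat_lit 32) (nat_lit 0x85ff037800000000a3540e0b)
 (Net.cons (nat_lit 16) (nat_lit 0x5940000f69e0000594a00004821)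
 (Net.cons (nat_lit 8) (nat_lit 0x500004001e000f0082005300900062)
 (Net.cons (nat_lit 4) (nat_lit 0x4020603050c0201000906090a0d0d01)
 (Net.cons (nat_lit 2) (nat_lit 0x21032133131000322003000120210132)
 (Net.cons (nat_lit 1) (nat_lit 0x10044414441010441000414144111014)
 (Net.cons (nat_lit 2) (nat_lit 0x20002002200000202000000022202020)
 (Net.cons (nat_lit 4) (nat_lit 0xc02060c0c0400020808020c080c0404)
 (Net.cons (nat_lit 8) (nat_lit 0x50004a001a003c000800d200940098)
 (Net.cons (nat_lit 16) (nat_lit 0xb20000caae0000f942000048a8)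
 (Net.cons (nat_lit 32) (nat_lit 0x89ed0a1800000000e3559e0a)
 (Net.cons (nat_lit 64) (nat_lit 0xd324d729a240202)
 Net.nil)))))))))))))

noncomputable def ns_36 : Net :=
 (Net.cons (nat_lit 64) (nat_lit 0xea1f6e16e9de2c52)
 (Net.cons (nat_lit 32) (nat_lit 0xe264246600000000489209f7)
 (Net.cons (nat_lit 16) (nat_lit 0x206800006c18000045900000600a)
 (Net.cons (nat_lit 8) (nat_lit 0x8a0022007d005e0048001c009500b1)
 (Net.cons (nat_lit 4) (nat_lit 0x40e0a0401090205050209070a05000a)
 (Net.cons (nat_lit 2) (nat_lit 0x2200230222121110120101103312010)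
 (Net.cons (nat_lit 1) (nat_lit 0x4414441150511410010005401410044)
 (Net.cons (nat_lit 2) (nat_lit 0x22220200020020020000000200002)
 (Net.cons (nat_lit 4) (nat_lit 0x4000800000c0a0c040800020a02000a)
 (Net.cons (nat_lit 8) (nat_lit 0x88004c006200c40048005c00500010)
 (Net.cons (nat_lit 16) (nat_lit 0x222000006c8000004da00000418a)
 (Net.cons (nat_lit 32) (nat_lit 0x607a6a6c000000004d1209fc)
 (Net.cons (nat_lit 64) (nat_lit 0xea1f6e16944a2840)
 Net.nil)))))))))))))

noncomputable def ns_37 : Net :=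
 (Net.cons (nat_lit 64) (nat_lit 0x7a212ac2fb805548)
 (Net.cons (nat_lit 32) (nat_lit 0xf765fc3b00000000cd5fc4bb)
 (Net.cons (nat_lit 16) (nat_lit 0x8c8800004a350000152c00004cf4)
 (Net.cons (nat_lit 8) (nat_lit 0xe100ea00200002007800cb009a00be)
 (Net.cons (nat_lit 4) (nat_lit 0x508060808000801000e08040c0a0e02)
 (Net.cons (nat_lit 2) (nat_lit 0x32003212200100320301033030322010)
 (Net.cons (nat_lit 1) (nat_lit 0x51404405100141101114041011404041)
 (Net.cons (nat_lit 2) (nat_lit 0x2200200220202200022000000000)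
 (Net.cons (nat_lit 4) (nat_lit 0x8020008020a00000200000c000402)
 (Net.cons (nat_lit 8) (nat_lit 0xa800ac0022002a003c004e00f00008)
 (Net.cons (nat_lit 16) (nat_lit 0x4ec000048340000d12000004e8c)
 (Net.cons (nat_lit 32) (nat_lit 0xaf45d47a00000000c91f00b8)
 (Net.cons (nat_lit 64) (nat_lit 0x7a212ac6cb304d28)
 Net.nil)))))))))))))

noncomputable def ns_38 : Net :=
 (Net.cons (nat_lit 64) (nat_lit 0x7e80ebe2ba66c05d)
 (Net.cons (nat_lit 32) (nat_lit 0xd84843680000000020c7f489)
 (Net.cons (nat_lit 16) (nat_lit 0xec060000c0150000d5750000833e)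
 (Net.cons (nat_lit 8) (nat_lit 0x4000200044008300f400ed00580055)
 (Net.cons (nat_lit 4) (nat_lit 0x80406080c010f04040306010208050a)
 (Net.cons (nat_lit 2) (nat_lit 0x2022322222303203021030023303022)
 (Net.cons (nat_lit 1) (nat_lit 0x40044441411445451044400041111514)
 (Net.cons (nat_lit 2) (nat_lit 0x20222022200202002000022002002)
 (Net.cons (nat_lit 4) (nat_lit 0x800000006060a02040e0a00020c0408)
 (Net.cons (nat_lit 8) (nat_lit 0x880068005400a20074004c0016005e)
 (Net.cons (nat_lit 16) (nat_lit 0xc6860000de140000556e00009670)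
 (Net.cons (nat_lit 32) (nat_lit 0xa848a8240000000021aff090)
 (Net.cons (nat_lit 64) (nat_lit 0x7e80ebed3a7bb82a)
 Net.nil)))))))))))))

noncomputable def ns_39 : Net :=
 (Net.cons (nat_lit 64) (nat_lit 0xf950144109c80208)
 (Net.cons (nat_lit 32) (nat_lit 0x526b18880000000064a0c4a4)
 (Net.cons (nat_lit 16) (nat_lit 0xd4800006c100000833000001f80)
 (Net.cons (nat_lit 8) (nat_lit 0x4000200d4002000e80002004000a1)
 (Net.cons (nat_lit 4) (nat_lit 0x205000800040404000a06080800080c)
 (Net.cons (nat_lit 2) (nat_lit 0x130002112002122310220010200303)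
 (Net.cons (nat_lit 1) (nat_lit 0x40140141001011000005440101000411)
 (Net.cons (nat_lit 2) (nat_lit 0x20002002002000000220000000000)
 (Net.cons (nat_lit 4) (nat_lit 0x2000800000004000a000000000c08)
 (Net.cons (nat_lit 8) (nat_lit 0x4000200d4002000e8000200400066)
 (Net.cons (nat_lit 16) (nat_lit 0x548000008100000833000001f80)
 (Net.cons (nat_lit 32) (nat_lit 0x526b18880000000064a0c4a4)
 (Net.cons (nat_lit 64) (nat_lit 0xf950144109c80200)
 Net.nil)))))))))))))

noncomputable def ns_40 : Net :=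
 (Net.cons (nat_lit 64) (nat_lit 0x444266e5f9e34140)
 (Net.cons (nat_lit 32) (nat_lit 0x441f61ac0000000006953a28)
 (Net.cons (nat_lit 16) (nat_lit 0x66450000b2a80000980900000930)
 (Net.cons (nat_lit 8) (nat_lit 0x580044006e004e000800a200dc0080)
 (Net.cons (nat_lit 4) (nat_lit 0xa020402060a000408090a000f040100)
 (Net.cons (nat_lit 2) (nat_lit 0x32210120232210212301002210202122)
 (Net.cons (nat_lit 1) (nat_lit 0x14400004044440440110100504141051)
 (Net.cons (nat_lit 2) (nat_lit 0x22200002020220000220200002202000)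
 (Net.cons (nat_lit 4) (nat_lit 0x80200000e0002040a000a0a0e040000)
 (Net.cons (nat_lit 8) (nat_lit 0x58004400ec00ca00040082005c0000)
 (Net.cons (nat_lit 16) (nat_lit 0x6640000092480000b93000001070)
 (Net.cons (nat_lit 32) (nat_lit 0x401f61820000000007a1ba28)
 (Net.cons (nat_lit 64) (nat_lit 0x444266e569860480)
 Net.nil)))))))))))))

noncomputable def ns_41 : Net :=
 (Net.cons (nat_lit 64) (nat_lit 0xaad90bc608e97942)
 (Net.cons (nat_lit 32) (nat_lit 0x2e1ef7f2000000000c66b61f)
 (Net.cons (nat_lit 16) (nat_lit 0x84cc000008d80000026800003926)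
 (Net.cons (nat_lit 8) (nat_lit 0x2c003d007b0094000a008400800036)
 (Net.cons (nat_lit 4) (nat_lit 0xc000f0200050508000200070e01080d)
 (Net.cons (nat_lit 2) (nat_lit 0x2103022222310001300202103233132)
 (Net.cons (nat_lit 1) (nat_lit 0x40151541410441410404401155114511)
 (Net.cons (nat_lit 2) (nat_lit 0x20220200000002202000222002)
 (Net.cons (nat_lit 4) (nat_lit 0x40c0c0c080c04080000000204080c04)
 (Net.cons (nat_lit 8) (nat_lit 0x2a0046007a0094000a00c4002000c2)
 (Net.cons (nat_lit 16) (nat_lit 0xac06000001d80000466a0000c9b2)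
 (Net.cons (nat_lit 32) (nat_lit 0x84cef7fc000000000846961c)
 (Net.cons (nat_lit 64) (nat_lit 0xaad90bc74fa935a8)
 Net.nil)))))))))))))

noncomputable def ns_42 : Net :=
 (Net.cons (nat_lit 64) (nat_lit 0x25929c8e5c68cf81)
 (Net.cons (nat_lit 32) (nat_lit 0x3d59424600000000ed3d0578)
 (Net.cons (nat_lit 16) (nat_lit 0xf2d300000e9e000035010000391a)
 (Net.cons (nat_lit 8) (nat_lit 0xca003400a0009600d4000900eb004a)
 (Net.cons (nat_lit 4) (nat_lit 0xc0c0400080a00060d0805030a070802)
 (Net.cons (nat_lit 2) (nat_lit 0x12011022230203101320101222030002)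
 (Net.cons (nat_lit 1) (nat_lit 0x44010054411404414440011410444045)
 (Net.cons (nat_lit 2) (nat_lit 0x20002222202200220020200020020)
 (Net.cons (nat_lit 4) (nat_lit 0x4040408080a020408040600020c0002)
 (Net.cons (nat_lit 8) (nat_lit 0x40002400a8000200d4005e00180080)
 (Net.cons (nat_lit 16) (nat_lit 0xea1000000f3c000011680000211a)
 (Net.cons (nat_lit 32) (nat_lit 0x1d5b524e0000000075114610)
 (Net.cons (nat_lit 64) (nat_lit 0x25929c8fa178e4c4)
 Net.nil)))))))))))))

noncomputable def ns_43 : Net :=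
 (Net.cons (nat_lit 64) (nat_lit 0x7ac77d7550e2d98)
 (Net.cons (nat_lit 32) (nat_lit 0x632f309000000000984c81f0)
 (Net.cons (nat_lit 16) (nat_lit 0x10020000960c000040300000cc13)
 (Net.cons (nat_lit 8) (nat_lit 0x360077009800610088009800220082)
 (Net.cons (nat_lit 4) (nat_lit 0x60a020c01000e00080b0500000e0a01)
 (Net.cons (nat_lit 2) (nat_lit 0x1020000003033202010010020032022)
 (Net.cons (nat_lit 1) (nat_lit 0x1151045045014411011004514041010)
 (Net.cons (nat_lit 2) (nat_lit 0x20020020020002000000002000)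
 (Net.cons (nat_lit 4) (nat_lit 0x608020000040800080c0400000e0800)
 (Net.cons (nat_lit 8) (nat_lit 0x300030008c007e00a8001000c000a0)
 (Net.cons (nat_lit 16) (nat_lit 0x3284000085300000403000004a10)
 (Net.cons (nat_lit 32) (nat_lit 0x6327309000000000a00f81d0)
 (Net.cons (nat_lit 64) (nat_lit 0x7ac77d4578d0d88)
 Net.nil)))))))))))))

noncomputable def ns_44 : Net :=
 (Net.cons (nat_lit 64) (nat_lit 0x3b0a97755d32b365)
 (Net.cons (nat_lit 32) (nat_lit 0x7bf34d1600000000a18cc283)
 (Net.cons (nat_lit 16) (nat_lit 0x58b30000b510000063800000b07c)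
 (Net.cons (nat_lit 8) (nat_lit 0x3300650026001f004a000c002200b2)
 (Net.cons (nat_lit 4) (nat_lit 0x90c050a090e020d080a00080409000d)
 (Net.cons (nat_lit 2) (nat_lit 0x212011213002100010230030100212)
 (Net.cons (nat_lit 1) (nat_lit 0x50111554110005144005410140441401)
 (Net.cons (nat_lit 2) (nat_lit 0x200000200000000000220220022002)
 (Net.cons (nat_lit 4) (nat_lit 0xa0c0402080c0a0c000800080602080c)
 (Net.cons (nat_lit 8) (nat_lit 0x4a00bc0038003c006a0004001000a2)
 (Net.cons (nat_lit 16) (nat_lit 0x4292000084180000a3800000a468)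
 (Net.cons (nat_lit 32) (nat_lit 0x7bf3493400000000a18cc282)
 (Net.cons (nat_lit 64) (nat_lit 0x3b0a97744fb2a766)
 Net.nil)))))))))))))

noncomputable def ns_45 : Net :=
 (Net.cons (nat_lit 64) (nat_lit 0x3cbee65518b9195c)
 (Net.cons (nat_lit 32) (nat_lit 0x74c4ca8c00000000a45224df)
 (Net.cons (nat_lit 16) (nat_lit 0x5682000070030000980000008140)
 (Net.cons (nat_lit 8) (nat_lit 0xc003600fa00410068002500530042)
 (Net.cons (nat_lit 4) (nat_lit 0x703010d03020a040d08050a08)
 (Net.cons (nat_lit 2) (nat_lit 0x22323201231111032110000102311021)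
 (Net.cons (nat_lit 1) (nat_lit 0x40441045011515044041401101014044)
 (Net.cons (nat_lit 2) (nat_lit 0x20222000022000002000202002002000)
 (Net.cons (nat_lit 4) (nat_lit 0x400080a0a0008000608040c08000204)
 (Net.cons (nat_lit 8) (nat_lit 0x48003e00780064007800a400d200c0)
 (Net.cons (nat_lit 16) (nat_lit 0x7e100000c22000009d400000c248)
 (Net.cons (nat_lit 32) (nat_lit 0x5c62c8940000000065122cfc)
 (Net.cons (nat_lit 64) (nat_lit 0x3cbee65a5f50c36c)
 Net.nil)))))))))))))

noncomputable def ns_46 : Net :=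
 (Net.cons (nat_lit 64) (nat_lit 0xc017345248c3f369)
 (Net.cons (nat_lit 32) (nat_lit 0xef804710000000044a8b5b3)
 (Net.cons (nat_lit 16) (nat_lit 0x58a000008103000031c4000007d2)
 (Net.cons (nat_lit 8) (nat_lit 0x60000a00a400a9006200af007a007b)
 (Net.cons (nat_lit 4) (nat_lit 0x4000100000c0d02090a0c070f0c)
 (Net.cons (nat_lit 2) (nat_lit 0x10030211110021212022103323121003)
 (Net.cons (nat_lit 1) (nat_lit 0x50050410001011145040101404010101)
 (Net.cons (nat_lit 2) (nat_lit 0x220002020000020202000020202)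
 (Net.cons (nat_lit 4) (nat_lit 0x600000800020c080c0c000a0c0c0c04)
 (Net.cons (nat_lit 8) (nat_lit 0x60002a00a40060004a00cc00d000fa)
 (Net.cons (nat_lit 16) (nat_lit 0x58da0000d100000058ec00008ef0)
 (Net.cons (nat_lit 32) (nat_lit 0xceea14200000000045e8f718)
 (Net.cons (nat_lit 64) (nat_lit 0xc0173451f4244068)
 Net.nil)))))))))))))

noncomputable def ns_47 : Net :=
 (Net.cons (nat_lit 64) (nat_lit 0xe3d8c57c1cd05158)
 (Net.cons (nat_lit 32) (nat_lit 0x67bb861700000000b8ab6970)
 (Net.cons (nat_lit 16) (nat_lit 0x87830000b0e80000fb2d0000a0e4)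
 (Net.cons (nat_lit 8) (nat_lit 0x650009002600f700bc00a400d70014)
 (Net.cons (nat_lit 4) (nat_lit 0x20300000b0004010a0b0403030c0001)
 (Net.cons (nat_lit 2) (nat_lit 0x20130321323233100121102002100032)
 (Net.cons (nat_lit 1) (nat_lit 0x1114411145014100510404114040440)
 (Net.cons (nat_lit 2) (nat_lit 0x20020220020200000202222000220)
 (Net.cons (nat_lit 4) (nat_lit 0x2000c040a0008080e080408000c0002)
 (Net.cons (nat_lit 8) (nat_lit 0x44008a002600aa009e002c00d00012)
 (Net.cons (nat_lit 16) (nat_lit 0x1e20000c1b40000e3a80000a6e0)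
 (Net.cons (nat_lit 32) (nat_lit 0xa7a3432600000000b08b4b70)
 (Net.cons (nat_lit 64) (nat_lit 0xe3d8c57540b3b948)
 Net.nil)))))))))))))

noncomputable def ns_48 : Net :=
 (Net.cons (nat_lit 64) 4032
 (Net.cons (nat_lit 32) (nat_lit 0xffff0000)
 (Net.cons (nat_lit 8) (nat_lit 0xc00ff00ff00ff00a0)
 (Net.cons (nat_lit 4) (nat_lit 0x9000c0000000000000e00)
 (Net.cons (nat_lit 2) (nat_lit 0x3103300000200020200120)
 (Net.cons (nat_lit 1) (nat_lit 0x4150011010101010105040)
 (Net.cons (nat_lit 2) (nat_lit 0x2000002020002000000020)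
 (Net.cons (nat_lit 4) (nat_lit 0x6000c0000000000000e00)
 (Net.cons (nat_lit 8) (nat_lit 0xc0000000000000020)
 (Net.cons (nat_lit 64) 4032
 Net.nil))))))))))

noncomputable def ns_49 : Net :=
 (Net.cons (nat_lit 32) (nat_lit 0xc00000000000000000ff0000)
 (Net.cons (nat_lit 16) (nat_lit 0xc000000000000000ffff00000000)
 (Net.cons (nat_lit 8) (nat_lit 0xc0000000300000000000ff0000)
 (Net.cons (nat_lit 4) (nat_lit 0xc03020f00020e0e020e020e0a)
 (Net.cons (nat_lit 2) (nat_lit 0x2300001232321210122232)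
 (Net.cons (nat_lit 1) (nat_lit 0x544414414144404041001)
 (Net.cons (nat_lit 2) (nat_lit 0x222220202002002)
 (Net.cons (nat_lit 4) (nat_lit 0x200000e02020e020e0a0a)
 (Net.cons (nat_lit 8) (nat_lit 0xc0000000300000000000000000)
 (Net.cons (nat_lit 16) (nat_lit 0xc000000000000000000000000000)
 (Net.cons (nat_lit 32) (nat_lit 0xc00000000000000000ff0000)
 Net.nil)))))))))))

noncomputable def ns_50 : Net :=
 (Net.cons (nat_lit 64) (nat_lit 0xcbb3580575195a2f)
 (Net.cons (nat_lit 32) (nat_lit 0x49d2dcef00000000a4821456)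
 (Net.cons (nat_lit 16) (nat_lit 0x4a6700000320000015fa000064d8)
 (Net.cons (nat_lit 8) (nat_lit 0x6a0054004100280052001c00d50042)
 (Net.cons (nat_lit 4) (nat_lit 0x6050c01080d050004040a0a0f090402)
 (Net.cons (nat_lit 2) (nat_lit 0x22110030210203020120223212110312)
 (Net.cons (nat_lit 1) (nat_lit 0x4040454114511145040044141400414)
 (Net.cons (nat_lit 2) (nat_lit 0x2000200200002020000022222000000)
 (Net.cons (nat_lit 4) (nat_lit 0x4000c0c0a000600020c080a00080600)
 (Net.cons (nat_lit 8) (nat_lit 0x2a00dc00da00020062009c00880066)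
 (Net.cons (nat_lit 16) (nat_lit 0x82040000132a000005b4000007b4)
 (Net.cons (nat_lit 32) (nat_lit 0xc95294e600000000a08e1040)
 (Net.cons (nat_lit 64) (nat_lit 0xcbb358080c1ffe28)
 Net.nil)))))))))))))

noncomputable def ns_51 : Net :=
 (Net.cons (nat_lit 64) (nat_lit 0x2820ff0044230d08)
 (Net.cons (nat_lit 32) (nat_lit 0x2828900000000000dc6a2820)
 (Net.cons (nat_lit 16) (nat_lit 0xa000000086500000240200007090)
 (Net.cons (nat_lit 8) (nat_lit 0xb001400ee008a000000c80080)
 (Net.cons (nat_lit 4) (nat_lit 0x80400040d060b080200020d020201)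
 (Net.cons (nat_lit 2) (nat_lit 0x20202000221310130230002031002002)
 (Net.cons (nat_lit 1) (nat_lit 0x4505101405411101041014101140)
 (Net.cons (nat_lit 2) (nat_lit 0x2000000000020200002020002000)
 (Net.cons (nat_lit 4) (nat_lit 0x80400000a02000802000000020200)
 (Net.cons (nat_lit 8) (nat_lit 0x800a400b20082000000c80080)
 (Net.cons (nat_lit 16) (nat_lit 0xa000000086500000240200003090)
 (Net.cons (nat_lit 32) (nat_lit 0x2828900000000000dc6a2820)
 (Net.cons (nat_lit 64) (nat_lit 0x2820ff0044230d08)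
 Net.nil)))))))))))))

noncomputable def ns_52 : Net :=
 (Net.cons (nat_lit 64) (nat_lit 0x912fc2b97910c189)
 (Net.cons (nat_lit 32) (nat_lit 0xffcac41b000000008407e79f)
 (Net.cons (nat_lit 16) (nat_lit 0x63470000a3360000f3ca000058d2)
 (Net.cons (nat_lit 8) (nat_lit 0xb0002600a700e10095004e00060070)
 (Net.cons (nat_lit 4) (nat_lit 0x40a020d0000080c0b040e0309020501)
 (Net.cons (nat_lit 2) (nat_lit 0x20022323032012013233002020022130)
 (Net.cons (nat_lit 1) (nat_lit 0x44110401040111401111045011044044)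
 (Net.cons (nat_lit 2) (nat_lit 0x2020202020022000220020020002000)
 (Net.cons (nat_lit 4) (nat_lit 0xc0a060a0208000c00000c0e0a040408)
 (Net.cons (nat_lit 8) (nat_lit 0xb000a2008400b80040004e002e0044)
 (Net.cons (nat_lit 16) (nat_lit 0x63ca000033200000b348000079da)
 (Net.cons (nat_lit 32) (nat_lit 0x6ee5c42400000000e207cedc)
 (Net.cons (nat_lit 64) (nat_lit 0x912fc2b08aa60802)
 Net.nil)))))))))))))

noncomputable def ns_53 : Net :=
 (Net.cons (nat_lit 64) (nat_lit 0xa3c55d94d0ef740c)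
 (Net.cons (nat_lit 32) (nat_lit 0xe34be659000000007b1662fd)
 (Net.cons (nat_lit 16) (nat_lit 0xfb860000236d0000a47a0000285d)
 (Net.cons (nat_lit 8) (nat_lit 0x22006600200062008a00a800dc00bd)
 (Net.cons (nat_lit 4) (nat_lit 0x40c060e02090f0502000a05000e010c)
 (Net.cons (nat_lit 2) (nat_lit 0x20212112012013021210021020120211)
 (Net.cons (nat_lit 1) (nat_lit 0x15004011011054440154441144441101)
 (Net.cons (nat_lit 2) (nat_lit 0x20000020002002020200220020200202)
 (Net.cons (nat_lit 4) (nat_lit 0xc00020c02000e0400080004080a0208)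
 (Net.cons (nat_lit 8) (nat_lit 0xe0002400a8001000d800ae007000b4)
 (Net.cons (nat_lit 16) (nat_lit 0xdac20000265c000086720000a85c)
 (Net.cons (nat_lit 32) (nat_lit 0x62cfea42000000006b2cc0d0)
 (Net.cons (nat_lit 64) (nat_lit 0xa3c55d93792eab44)
 Net.nil)))))))))))))

noncomputable def ns_54 : Net :=
 (Net.cons (nat_lit 64) (nat_lit 0x3983706e14f7cc60)
 (Net.cons (nat_lit 32) (nat_lit 0x21bacc430000000099c78b4c)
 (Net.cons (nat_lit 16) (nat_lit 0xfc2b0000623d0000194100008024)
 (Net.cons (nat_lit 8) (nat_lit 0x10070009c006300180083002c00ba)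
 (Net.cons (nat_lit 4) (nat_lit 0x20a080c030c040c0c0e05020c00090d)
 (Net.cons (nat_lit 2) (nat_lit 0x23222030123202203001301002301102)
 (Net.cons (nat_lit 1) (nat_lit 0x14104010404404411045105044400151)
 (Net.cons (nat_lit 2) (nat_lit 0x22200020002002222020200022200000)
 (Net.cons (nat_lit 4) (nat_lit 0xe00080c0c0a040e04000c020804020c)
 (Net.cons (nat_lit 8) (nat_lit 0x20005000e80060005a000c006c0034)
 (Net.cons (nat_lit 16) (nat_lit 0xd420000013f80000115600000628)
 (Net.cons (nat_lit 32) (nat_lit 0x30bbec00000000009da78940)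
 (Net.cons (nat_lit 64) (nat_lit 0x3983706b85b0a4cc)
 Net.nil)))))))))))))

noncomputable def ns_55 : Net :=
 (Net.cons (nat_lit 64) (nat_lit 0x62285646bf8a2a5c)
 (Net.cons (nat_lit 32) (nat_lit 0x37580d2400000000d961e54a)
 (Net.cons (nat_lit 16) (nat_lit 0x345800008e2b0000acdc00000db5)
 (Net.cons (nat_lit 8) (nat_lit 0x8000d002600580001008100a7008d)
 (Net.cons (nat_lit 4) (nat_lit 0x700070508020802040d080009000108)
 (Net.cons (nat_lit 2) (nat_lit 0x21000233022210311003003101300202)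
 (Net.cons (nat_lit 1) (nat_lit 0x44000540040510444011040114111101)
 (Net.cons (nat_lit 2) (nat_lit 0x20000020000020220020000000002002)
 (Net.cons (nat_lit 4) (nat_lit 0x6000404080a0000000e080008080800)
 (Net.cons (nat_lit 8) (nat_lit 0x48003c002000f0007800c400240012)
 (Net.cons (nat_lit 16) (nat_lit 0x735000000c2e00002c7e00003d22)
 (Net.cons (nat_lit 32) (nat_lit 0x37780d24000000004c6064e0)
 (Net.cons (nat_lit 64) (nat_lit 0x62285646bf899014)
 Net.nil)))))))))))))

noncomputable def ns_56 : Net :=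
 (Net.cons (nat_lit 64) (nat_lit 0xa2080c5280621840)
 (Net.cons (nat_lit 32) (nat_lit 0x32190c30000000005cd9182a)
 (Net.cons (nat_lit 16) (nat_lit 0x100000230c00005a2c00003404)
 (Net.cons (nat_lit 8) (nat_lit 0x22000000c6002500a4007000940002)
 (Net.cons (nat_lit 4) (nat_lit 0x8000b040005020400080d0205000a)
 (Net.cons (nat_lit 2) (nat_lit 0x20200000012033010203203132202010)
 (Net.cons (nat_lit 1) (nat_lit 0x10010440000015445005004101004005)
 (Net.cons (nat_lit 2) (nat_lit 0x20000000000020000000002002002000)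
 (Net.cons (nat_lit 4) (nat_lit 0x8000804000c00040008020200000a)
 (Net.cons (nat_lit 8) (nat_lit 0x22000000c0002800a4007000940000)
 (Net.cons (nat_lit 16) (nat_lit 0x100000230c00005a2c00003404)
 (Net.cons (nat_lit 32) (nat_lit 0x32190c20000000005cd9182a)
 (Net.cons (nat_lit 64) (nat_lit 0xa2080c5200421840)
 Net.nil)))))))))))))

noncomputable def ns_57 : Net :=
 (Net.cons (nat_lit 64) (nat_lit 0xd40cc39b234cdd8c)
 (Net.cons (nat_lit 32) (nat_lit 0x7dd21f3e00000000e9e54c31)
 (Net.cons (nat_lit 16) (nat_lit 0x6dc00004414000061750000bef3)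
 (Net.cons (nat_lit 8) (nat_lit 0xb2003e00d800820036006f00a80066)
 (Net.cons (nat_lit 4) (nat_lit 0xe0e0400080d040a02020e000b0c0709)
 (Net.cons (nat_lit 2) (nat_lit 0x1320111202220213220113100233023)
 (Net.cons (nat_lit 1) (nat_lit 0x50505440104140441401104414044504)
 (Net.cons (nat_lit 2) (nat_lit 0x200202220202200202020002000)
 (Net.cons (nat_lit 4) (nat_lit 0xa040008080800020602080000040400)
 (Net.cons (nat_lit 8) (nat_lit 0x20003600d800860054003e0000006a)
 (Net.cons (nat_lit 16) (nat_lit 0x6c2000084100000490200008c70)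
 (Net.cons (nat_lit 32) (nat_lit 0x6dd29e3000000000e8666050)
 (Net.cons (nat_lit 64) (nat_lit 0xd40cc391f588675c)
 Net.nil)))))))))))))

noncomputable def ns_58 : Net :=
 (Net.cons (nat_lit 64) (nat_lit 0xf8ed1182f6ea6b67)
 (Net.cons (nat_lit 32) (nat_lit 0x4aad106e00000000d966df73)
 (Net.cons (nat_lit 16) (nat_lit 0xf12d0000d5460000ff340000c71b)
 (Net.cons (nat_lit 8) (nat_lit 0xc500c0001100b80084007d004a0080)
 (Net.cons (nat_lit 4) (nat_lit 0x60800060904050a0d040a0a02080206)
 (Net.cons (nat_lit 2) (nat_lit 0x21201000213202132112000102122032)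
 (Net.cons (nat_lit 1) (nat_lit 0x40001041540140441044441000010541)
 (Net.cons (nat_lit 2) (nat_lit 0x2000000200200022022000020020)
 (Net.cons (nat_lit 4) (nat_lit 0x208000a000c04000802000a08080a04)
 (Net.cons (nat_lit 8) (nat_lit 0xc400e00028007a00800030004800a0)
 (Net.cons (nat_lit 16) (nat_lit 0xf188000015d80000fa400000e380)
 (Net.cons (nat_lit 32) (nat_lit 0xaa69016800000000da641124)
 (Net.cons (nat_lit 64) (nat_lit 0xf8ed11828a1ba220)
 Net.nil)))))))))))))

noncomputable def ns_59 : Net :=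
 (Net.cons (nat_lit 64) (nat_lit 0x468827c474c83806)
 (Net.cons (nat_lit 32) (nat_lit 0xe38b2f4a00000000cd53f159)
 (Net.cons (nat_lit 16) (nat_lit 0x8a00000043340000e85c000057f0)
 (Net.cons (nat_lit 8) (nat_lit 0x8f00a40060001400e0001800da0002)
 (Net.cons (nat_lit 4) (nat_lit 0x3000e010d0001070e0f0808)
 (Net.cons (nat_lit 2) (nat_lit 0x30023221002112030002110032230)
 (Net.cons (nat_lit 1) (nat_lit 0x41000141414010145051104440041144)
 (Net.cons (nat_lit 2) (nat_lit 0x2000000200000020000002000022022)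
 (Net.cons (nat_lit 4) (nat_lit 0x200000c00000804080400020c060008)
 (Net.cons (nat_lit 8) (nat_lit 0x8c00220020002200cc0068006a0092)
 (Net.cons (nat_lit 16) (nat_lit 0x8a00000001c40000811a0000df60)
 (Net.cons (nat_lit 32) (nat_lit 0xe1832b8200000000fd35e970)
 (Net.cons (nat_lit 64) (nat_lit 0x468827cb4f430484)
 Net.nil)))))))))))))

noncomputable def ns_60 : Net :=
 (Net.cons (nat_lit 64) (nat_lit 0xac7a548d08c88d69)
 (Net.cons (nat_lit 32) (nat_lit 0x71fd28df00000000bf551938)
 (Net.cons (nat_lit 16) (nat_lit 0x21fe000093ae0000eac90000ed01)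
 (Net.cons (nat_lit 8) (nat_lit 0x98004f008000c000aa00eb004c0031)
 (Net.cons (nat_lit 4) (nat_lit 0xc0d080c090c000e0005020504060004)
 (Net.cons (nat_lit 2) (nat_lit 0x10320330020200030121202102003001)
 (Net.cons (nat_lit 1) (nat_lit 0x44104414011400040045504050044004)
 (Net.cons (nat_lit 2) (nat_lit 0x202200020000000020000000022002)
 (Net.cons (nat_lit 4) (nat_lit 0x808080c000000060008020e0600000c)
 (Net.cons (nat_lit 8) (nat_lit 0x480016002e00c000b2005800480070)
 (Net.cons (nat_lit 16) (nat_lit 0x41ec000011840000f09c0000ac00)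
 (Net.cons (nat_lit 32) (nat_lit 0x51ed785000000000ed553010)
 (Net.cons (nat_lit 64) (nat_lit 0xac7a54816f4d5088)
 Net.nil)))))))))))))

noncomputable def ns_61 : Net :=
 (Net.cons (nat_lit 64) (nat_lit 0x979b9f8014b98d60)
 (Net.cons (nat_lit 32) (nat_lit 0x706749e100000000b01b24ad)
 (Net.cons (nat_lit 16) (nat_lit 0xe3240000050b00003c5a00005e32)
 (Net.cons (nat_lit 8) (nat_lit 0x87008b009d002f0080002000c40067)
 (Net.cons (nat_lit 4) (nat_lit 0x30e080a08050900040208030b020a04)
 (Net.cons (nat_lit 2) (nat_lit 0x21132000001222002033302210300100)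
 (Net.cons (nat_lit 1) (nat_lit 0x10145144014015014010501114400505)
 (Net.cons (nat_lit 2) (nat_lit 0x220000020020002020002022200000)
 (Net.cons (nat_lit 4) (nat_lit 0x6060400080400020400080000000a00)
 (Net.cons (nat_lit 8) (nat_lit 0xd20024000600b4008400180096000a)
 (Net.cons (nat_lit 16) (nat_lit 0x264c0000051000003c5200007676)
 (Net.cons (nat_lit 32) (nat_lit 0x65f442e400000000907b04ac)
 (Net.cons (nat_lit 64) (nat_lit 0x979b9f8b465a20c0)
 Net.nil)))))))))))))

noncomputable def ns_62 : Net :=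
 (Net.cons (nat_lit 64) (nat_lit 0x1928fada5875cc18)
 (Net.cons (nat_lit 32) (nat_lit 0x540482a50000000024172d21)
 (Net.cons (nat_lit 16) (nat_lit 0x1d0c0000c4130000a12200004cb7)
 (Net.cons (nat_lit 8) (nat_lit 0x18007b0094004600e100ac003600dd)
 (Net.cons (nat_lit 4) (nat_lit 0x80806010d050f090605000a0e040906)
 (Net.cons (nat_lit 2) (nat_lit 0x3111010123220021002201021000)
 (Net.cons (nat_lit 1) (nat_lit 0x40105414100510114040040101540514)
 (Net.cons (nat_lit 2) (nat_lit 0x200002200020200020000202020002)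
 (Net.cons (nat_lit 4) (nat_lit 0x808000e0c0a0208000400000a0e040e)
 (Net.cons (nat_lit 8) (nat_lit 0x1000200074004600a600a4007600d0)
 (Net.cons (nat_lit 16) (nat_lit 0x55240000de880000a12200005b48)
 (Net.cons (nat_lit 32) (nat_lit 0x552c027a0000000080052908)
 (Net.cons (nat_lit 64) (nat_lit 0x1928fad444ec980a)
 Net.nil)))))))))))))

noncomputable def ns_63 : Net :=
 (Net.cons (nat_lit 64) (nat_lit 0xeff410000d50160)
 (Net.cons (nat_lit 32) (nat_lit 0x4d48a08000000000735810a1)
 (Net.cons (nat_lit 16) (nat_lit 0x6b8c00009b720000295000005900)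
 (Net.cons (nat_lit 8) (nat_lit 0xf000cb0056005a004000d2004800b2)
 (Net.cons (nat_lit 4) (nat_lit 0xc00000c0d080c0c0e08070200000404)
 (Net.cons (nat_lit 2) (nat_lit 0x12030002202120010220310200222020)
 (Net.cons (nat_lit 1) (nat_lit 0x1050101001014401410411400411114)
 (Net.cons (nat_lit 2) (nat_lit 0x2000200002020000220200200222020)
 (Net.cons (nat_lit 4) (nat_lit 0xc00080008080c0c0608000200000004)
 (Net.cons (nat_lit 8) (nat_lit 0x900040005400580040005200480002)
 (Net.cons (nat_lit 16) (nat_lit 0x6b8c000099500000295000005900)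
 (Net.cons (nat_lit 32) (nat_lit 0x4d48a08000000000735810a0)
 (Net.cons (nat_lit 64) (nat_lit 0xeff410000550160)
 Net.nil)))))))))))))

noncomputable def ns_64 : Net :=
 (Net.cons (nat_lit 64) (nat_lit 0x316867c7e5b7295a)
 (Net.cons (nat_lit 32) (nat_lit 0x91ce2b450000000007cda220)
 (Net.cons (nat_lit 16) (nat_lit 0x15aa0000da080000b1c9000006aa)
 (Net.cons (nat_lit 8) (nat_lit 0x80006b0058004f00120023006e00f3)
 (Net.cons (nat_lit 4) (nat_lit 0x408010a020405090a0802090006090d)
 (Net.cons (nat_lit 2) (nat_lit 0x20023022130110113222000120032203)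
 (Net.cons (nat_lit 1) (nat_lit 0x40444040450001411014014414440401)
 (Net.cons (nat_lit 2) (nat_lit 0x22020000002200022000200020202)
 (Net.cons (nat_lit 4) (nat_lit 0x40402000004060e020800080a0e000c)
 (Net.cons (nat_lit 8) (nat_lit 0x20004800040008002000de0060)
 (Net.cons (nat_lit 16) (nat_lit 0x35a20000ae280000b1c200009ab8)
 (Net.cons (nat_lit 32) (nat_lit 0xb1e6290400000000455a2210)
 (Net.cons (nat_lit 64) (nat_lit 0x316867c8acc0934a)
 Net.nil)))))))))))))

noncomputable def ns_65 : Net :=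
 (Net.cons (nat_lit 64) (nat_lit 0x5a50a49d508b0da5)
 (Net.cons (nat_lit 32) (nat_lit 0x28e285d00000000324addbf)
 (Net.cons (nat_lit 16) (nat_lit 0xd6cc000060e700003a4d0000e4c9)
 (Net.cons (nat_lit 8) (nat_lit 0x800ae002b00b600a4005e00010079)
 (Net.cons (nat_lit 4) (nat_lit 0xc0a090d0f030c030004060406060d)
 (Net.cons (nat_lit 2) (nat_lit 0x301010121000122201033303302001)
 (Net.cons (nat_lit 1) (nat_lit 0x141050114101041404010401404114)
 (Net.cons (nat_lit 2) (nat_lit 0x220000022200022002020202202200)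
 (Net.cons (nat_lit 4) (nat_lit 0x8060a0c04020602040c000400040c)
 (Net.cons (nat_lit 8) (nat_lit 0x8c00a4001c00f600aa006c006800dc)
 (Net.cons (nat_lit 16) (nat_lit 0xd60c000096e600003a620000a5e0)
 (Net.cons (nat_lit 32) (nat_lit 0x4ade8c540000000036c39cb2)
 (Net.cons (nat_lit 64) (nat_lit 0x5a50a4967781b120)
 Net.nil)))))))))))))

noncomputable def ns_66 : Net :=
 (Net.cons (nat_lit 64) (nat_lit 0x7e304460410010a0)
 (Net.cons (nat_lit 32) (nat_lit 0x8b644840000000008d878908)
 (Net.cons (nat_lit 16) (nat_lit 0x2c00000076640000884000000b80)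
 (Net.cons (nat_lit 8) (nat_lit 0x680064001200ec0008005c00140032)
 (Net.cons (nat_lit 4) (nat_lit 0x604000602010a080808080a00020002)
 (Net.cons (nat_lit 2) (nat_lit 0x20102020103300130003130003003000)
 (Net.cons (nat_lit 1) (nat_lit 0x11044445140401050400001040105041)
 (Net.cons (nat_lit 2) (nat_lit 0x20002020000200000000000000000000)
 (Net.cons (nat_lit 4) (nat_lit 0x2040006020402080808080200020002)
 (Net.cons (nat_lit 8) (nat_lit 0x680064004000ec0000005c00140030)
 (Net.cons (nat_lit 16) (nat_lit 0x2c00000056640000884000000b80)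
 (Net.cons (nat_lit 32) (nat_lit 0x89644840000000008c878900)
 (Net.cons (nat_lit 64) (nat_lit 0x7e304460410010a0)
 Net.nil)))))))))))))

noncomputable def ns_67 : Net :=
 (Net.cons (nat_lit 64) (nat_lit 0x4610665dd1413e00)
 (Net.cons (nat_lit 32) (nat_lit 0x7219a41a00000000c0020e20)
 (Net.cons (nat_lit 16) (nat_lit 0xc2410000d2f00000f108000083c0)
 (Net.cons (nat_lit 8) (nat_lit 0x6400d400f40080004a001000ba)
 (Net.cons (nat_lit 4) (nat_lit 0xe0800020e06090408020e0e02020108)
 (Net.cons (nat_lit 2) (nat_lit 0x10000012300220032002322022300220)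
 (Net.cons (nat_lit 1) (nat_lit 0x4400000041440401044000110014041)
 (Net.cons (nat_lit 2) (nat_lit 0x220002020000020000020)
 (Net.cons (nat_lit 4) (nat_lit 0xc0800000e060006080c040a02020000)
 (Net.cons (nat_lit 8) (nat_lit 0x6000d400f40080004a001000ba)
 (Net.cons (nat_lit 16) (nat_lit 0xc2400000d2f00000f008000083c0)
 (Net.cons (nat_lit 32) (nat_lit 0x7019841000000000c0020e20)
 (Net.cons (nat_lit 64) (nat_lit 0x4610665dd1413e00)
 Net.nil)))))))))))))

noncomputable def ns_68 : Net :=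
 (Net.cons (nat_lit 64) (nat_lit 0x7c427a2122ec2389)
 (Net.cons (nat_lit 32) (nat_lit 0xd94492d000000000cbc9f88b)
 (Net.cons (nat_lit 16) (nat_lit 0x96200000130800006e2000001013)
 (Net.cons (nat_lit 8) (nat_lit 0x4a006e00c0002000d5007300860034)
 (Net.cons (nat_lit 4) (nat_lit 0x20e0c05070206000c0c010e080b090e)
 (Net.cons (nat_lit 2) (nat_lit 0x203233032010003102101100030231)
 (Net.cons (nat_lit 1) (nat_lit 0x41401051414110014441111404011110)
 (Net.cons (nat_lit 2) (nat_lit 0x20002002002200022002022002020200)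
 (Net.cons (nat_lit 4) (nat_lit 0xc040c08000602080000020808080a)
 (Net.cons (nat_lit 8) (nat_lit 0xa00aa00a0002200140020002000b4)
 (Net.cons (nat_lit 16) (nat_lit 0xd66000003302000027e000009100)
 (Net.cons (nat_lit 32) (nat_lit 0xe944b2d8000000004af47d08)
 (Net.cons (nat_lit 64) (nat_lit 0x7c427a2f0306a312)
 Net.nil)))))))))))))

noncomputable def ns_69 : Net :=
 (Net.cons (nat_lit 64) (nat_lit 0x140ea304e6b564c5)
 (Net.cons (nat_lit 32) (nat_lit 0x4549af9900000000af3006ba)
 (Net.cons (nat_lit 16) (nat_lit 0x10dd00008b8a0000ab310000bd00)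
 (Net.cons (nat_lit 8) (nat_lit 0x15005d00b200b2000000f400a60010)
 (Net.cons (nat_lit 4) (nat_lit 0x201050e0403040708080e0b0403)
 (Net.cons (nat_lit 2) (nat_lit 0x10012102101002220021232111002330)
 (Net.cons (nat_lit 1) (nat_lit 0x54404011004410411454141401140)
 (Net.cons (nat_lit 2) (nat_lit 0x2000020220200202200220)
 (Net.cons (nat_lit 4) (nat_lit 0x408080006060c08000600040c080c04)
 (Net.cons (nat_lit 8) (nat_lit 0x10005a008000980040004c00320060)
 (Net.cons (nat_lit 16) (nat_lit 0x10de0000ab8a0000a9c000007d00)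
 (Net.cons (nat_lit 32) (nat_lit 0x45418e9000000000c6d11680)
 (Net.cons (nat_lit 64) (nat_lit 0x140ea308c28da404)
 Net.nil)))))))))))))

noncomputable def ns_70 : Net :=
 (Net.cons (nat_lit 64) (nat_lit 0x862345cae07bacc7)
 (Net.cons (nat_lit 32) (nat_lit 0xbae5bc1e0000000032f5162d)
 (Net.cons (nat_lit 16) (nat_lit 0xdd8300008408000020b20000b47e)
 (Net.cons (nat_lit 8) (nat_lit 0xa300600066008400530010005c0037)
 (Net.cons (nat_lit 4) (nat_lit 0xa04080e000f08000e0f000004080f08)
 (Net.cons (nat_lit 2) (nat_lit 0x21201010002103200111022121303121)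
 (Net.cons (nat_lit 1) (nat_lit 0x1400441014004411041041450101004)
 (Net.cons (nat_lit 2) (nat_lit 0x200002000000002020020000000000)
 (Net.cons (nat_lit 4) (nat_lit 0x4040004020a08040c08000008000a06)
 (Net.cons (nat_lit 8) (nat_lit 0xe400ec00640040005000a800840070)
 (Net.cons (nat_lit 16) (nat_lit 0x4dc20000c500000010920000dca8)
 (Net.cons (nat_lit 32) (nat_lit 0xbac7bd100000000043b10e34)
 (Net.cons (nat_lit 64) (nat_lit 0x862345c65de8854e)
 Net.nil)))))))))))))

noncomputable def ns_71 : Net :=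
 (Net.cons (nat_lit 64) (nat_lit 0x5cc266c779844440)
 (Net.cons (nat_lit 32) (nat_lit 0x492560cc00000000fad425dc)
 (Net.cons (nat_lit 16) (nat_lit 0x26070000e0120000e8ae0000e110)
 (Net.cons (nat_lit 8) (nat_lit 0xe2000a0024000d0018002400440024)
 (Net.cons (nat_lit 4) (nat_lit 0x70600000c0602010b0a010e08060a00)
 (Net.cons (nat_lit 2) (nat_lit 0x30200201202003322212111301312000)
 (Net.cons (nat_lit 1) (nat_lit 0x11400440144440010110140504410401)
 (Net.cons (nat_lit 2) (nat_lit 0x200000202020020200200000200202)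
 (Net.cons (nat_lit 4) (nat_lit 0x8040000040c060008080c0608000000)
 (Net.cons (nat_lit 8) (nat_lit 0xc6000a00a400200018001000400004)
 (Net.cons (nat_lit 16) (nat_lit 0x2682000028da0000e0de0000e000)
 (Net.cons (nat_lit 32) (nat_lit 0x5165604c00000000fbe0a5dc)
 (Net.cons (nat_lit 64) (nat_lit 0x5cc266c7e9e10180)
 Net.nil)))))))))))))

noncomputable def ns_72 : Net :=
 (Net.cons (nat_lit 64) (nat_lit 0x80042e3bd2a60000)
 (Net.cons (nat_lit 32) (nat_lit 0xe44058000000000c2a84f80)
 (Net.cons (nat_lit 16) (nat_lit 0xaa04000070200000170200005026)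
 (Net.cons (nat_lit 8) (nat_lit 0x480012004400120020000c00780034)
 (Net.cons (nat_lit 4) (nat_lit 0x6000900000e0a0c0a0008040d000502)
 (Net.cons (nat_lit 2) (nat_lit 0x22000223212012302130020231202002)
 (Net.cons (nat_lit 1) (nat_lit 0x44040400001404514000414100104011)
 (Net.cons (nat_lit 2) (nat_lit 0x22000200002002002000020200002022)
 (Net.cons (nat_lit 4) (nat_lit 0xc020c0200080408020400)
 (Net.cons (nat_lit 8) (nat_lit 0x480012004400120020000c00780034)
 (Net.cons (nat_lit 16) (nat_lit 0xaa040000702000000700000020a4)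
 (Net.cons (nat_lit 32) (nat_lit 0xe44058000000000c0a84f80)
 (Net.cons (nat_lit 64) (nat_lit 0x80042e3bd2a60000)
 Net.nil)))))))))))))

noncomputable def ns_73 : Net :=
 (Net.cons (nat_lit 64) (nat_lit 0xa00c12471cc64500)
 (Net.cons (nat_lit 32) (nat_lit 0x420c0a4000000000878a9b28)
 (Net.cons (nat_lit 16) (nat_lit 0x400000a044000066b400000928)
 (Net.cons (nat_lit 8) (nat_lit 0xa00a800000086009b001200c6)
 (Net.cons (nat_lit 4) (nat_lit 0x2040800080f060208030d09030a0c0c)
 (Net.cons (nat_lit 2) (nat_lit 0x2000212201100220000013200302)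
 (Net.cons (nat_lit 1) (nat_lit 0x40001004000040045444000014410001)
 (Net.cons (nat_lit 2) (nat_lit 0x2000000000000202000002200002)
 (Net.cons (nat_lit 4) (nat_lit 0x80008000400080c000004020c08)
 (Net.cons (nat_lit 8) (nat_lit 0x80080000000800000001200c6)
 (Net.cons (nat_lit 16) (nat_lit 0x400000a044000066b400000128)
 (Net.cons (nat_lit 32) (nat_lit 0x420c0a4000000000878a9b28)
 (Net.cons (nat_lit 64) (nat_lit 0xa00c12470cc64500)
 Net.nil)))))))))))))

noncomputable def ns_74 : Net :=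
 (Net.cons (nat_lit 64) (nat_lit 0x6e8eb380fe55f063)
 (Net.cons (nat_lit 32) (nat_lit 0x9581f37000000002cb15d53)
 (Net.cons (nat_lit 16) (nat_lit 0x21a0000aea40000259400009f49)
 (Net.cons (nat_lit 8) (nat_lit 0x8400a0009400ed00a8008d00ce0025)
 (Net.cons (nat_lit 4) (nat_lit 0x8020d0208080400000b030006000c)
 (Net.cons (nat_lit 2) (nat_lit 0x2322002002210010020200000203121)
 (Net.cons (nat_lit 1) (nat_lit 0x41141440401044041014111404010101)
 (Net.cons (nat_lit 2) (nat_lit 0x222000202020020020220000000000)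
 (Net.cons (nat_lit 4) (nat_lit 0x20808040400020800080202000a000c)
 (Net.cons (nat_lit 8) (nat_lit 0x880032009400ca00b8009400c800c4)
 (Net.cons (nat_lit 16) (nat_lit 0x260800001e2800003ca400005d64)
 (Net.cons (nat_lit 32) (nat_lit 0x9d23fb400000000adb11930)
 (Net.cons (nat_lit 64) (nat_lit 0x6e8eb384bbd6f448)
 Net.nil)))))))))))))

noncomputable def ns_75 : Net :=
 (Net.cons (nat_lit 64) (nat_lit 0x87898dd1fc296c29)
 (Net.cons (nat_lit 32) (nat_lit 0x8f41810d00000000a8c6b608)
 (Net.cons (nat_lit 16) (nat_lit 0x740000023c800000a1a00003102)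
 (Net.cons (nat_lit 8) (nat_lit 0x4c00d900b400ee009400e0002000b3)
 (Net.cons (nat_lit 4) (nat_lit 0x4080202080d060d02000c0d0f050003)
 (Net.cons (nat_lit 2) (nat_lit 0x3011322203220230212101210332032)
 (Net.cons (nat_lit 1) (nat_lit 0x1044101444141144440401440411141)
 (Net.cons (nat_lit 2) (nat_lit 0x2002202200200220200200000202020)
 (Net.cons (nat_lit 4) (nat_lit 0x4080e0a0806040a04080c080c000000)
 (Net.cons (nat_lit 8) (nat_lit 0xcc00d000d400ca00f400e4004000b2)
 (Net.cons (nat_lit 16) (nat_lit 0xa800000224c00005a3e00003358)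
 (Net.cons (nat_lit 32) (nat_lit 0xf48085c00000000e8c49600)
 (Net.cons (nat_lit 64) (nat_lit 0x87898ddbad03cc62)
 Net.nil)))))))))))))

noncomputable def ns_76 : Net :=
 (Net.cons (nat_lit 64) (nat_lit 0x62ba725ee7635078)
 (Net.cons (nat_lit 32) (nat_lit 0xcc36c32600000000e63bd73d)
 (Net.cons (nat_lit 16) (nat_lit 0xb72c0000471b0000d62f00009c4c)
 (Net.cons (nat_lit 8) (nat_lit 0x5c007e009a006a00a0002c00040048)
 (Net.cons (nat_lit 4) (nat_lit 0xd0804000a010505060e090400080602)
 (Net.cons (nat_lit 2) (nat_lit 0x30100020323001303302231203011200)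
 (Net.cons (nat_lit 1) (nat_lit 0x41005441504101144114400101044404)
 (Net.cons (nat_lit 2) (nat_lit 0x2000220002000002022000202000200)
 (Net.cons (nat_lit 4) (nat_lit 0x40000000400040000060c0400040200)
 (Net.cons (nat_lit 8) (nat_lit 0x56005800d8003200aa00a8000c004c)
 (Net.cons (nat_lit 16) (nat_lit 0x371c000015900000902400001108)
 (Net.cons (nat_lit 32) (nat_lit 0xae16f12c00000000eb7f5a36)
 (Net.cons (nat_lit 64) (nat_lit 0x62ba7256f804723a)
 Net.nil)))))))))))))

noncomputable def ns_77 : Net :=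
 (Net.cons (nat_lit 64) (nat_lit 0xe00b95d3e703c270)
 (Net.cons (nat_lit 32) (nat_lit 0x87410044000000002c904df4)
 (Net.cons (nat_lit 16) (nat_lit 0xd5d600007e8c00004c420000a08a)
 (Net.cons (nat_lit 8) (nat_lit 0xdb008800c0002e004c005600c10044)
 (Net.cons (nat_lit 4) (nat_lit 0xa0104080607010c00040d0808040e02)
 (Net.cons (nat_lit 2) (nat_lit 0x30220102123003030130212030231020)
 (Net.cons (nat_lit 1) (nat_lit 0x40140400401444110154500110505040)
 (Net.cons (nat_lit 2) (nat_lit 0x220000000222020002000000000020)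
 (Net.cons (nat_lit 4) (nat_lit 0x80000080c040a0c040008080a040600)
 (Net.cons (nat_lit 8) (nat_lit 0x5e00c8007c000e002a007a00f000c4)
 (Net.cons (nat_lit 16) (nat_lit 0x519600000e8000006ca200003286)
 (Net.cons (nat_lit 32) (nat_lit 0xe74391de000000002c904df4)
 (Net.cons (nat_lit 64) (nat_lit 0xe00b95dae303c244)
 Net.nil)))))))))))))

noncomputable def ns_78 : Net :=
 (Net.cons (nat_lit 64) (nat_lit 0xfa09dd52730316e8)
 (Net.cons (nat_lit 32) (nat_lit 0x7c670c410000000012b6c5ef)
 (Net.cons (nat_lit 16) (nat_lit 0x63290000428b0000c3b200006d6e)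
 (Net.cons (nat_lit 8) (nat_lit 0xb00ca008800e2008000f800880021)
 (Net.cons (nat_lit 4) (nat_lit 0xb08000c020304050d08090008060809)
 (Net.cons (nat_lit 2) (nat_lit 0x10011210300010011022130020200301)
 (Net.cons (nat_lit 1) (nat_lit 0x10400410101014040440150100414440)
 (Net.cons (nat_lit 2) (nat_lit 0x20002000020020200000002200)
 (Net.cons (nat_lit 4) (nat_lit 0x60c00060a02040a080c060000060a08)
 (Net.cons (nat_lit 8) (nat_lit 0x200a0009200aa008400d80088002c)
 (Net.cons (nat_lit 16) (nat_lit 0xb36400006a8a0000c65000006d48)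
 (Net.cons (nat_lit 32) (nat_lit 0x1e668c580000000012d4c5ec)
 (Net.cons (nat_lit 64) (nat_lit 0xfa09dd53b15214e0)
 Net.nil)))))))))))))

noncomputable def ns_79 : Net :=
 (Net.cons (nat_lit 64) (nat_lit 0x390e7a063f140ddd)
 (Net.cons (nat_lit 32) (nat_lit 0x93429d5e00000000e4504d2a)
 (Net.cons (nat_lit 16) (nat_lit 0x521600004612000062d80000c1c9)
 (Net.cons (nat_lit 8) (nat_lit 0x520026001500680084002f000000c9)
 (Net.cons (nat_lit 4) (nat_lit 0x70002060e010c0c0007080704090004)
 (Net.cons (nat_lit 2) (nat_lit 0x23122001212230120001213230333332)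
 (Net.cons (nat_lit 1) (nat_lit 0x5041001410110414041414411410114)
 (Net.cons (nat_lit 2) (nat_lit 0x200200000222020220222)
 (Net.cons (nat_lit 4) (nat_lit 0x4040a00080a0c00000e0c0804000000)
 (Net.cons (nat_lit 8) (nat_lit 0x180028003c0078000400480082001c)
 (Net.cons (nat_lit 16) (nat_lit 0x4956000076120000a6280000c462)
 (Net.cons (nat_lit 32) (nat_lit 0xb2409550000000006200cc58)
 (Net.cons (nat_lit 64) (nat_lit 0x390e7a0a0b14bdc4)
 Net.nil)))))))))))))

noncomputable def ns_80 : Net :=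
 (Net.cons (nat_lit 64) (nat_lit 0x444204600300e620)
 (Net.cons (nat_lit 32) (nat_lit 0x600c180000000000caa8a590)
 (Net.cons (nat_lit 16) (nat_lit 0x680e000000140000e000000017f0)
 (Net.cons (nat_lit 8) (nat_lit 0x44004000d0009800c8009400b8004a)
 (Net.cons (nat_lit 4) (nat_lit 0x8000200000c0a0208000d00010e0e0d)
 (Net.cons (nat_lit 2) (nat_lit 0x1221110233000230022222210222)
 (Net.cons (nat_lit 1) (nat_lit 0x40000440000000411050041400105404)
 (Net.cons (nat_lit 2) (nat_lit 0x220000000000000022200200202)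
 (Net.cons (nat_lit 4) (nat_lit 0x80002000008000208000400000c0e0c)
 (Net.cons (nat_lit 8) (nat_lit 0x40004000d0009800c0009400b8004a)
 (Net.cons (nat_lit 16) (nat_lit 0x6804000000140000e000000017f0)
 (Net.cons (nat_lit 32) (nat_lit 0x600c180000000000caa8a480)
 (Net.cons (nat_lit 64) (nat_lit 0x444204600300e620)
 Net.nil)))))))))))))

noncomputable def ns_81 : Net :=
 (Net.cons (nat_lit 64) (nat_lit 0x612052747e0a8000)
 (Net.cons (nat_lit 32) (nat_lit 0x55861a40000000006f3ef840)
 (Net.cons (nat_lit 16) (nat_lit 0x76240000a088000040b0000006ca)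
 (Net.cons (nat_lit 8) (nat_lit 0xb2004e005200b000f500d400920048)
 (Net.cons (nat_lit 4) (nat_lit 0x204060e0908060c040f0e0400000e03)
 (Net.cons (nat_lit 2) (nat_lit 0x100220222201030111103020232002)
 (Net.cons (nat_lit 1) (nat_lit 0x41001011114010554014055414154411)
 (Net.cons (nat_lit 2) (nat_lit 0x20222000000022000020200220)
 (Net.cons (nat_lit 4) (nat_lit 0x204020a0008060c04000e0400000008)
 (Net.cons (nat_lit 8) (nat_lit 0xb0000a005200b0003000d400020048)
 (Net.cons (nat_lit 16) (nat_lit 0x76240000a088000040b0000006ca)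
 (Net.cons (nat_lit 32) (nat_lit 0x55861a40000000006f3ef840)
 (Net.cons (nat_lit 64) (nat_lit 0x612052747e0a8000)
 Net.nil)))))))))))))

noncomputable def ns_82 : Net :=
 (Net.cons (nat_lit 64) (nat_lit 0xfa52358a5d0c7d6f)
 (Net.cons (nat_lit 32) (nat_lit 0xf119054100000000e2a64476)
 (Net.cons (nat_lit 16) (nat_lit 0xa60b000096060000ab9e000071f3)
 (Net.cons (nat_lit 8) (nat_lit 0x7d005600cc00970058002500280089)
 (Net.cons (nat_lit 4) (nat_lit 0x80b04020a0006050e060e060e01000c)
 (Net.cons (nat_lit 2) (nat_lit 0x30020302022001301000012132222230)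
 (Net.cons (nat_lit 1) (nat_lit 0x10544411101414411001014414141110)
 (Net.cons (nat_lit 2) (nat_lit 0x20020222002000202002022022022000)
 (Net.cons (nat_lit 4) (nat_lit 0x80804020a08000406020e0c0a000804)
 (Net.cons (nat_lit 8) (nat_lit 0x240054008c0024005e0062004c0080)
 (Net.cons (nat_lit 16) (nat_lit 0xa60200005a240000e9b800007142)
 (Net.cons (nat_lit 32) (nat_lit 0x390b044000000000e30b4c56)
 (Net.cons (nat_lit 64) (nat_lit 0xfa5235860acbb09c)
 Net.nil)))))))))))))

noncomputable def ns_83 : Net :=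
 (Net.cons (nat_lit 64) (nat_lit 0xab4b445df7fa6598)
 (Net.cons (nat_lit 32) (nat_lit 0x2394b9bb000000007275bc1d)
 (Net.cons (nat_lit 16) (nat_lit 0xa4fa0000a461000072f40000eacc)
 (Net.cons (nat_lit 8) (nat_lit 0x1200c1004b0008003400a500d800c0)
 (Net.cons (nat_lit 4) (nat_lit 0x50c0b09020400070005000804020804)
 (Net.cons (nat_lit 2) (nat_lit 0x10013202300302100030331111202001)
 (Net.cons (nat_lit 1) (nat_lit 0x41441001400544011010441441141005)
 (Net.cons (nat_lit 2) (nat_lit 0x2222002200020000020200002222000)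
 (Net.cons (nat_lit 4) (nat_lit 0x602020802040c06020400020a020808)
 (Net.cons (nat_lit 8) (nat_lit 0xb200080000006e00040050004600c0)
 (Net.cons (nat_lit 16) (nat_lit 0x25680000a428000040440000ea6c)
 (Net.cons (nat_lit 32) (nat_lit 0xa9d4fdfc000000003241b4bc)
 (Net.cons (nat_lit 64) (nat_lit 0xab4b445df34f130a)
 Net.nil)))))))))))))

noncomputable def ns_84 : Net :=
 (Net.cons (nat_lit 64) (nat_lit 0x750a8aad4de1f924)
 (Net.cons (nat_lit 32) (nat_lit 0x5c27c28a00000000fed94a02)
 (Net.cons (nat_lit 16) (nat_lit 0x960300003cb400005e7100006a2f)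
 (Net.cons (nat_lit 8) (nat_lit 0x6300480012007d0096001600110054)
 (Net.cons (nat_lit 4) (nat_lit 0x2080c0004020b090c02020808000509)
 (Net.cons (nat_lit 2) (nat_lit 0x22231023121030010021002232212000)
 (Net.cons (nat_lit 1) (nat_lit 0x1444005114440041404015441041501)
 (Net.cons (nat_lit 2) (nat_lit 0x20000202220020000000222002002)
 (Net.cons (nat_lit 4) (nat_lit 0x2080c040200020a000a020a080a0008)
 (Net.cons (nat_lit 8) (nat_lit 0x6200400098007c00c20030003000c0)
 (Net.cons (nat_lit 16) (nat_lit 0x960800000ba4000000380000ea18)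
 (Net.cons (nat_lit 32) (nat_lit 0x782f4000000000007e8c5b1e)
 (Net.cons (nat_lit 64) (nat_lit 0x750a8aac89939de0)
 Net.nil)))))))))))))

noncomputable def ns_85 : Net :=
 (Net.cons (nat_lit 64) (nat_lit 0x423a37cd72cfacb9)
 (Net.cons (nat_lit 32) (nat_lit 0x5e3e990700000000b6275f23)
 (Net.cons (nat_lit 16) (nat_lit 0x6aac0000837700001245000089c9)
 (Net.cons (nat_lit 8) (nat_lit 0x26004a009600e300af004900c80041)
 (Net.cons (nat_lit 4) (nat_lit 0xe060908060e0100020800070c09060c)
 (Net.cons (nat_lit 2) (nat_lit 0x30121303332131300221030310030332)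
 (Net.cons (nat_lit 1) (nat_lit 0x10500144140010111405011510010105)
 (Net.cons (nat_lit 2) (nat_lit 0x22020000222200000020020000)
 (Net.cons (nat_lit 4) (nat_lit 0xe0c000a000c020002000804080c0e04)
 (Net.cons (nat_lit 8) (nat_lit 0x2c000600f400e200ac001400000040)
 (Net.cons (nat_lit 16) (nat_lit 0x66a20000a12400008d4000000114)
 (Net.cons (nat_lit 32) (nat_lit 0x1e3cbf44000000008ae71f26)
 (Net.cons (nat_lit 64) (nat_lit 0x423a37cda75ac380)
 Net.nil)))))))))))))

noncomputable def ns_86 : Net :=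
 (Net.cons (nat_lit 64) (nat_lit 0x37f0b4fab210804)
 (Net.cons (nat_lit 32) (nat_lit 0x3f8f240000000009180a028)
 (Net.cons (nat_lit 16) (nat_lit 0xca18000029d20000c9000000eb00)
 (Net.cons (nat_lit 8) (nat_lit 0x8a001200c40065000000be008300de)
 (Net.cons (nat_lit 4) (nat_lit 0xc0e030500090c000000020c06000800)
 (Net.cons (nat_lit 2) (nat_lit 0x3230002022002020000213012200030)
 (Net.cons (nat_lit 1) (nat_lit 0x451100441144105000105001115004)
 (Net.cons (nat_lit 2) (nat_lit 0x200000020202000000200000220000)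
 (Net.cons (nat_lit 4) (nat_lit 0xc08000000020c000000080404020800)
 (Net.cons (nat_lit 8) (nat_lit 0x82001200c400600000002600a800d8)
 (Net.cons (nat_lit 16) (nat_lit 0xca18000029d20000c9000000eb00)
 (Net.cons (nat_lit 32) (nat_lit 0x3b8f040000000009100a028)
 (Net.cons (nat_lit 64) (nat_lit 0x37f0b4fa3210c00)
 Net.nil)))))))))))))

noncomputable def ns_87 : Net :=
 (Net.cons (nat_lit 64) (nat_lit 0xc36bb2af8f194c96)
 (Net.cons (nat_lit 32) (nat_lit 0xe96cf4ba00000000f5765e4c)
 (Net.cons (nat_lit 16) (nat_lit 0x56430000e1730000cb320000e5d2)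
 (Net.cons (nat_lit 8) (nat_lit 0x2a009400c800400070001900b50084)
 (Net.cons (nat_lit 4) (nat_lit 0xa0806060a0004000b0605060001000c)
 (Net.cons (nat_lit 2) (nat_lit 0x11213021020023020132301002022030)
 (Net.cons (nat_lit 1) (nat_lit 0x41004004450114141054100444510000)
 (Net.cons (nat_lit 2) (nat_lit 0x20002000200022222002200200020000)
 (Net.cons (nat_lit 4) (nat_lit 0xe08040e000004000a000c000000000c)
 (Net.cons (nat_lit 8) (nat_lit 0x24009600c800020034001c00260080)
 (Net.cons (nat_lit 16) (nat_lit 0x764c0000625000008a600000e5d6)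
 (Net.cons (nat_lit 32) (nat_lit 0x696ef4b800000000f1725a58)
 (Net.cons (nat_lit 64) (nat_lit 0xc36bb2af85303888)
 Net.nil)))))))))))))

noncomputable def ns_88 : Net :=
 (Net.cons (nat_lit 64) (nat_lit 0x84266205699d1ade)
 (Net.cons (nat_lit 32) (nat_lit 0xfdfb0e0b00000000da4133b0)
 (Net.cons (nat_lit 16) (nat_lit 0x9e8b0000651a000095c9000023c4)
 (Net.cons (nat_lit 8) (nat_lit 0x58009c003e0026008900990049001e)
 (Net.cons (nat_lit 4) (nat_lit 0x70e000c0f020a040c00080005030004)
 (Net.cons (nat_lit 2) (nat_lit 0x21000010120002010100020112302102)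
 (Net.cons (nat_lit 1) (nat_lit 0x40410401550014015000104401444050)
 (Net.cons (nat_lit 2) (nat_lit 0x20200002000000000000200002220000)
 (Net.cons (nat_lit 4) (nat_lit 0x60c000c040008000e0008000000000c)
 (Net.cons (nat_lit 8) (nat_lit 0x380018001c002000100030005000f0)
 (Net.cons (nat_lit 16) (nat_lit 0xf6880000e53c0000a48800006710)
 (Net.cons (nat_lit 32) (nat_lit 0x79fb4c0200000000e319323a)
 (Net.cons (nat_lit 64) (nat_lit 0x84266201656beab6)
 Net.nil)))))))))))))

noncomputable def ns_89 : Net :=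
 (Net.cons (nat_lit 64) (nat_lit 0xbd4b0e14c27a71f8)
 (Net.cons (nat_lit 32) (nat_lit 0x99f2e30900000000ab9363f8)
 (Net.cons (nat_lit 16) (nat_lit 0x52290000761f00007a570000e95c)
 (Net.cons (nat_lit 8) (nat_lit 0x490025004f005c00200096000800c8)
 (Net.cons (nat_lit 4) (nat_lit 0x20908020e08080207000c0a0e080400)
 (Net.cons (nat_lit 2) (nat_lit 0x20120300112220110230132212003032)
 (Net.cons (nat_lit 1) (nat_lit 0x45011114141440141400440151401044)
 (Net.cons (nat_lit 2) (nat_lit 0x20020202002200202200200202002022)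
 (Net.cons (nat_lit 4) (nat_lit 0x20800000a080c0a04040c0a04000c00)
 (Net.cons (nat_lit 8) (nat_lit 0xc2001c0044001000c0003e00040098)
 (Net.cons (nat_lit 16) (nat_lit 0xfb2800006612000098500000ad50)
 (Net.cons (nat_lit 32) (nat_lit 0x8cf9e91400000000a923c214)
 (Net.cons (nat_lit 64) (nat_lit 0xbd4b0e116f289840)
 Net.nil)))))))))))))

noncomputable def ns_90 : Net :=
 (Net.cons (nat_lit 64) (nat_lit 0xcf05a03917ca55ed)
 (Net.cons (nat_lit 32) (nat_lit 0x23914648000000001582c9b0)
 (Net.cons (nat_lit 16) (nat_lit 0xb9500008bc800000be0000085ea)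
 (Net.cons (nat_lit 8) (nat_lit 0xe2008b006d0092001a00d500710050)
 (Net.cons (nat_lit 4) (nat_lit 0x602070d0002070d0800040b0d0208)
 (Net.cons (nat_lit 2) (nat_lit 0x312303120302231012212210312223)
 (Net.cons (nat_lit 1) (nat_lit 0x114101414411011100101450040011)
 (Net.cons (nat_lit 2) (nat_lit 0x202200220202022000200200000020)
 (Net.cons (nat_lit 4) (nat_lit 0xc080c0402060c08040e0e080000)
 (Net.cons (nat_lit 8) (nat_lit 0xe6008400e00098003200c4007400b2)
 (Net.cons (nat_lit 16) (nat_lit 0xeb94000093e000001ff80000ad60)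
 (Net.cons (nat_lit 32) (nat_lit 0x27944650000000002532df70)
 (Net.cons (nat_lit 64) (nat_lit 0xcf05a0384ccd8c54)
 Net.nil)))))))))))))

noncomputable def ns_91 : Net :=
 (Net.cons (nat_lit 64) (nat_lit 0x4ab8c60235df2eac)
 (Net.cons (nat_lit 32) (nat_lit 0x5a118a6a0000000079d6fcb9)
 (Net.cons (nat_lit 16) (nat_lit 0x1eee00001a060000251c000038dd)
 (Net.cons (nat_lit 8) (nat_lit 0x7c003800660033003e006c00480049)
 (Net.cons (nat_lit 4) (nat_lit 0xc0c0608080a0e00090d000a05050b06)
 (Net.cons (nat_lit 2) (nat_lit 0x12012022332021231220212100102020)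
 (Net.cons (nat_lit 1) (nat_lit 0x54410411405454044144005445014140)
 (Net.cons (nat_lit 2) (nat_lit 0x2000222200200020020000220020020)
 (Net.cons (nat_lit 4) (nat_lit 0xc08040008000a0a000c000802060804)
 (Net.cons (nat_lit 8) (nat_lit 0x3000b8008000b0002a000c00d4004a)
 (Net.cons (nat_lit 16) (nat_lit 0x16e600001c80000038de00003b9c)
 (Net.cons (nat_lit 32) (nat_lit 0x5a29486000000000e994e5e0)
 (Net.cons (nat_lit 64) (nat_lit 0x4ab8c60de0354f28)
 Net.nil)))))))))))))

noncomputable def ns_92 : Net :=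
 (Net.cons (nat_lit 64) (nat_lit 0x399db89fbec9afa6)
 (Net.cons (nat_lit 32) (nat_lit 0xbbad7b57000000006e0dde2d)
 (Net.cons (nat_lit 16) (nat_lit 0x3295000025be0000a447000070cc)
 (Net.cons (nat_lit 8) (nat_lit 0x1000d70018002900a2002600140042)
 (Net.cons (nat_lit 4) (nat_lit 0x1000c0b0809040002040a0407080301)
 (Net.cons (nat_lit 2) (nat_lit 0x22210320302210210002210320001030)
 (Net.cons (nat_lit 1) (nat_lit 0x1044450001140040440540110041001)
 (Net.cons (nat_lit 2) (nat_lit 0x200000200000220020000)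
 (Net.cons (nat_lit 4) (nat_lit 0x20808020c080c080004040000040202)
 (Net.cons (nat_lit 8) (nat_lit 0x98001c007400b400a4000600720002)
 (Net.cons (nat_lit 16) (nat_lit 0x1214000039240000e400000076ae)
 (Net.cons (nat_lit 32) (nat_lit 0xb3344bce000000002a4fdc42)
 (Net.cons (nat_lit 64) (nat_lit 0x399db8926bde0ff4)
 Net.nil)))))))))))))

noncomputable def ns_93 : Net :=
 (Net.cons (nat_lit 64) (nat_lit 0x3804110e12ed8810)
 (Net.cons (nat_lit 32) (nat_lit 0x3b501d140000000049922202)
 (Net.cons (nat_lit 16) (nat_lit 0x110000076400000a18000003290)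
 (Net.cons (nat_lit 8) (nat_lit 0x54001d009200380038009800680012)
 (Net.cons (nat_lit 4) (nat_lit 0x60004000a060401000209000206040b)
 (Net.cons (nat_lit 2) (nat_lit 0x21001203000322023202000033100200)
 (Net.cons (nat_lit 1) (nat_lit 0x40000105401041045041040450005100)
 (Net.cons (nat_lit 2) (nat_lit 0x20000200000022020002000000000200)
 (Net.cons (nat_lit 4) (nat_lit 0x6000400080604000000080002040400)
 (Net.cons (nat_lit 8) (nat_lit 0x440014001200380038009800680012)
 (Net.cons (nat_lit 16) (nat_lit 0x110000076400000a18000003290)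
 (Net.cons (nat_lit 32) (nat_lit 0x1b501d140000000049900200)
 (Net.cons (nat_lit 64) (nat_lit 0x3804110e12c58810)
 Net.nil)))))))))))))

noncomputable def ns_94 : Net :=
 (Net.cons (nat_lit 64) (nat_lit 0x1910991203595c34)
 (Net.cons (nat_lit 32) (nat_lit 0x838189c000000005425221a)
 (Net.cons (nat_lit 16) (nat_lit 0x81a800004886000010b800000fdc)
 (Net.cons (nat_lit 8) (nat_lit 0x18001000dd009d00b0008e004b00c0)
 (Net.cons (nat_lit 4) (nat_lit 0x90801020101060d0e060e040e080608)
 (Net.cons (nat_lit 2) (nat_lit 0x2000002100210023222122023200120)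
 (Net.cons (nat_lit 1) (nat_lit 0x1000001110551144004104101054155)
 (Net.cons (nat_lit 2) (nat_lit 0x2000000000000002000002002000200)
 (Net.cons (nat_lit 4) (nat_lit 0x204080006080006040e000004)
 (Net.cons (nat_lit 8) (nat_lit 0x18000800dc000c0050008a00640084)
 (Net.cons (nat_lit 16) (nat_lit 0x91a80000f4d6000014300000a834)
 (Net.cons (nat_lit 32) (nat_lit 0x1838088e000000005405221c)
 (Net.cons (nat_lit 64) (nat_lit 0x19109910d0dd5804)
 Net.nil)))))))))))))

noncomputable def ns_95 : Net :=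
 (Net.cons (nat_lit 64) (nat_lit 0xae5805d2b75c9d2c)
 (Net.cons (nat_lit 32) (nat_lit 0x169e58f200000000b1d6d0af)
 (Net.cons (nat_lit 16) (nat_lit 0xad3800004d110000910400005580)
 (Net.cons (nat_lit 8) (nat_lit 0xfe00680034002100440021001800e3)
 (Net.cons (nat_lit 4) (nat_lit 0x20e0802030c0807080c030800080203)
 (Net.cons (nat_lit 2) (nat_lit 0x33101031202000201002320000212000)
 (Net.cons (nat_lit 1) (nat_lit 0x40400451014044141404400004105441)
 (Net.cons (nat_lit 2) (nat_lit 0x200000000000020000000000000202)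
 (Net.cons (nat_lit 4) (nat_lit 0xe0804020c0006080c0800000a0608)
 (Net.cons (nat_lit 8) (nat_lit 0xf60024001400200054002000180038)
 (Net.cons (nat_lit 16) (nat_lit 0xbd7800004c000000910200005fa0)
 (Net.cons (nat_lit 32) (nat_lit 0x369e5ca800000000e1d4d2a8)
 (Net.cons (nat_lit 64) (nat_lit 0xae5805d013f4852c)
 Net.nil)))))))))))))

noncomputable def ns_96 : Net :=
 (Net.cons (nat_lit 64) (nat_lit 0x10174a835183de84)
 (Net.cons (nat_lit 32) (nat_lit 0x5f3c97d4000000002170c00d)
 (Net.cons (nat_lit 16) (nat_lit 0x8da900003283000089a000005bc4)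
 (Net.cons (nat_lit 8) (nat_lit 0x55004d002000280080009800df00c3)
 (Net.cons (nat_lit 4) (nat_lit 0xe040507080e08020200030a08070209)
 (Net.cons (nat_lit 2) (nat_lit 0x30331110022130220130020320023310)
 (Net.cons (nat_lit 1) (nat_lit 0x10140401004440050110410404414154)
 (Net.cons (nat_lit 2) (nat_lit 0x200202002200000020000000220202)
 (Net.cons (nat_lit 4) (nat_lit 0x608040008080802040802000c0c0a08)
 (Net.cons (nat_lit 8) (nat_lit 0xc800000022000000800098007000cc)
 (Net.cons (nat_lit 16) (nat_lit 0xdea40000128600002da000006a02)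
 (Net.cons (nat_lit 32) (nat_lit 0x4f2c95d8000000002450e132)
 (Net.cons (nat_lit 64) (nat_lit 0x10174a8a0562e94a)
 Net.nil)))))))))))))

noncomputable def ns_97 : Net :=
 (Net.cons (nat_lit 64) (nat_lit 0xafb637040100ba40)
 (Net.cons (nat_lit 32) (nat_lit 0x5f72d24200000000120a0080)
 (Net.cons (nat_lit 16) (nat_lit 0x180800000f000000c040000064a0)
 (Net.cons (nat_lit 8) (nat_lit 0xd0000400920029008000080030009a)
 (Net.cons (nat_lit 4) (nat_lit 0x80204020b0c0a0a040208020508000c)
 (Net.cons (nat_lit 2) (nat_lit 0x20000321222220200222003031202112)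
 (Net.cons (nat_lit 1) (nat_lit 0x44545040004011010401400400001001)
 (Net.cons (nat_lit 2) (nat_lit 0x20000020002020000202000000002002)
 (Net.cons (nat_lit 4) (nat_lit 0x8020402000c0a0a040208020008000c)
 (Net.cons (nat_lit 8) (nat_lit 0xd00004001000080080000800300090)
 (Net.cons (nat_lit 16) (nat_lit 0x180800000b000000c040000064a0)
 (Net.cons (nat_lit 32) (nat_lit 0x5d72d24200000000020a0080)
 (Net.cons (nat_lit 64) (nat_lit 0xafb637040100ba40)
 Net.nil)))))))))))))

noncomputable def ns_98 : Net :=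
 (Net.cons (nat_lit 64) (nat_lit 0xb695442d4b4e2808)
 (Net.cons (nat_lit 32) (nat_lit 0x968aaba2000000000c034394)
 (Net.cons (nat_lit 16) (nat_lit 0x2d200000877400007ff00000c952)
 (Net.cons (nat_lit 8) (nat_lit 0x9700440080004b00a000ea00c0008f)
 (Net.cons (nat_lit 4) (nat_lit 0xe0a000a0c0404040a060008060e050c)
 (Net.cons (nat_lit 2) (nat_lit 0x30222222000121013203230223321201)
 (Net.cons (nat_lit 1) (nat_lit 0x50140441541014110110454110001154)
 (Net.cons (nat_lit 2) (nat_lit 0x20202000022000200200220002200)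
 (Net.cons (nat_lit 4) (nat_lit 0xc08000a000404040a06000c0c040800)
 (Net.cons (nat_lit 8) (nat_lit 0x2800440080000800a000ea00c000c4)
 (Net.cons (nat_lit 16) (nat_lit 0x2d200000874000007ff00000f9d2)
 (Net.cons (nat_lit 32) (nat_lit 0x928aeba80000000044034390)
 (Net.cons (nat_lit 64) (nat_lit 0xb695442d594e0008)
 Net.nil)))))))))))))

noncomputable def ns_99 : Net :=
 (Net.cons (nat_lit 64) (nat_lit 0x1b0070e54a703e40)
 (Net.cons (nat_lit 32) (nat_lit 0xc9794284000000000a8bb9d8)
 (Net.cons (nat_lit 16) (nat_lit 0x1ae40000a1b00000414800001e9e)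
 (Net.cons (nat_lit 8) (nat_lit 0x10005200be00290002006c00240040)
 (Net.cons (nat_lit 4) (nat_lit 0xc0c0a0a0008000e0c0d06080c05090e)
 (Net.cons (nat_lit 2) (nat_lit 0x3210030212010002013303003000013)
 (Net.cons (nat_lit 1) (nat_lit 0x4404001101404444114045541000405)
 (Net.cons (nat_lit 2) (nat_lit 0x200000202000002002000000000000)
 (Net.cons (nat_lit 4) (nat_lit 0xc04080a00080000040206080c00080e)
 (Net.cons (nat_lit 8) (nat_lit 0x52009c00280002006c00040040)
 (Net.cons (nat_lit 16) (nat_lit 0x1ae40000a1b00000414800001e94)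
 (Net.cons (nat_lit 32) (nat_lit 0xc9794284000000000a8bb9d8)
 (Net.cons (nat_lit 64) (nat_lit 0x1b0070e58b703c40)
 Net.nil)))))))))))))

noncomputable def ns_100 : Net :=
 (Net.cons (nat_lit 64) (nat_lit 0x817b5054941c8080)
 (Net.cons (nat_lit 32) (nat_lit 0xd12842ac00000000baa855e0)
 (Net.cons (nat_lit 16) (nat_lit 0xc34a000010100000ec04000079a4)
 (Net.cons (nat_lit 8) (nat_lit 0xa00a100b200400088000400c00052)
 (Net.cons (nat_lit 4) (nat_lit 0xa00080b050d04050604070c0e04040d)
 (Net.cons (nat_lit 2) (nat_lit 0x20000212201302023220000322202000)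
 (Net.cons (nat_lit 1) (nat_lit 0x50111151404141005440114501404144)
 (Net.cons (nat_lit 2) (nat_lit 0x202200202000220000002202000)
 (Net.cons (nat_lit 4) (nat_lit 0xa000802040004000004000c0a040400)
 (Net.cons (nat_lit 8) (nat_lit 0x5a007000b000400080000400c00052)
 (Net.cons (nat_lit 16) (nat_lit 0x93300000101000006c04000079a4)
 (Net.cons (nat_lit 32) (nat_lit 0xd12842ac00000000b2a855e0)
 (Net.cons (nat_lit 64) (nat_lit 0x817b5054941c8080)
 Net.nil)))))))))))))

noncomputable def ns_101 : Net :=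
 (Net.cons (nat_lit 64) (nat_lit 0x62b16cddbfc80400)
 (Net.cons (nat_lit 32) (nat_lit 0xa22d541c0000000042ae0144)
 (Net.cons (nat_lit 16) (nat_lit 0xc00000eae80000102c0000fd00)
 (Net.cons (nat_lit 8) (nat_lit 0x3000800069006400d80002005000a5)
 (Net.cons (nat_lit 4) (nat_lit 0xc0c000602000a0408000c00040a0e)
 (Net.cons (nat_lit 2) (nat_lit 0x213001323222020220200100100022)
 (Net.cons (nat_lit 1) (nat_lit 0x50405400505041014010104044040141)
 (Net.cons (nat_lit 2) (nat_lit 0x200000000022020020200000000220)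
 (Net.cons (nat_lit 4) (nat_lit 0x40c00060200080408000c00040a0e)
 (Net.cons (nat_lit 8) (nat_lit 0x300080004000600098000000500004)
 (Net.cons (nat_lit 16) (nat_lit 0xc00000eae80000100c0000fd00)
 (Net.cons (nat_lit 32) (nat_lit 0xa02d540c0000000042ac0040)
 (Net.cons (nat_lit 64) (nat_lit 0x62b16cddbfc80400)
 Net.nil)))))))))))))

noncomputable def ns_102 : Net :=
 (Net.cons (nat_lit 64) (nat_lit 0x7c8ea24132833258)
 (Net.cons (nat_lit 32) (nat_lit 0xf86265c400000000fff6c6ec)
 (Net.cons (nat_lit 16) (nat_lit 0xaba800001e8200004ab20000fa03)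
 (Net.cons (nat_lit 8) (nat_lit 0x2000280071001c009c000900480092)
 (Net.cons (nat_lit 4) (nat_lit 0xb0e040809080c000c0c030e0502050a)
 (Net.cons (nat_lit 2) (nat_lit 0x23222023203010130211200101123001)
 (Net.cons (nat_lit 1) (nat_lit 0x41044401100150441554544104011004)
 (Net.cons (nat_lit 2) (nat_lit 0x22022002200000020000000000022002)
 (Net.cons (nat_lit 4) (nat_lit 0xe0c0c02080e06040c02060404000408)
 (Net.cons (nat_lit 8) (nat_lit 0xe000c40070000a004800c000300092)
 (Net.cons (nat_lit 16) (nat_lit 0xcfa000000e8a000006d60000fa0a)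
 (Net.cons (nat_lit 32) (nat_lit 0x846645ca000000007ca69e78)
 (Net.cons (nat_lit 64) (nat_lit 0x7c8ea24f748763d2)
 Net.nil)))))))))))))

noncomputable def ns_103 : Net :=
 (Net.cons (nat_lit 64) (nat_lit 0x3f35f348fc8c9b5a)
 (Net.cons (nat_lit 32) (nat_lit 0xc508b77c0000000089d1ea71)
 (Net.cons (nat_lit 16) (nat_lit 0x535d0000b863000006220000f0ce)
 (Net.cons (nat_lit 8) (nat_lit 0xce00b200b00002007800280014009c)
 (Net.cons (nat_lit 4) (nat_lit 0xa070401010706080b08000600020f04)
 (Net.cons (nat_lit 2) (nat_lit 0x21321031001221000001202201122)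
 (Net.cons (nat_lit 1) (nat_lit 0x41511401015101410101404404100114)
 (Net.cons (nat_lit 2) (nat_lit 0x20200020000020202002002000002)
 (Net.cons (nat_lit 4) (nat_lit 0xa060202000006060c0008060008020e)
 (Net.cons (nat_lit 8) (nat_lit 0xe2009000b4000800b8006000100008)
 (Net.cons (nat_lit 16) (nat_lit 0x106000008924000046ea0000e0c0)
 (Net.cons (nat_lit 32) (nat_lit 0xc81cd47400000000c911eadc)
 (Net.cons (nat_lit 64) (nat_lit 0x3f35f3454e82916a)
 Net.nil)))))))))))))

noncomputable def ns_104 : Net :=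
 (Net.cons (nat_lit 64) (nat_lit 0x39b32e0a52142a68)
 (Net.cons (nat_lit 32) (nat_lit 0x9de13f0f00000000ab7ef57b)
 (Net.cons (nat_lit 16) (nat_lit 0x1c750000e0ed000008f400005678)
 (Net.cons (nat_lit 8) (nat_lit 0xb0000f008e002c001c006100d20083)
 (Net.cons (nat_lit 4) (nat_lit 0x90301030a0607030a09040002040c)
 (Net.cons (nat_lit 2) (nat_lit 0x2000201012202102102201200211002)
 (Net.cons (nat_lit 1) (nat_lit 0x1140001044104111104440000444105)
 (Net.cons (nat_lit 2) (nat_lit 0x2020000020200202200200000020000)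
 (Net.cons (nat_lit 4) (nat_lit 0x8000402000404000c0404000c0404)
 (Net.cons (nat_lit 8) (nat_lit 0x34002e009c0026001a005400c20000)
 (Net.cons (nat_lit 16) (nat_lit 0xd76000088d40000299000005478)
 (Net.cons (nat_lit 32) (nat_lit 0x8c61110c00000000ad7ae5e8)
 (Net.cons (nat_lit 64) (nat_lit 0x39b32e0b40eca518)
 Net.nil)))))))))))))

noncomputable def ns_105 : Net :=
 (Net.cons (nat_lit 64) (nat_lit 0x5adca79f5344f63)
 (Net.cons (nat_lit 32) (nat_lit 0xe30b4c5600000000a66273bf)
 (Net.cons (nat_lit 16) (nat_lit 0xfae00008ebd00005e8000005dcb)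
 (Net.cons (nat_lit 8) (nat_lit 0xc009f003f004c0062000c0001008d)
 (Net.cons (nat_lit 4) (nat_lit 0x2020d0e04080a0f0802030308050f08)
 (Net.cons (nat_lit 2) (nat_lit 0x2021201302012200000100321330000)
 (Net.cons (nat_lit 1) (nat_lit 0x44010104401144411410011115154140)
 (Net.cons (nat_lit 2) (nat_lit 0x2000002002202220200000200200200)
 (Net.cons (nat_lit 4) (nat_lit 0x802000a0c000e0e0a02000202080208)
 (Net.cons (nat_lit 8) (nat_lit 0xa00dc0036002800b0001e009c000c)
 (Net.cons (nat_lit 16) (nat_lit 0xcd8000008e0c00001eb20000fd44)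
 (Net.cons (nat_lit 32) (nat_lit 0xe2a64476000000002e72723c)
 (Net.cons (nat_lit 64) (nat_lit 0x5adca75a2f38290)
 Net.nil)))))))))))))

noncomputable def ns_106 : Net :=
 (Net.cons (nat_lit 64) (nat_lit 0xed279eb30dbed44a)
 (Net.cons (nat_lit 32) (nat_lit 0xfc05843a00000000688201ab)
 (Net.cons (nat_lit 16) (nat_lit 0x5519000077fd0000498400000341)
 (Net.cons (nat_lit 8) (nat_lit 0xbc007b0035005c00fe0000007500e9)
 (Net.cons (nat_lit 4) (nat_lit 0x504070909080c090008080f0d0e02)
 (Net.cons (nat_lit 2) (nat_lit 0x320023233131010300002023300100)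
 (Net.cons (nat_lit 1) (nat_lit 0x14404141050055444510404141101041)
 (Net.cons (nat_lit 2) (nat_lit 0x202022000000020000202222202000)
 (Net.cons (nat_lit 4) (nat_lit 0xe040a0e0804080c0208020c040e00)
 (Net.cons (nat_lit 8) (nat_lit 0x8c00f800a200d800fe000000e000f2)
 (Net.cons (nat_lit 16) (nat_lit 0x5d180000be0a0000494600009008)
 (Net.cons (nat_lit 32) (nat_lit 0x10008c08000000006ac200a0)
 (Net.cons (nat_lit 64) (nat_lit 0xed279eb1e2d2c940)
 Net.nil)))))))))))))

noncomputable def ns_107 : Net :=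
 (Net.cons (nat_lit 64) (nat_lit 0x8142f4dd24de08d9)
 (Net.cons (nat_lit 32) (nat_lit 0x44beb79f00000000f05ed4f6)
 (Net.cons (nat_lit 16) (nat_lit 0xf0b8000074ef0000880c00002422)
 (Net.cons (nat_lit 8) (nat_lit 0xd2006800380068000600a600900026)
 (Net.cons (nat_lit 4) (nat_lit 0x4040e090807000204040f0509090202)
 (Net.cons (nat_lit 2) (nat_lit 0x31202111231010022211312212210102)
 (Net.cons (nat_lit 1) (nat_lit 0x50104405405100115451411500110400)
 (Net.cons (nat_lit 2) (nat_lit 0x200000200000000002002000200200)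
 (Net.cons (nat_lit 4) (nat_lit 0x6080c080004000002000808080a0200)
 (Net.cons (nat_lit 8) (nat_lit 0xc600ec00f4006800c400e000900002)
 (Net.cons (nat_lit 16) (nat_lit 0xf4f60000e4ae000098f400000c2e)
 (Net.cons (nat_lit 32) (nat_lit 0xc4be438000000000bafad4f8)
 (Net.cons (nat_lit 64) (nat_lit 0x8142f4dd7a18ef5c)
 Net.nil)))))))))))))

noncomputable def ns_108 : Net :=
 (Net.cons (nat_lit 64) (nat_lit 0xaba320215d296cc)
 (Net.cons (nat_lit 32) (nat_lit 0xab302a4e0000000047608aab)
 (Net.cons (nat_lit 16) (nat_lit 0x20a8000016320000ff1700006c71)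
 (Net.cons (nat_lit 8) (nat_lit 0x9a0018000c003800f6003000c80004)
 (Net.cons (nat_lit 4) (nat_lit 0x20802040e090d05050c0a0c0c09090e)
 (Net.cons (nat_lit 2) (nat_lit 0x20003101103101202021100233210)
 (Net.cons (nat_lit 1) (nat_lit 0x11000055104101101005011010114150)
 (Net.cons (nat_lit 2) (nat_lit 0x2000000200200000000022020202200)
 (Net.cons (nat_lit 4) (nat_lit 0x80e0606040608080008080402)
 (Net.cons (nat_lit 8) (nat_lit 0x980038000000ae00b00010002000d8)
 (Net.cons (nat_lit 16) (nat_lit 0x8a2000054980000f8720000c93a)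
 (Net.cons (nat_lit 32) (nat_lit 0xa1102a4e0000000013658b94)
 (Net.cons (nat_lit 64) (nat_lit 0xaba320da5e25180)
 Net.nil)))))))))))))

noncomputable def ns_109 : Net :=
 (Net.cons (nat_lit 64) (nat_lit 0xcc7cebca3b5eadcf)
 (Net.cons (nat_lit 32) (nat_lit 0x1917fb7400000000463f3420)
 (Net.cons (nat_lit 16) (nat_lit 0xe4ed0000ee18000022bc00006f04)
 (Net.cons (nat_lit 8) (nat_lit 0xfd008e008400fb00280022005b00c8)
 (Net.cons (nat_lit 4) (nat_lit 0xc0104050e0c09020001060f08080401)
 (Net.cons (nat_lit 2) (nat_lit 0x31220131220032203301201000120320)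
 (Net.cons (nat_lit 1) (nat_lit 0x44100445404411444110400104041511)
 (Net.cons (nat_lit 2) (nat_lit 0x20200220202020202200200002000000)
 (Net.cons (nat_lit 4) (nat_lit 0xc0a040a000008040002040408040400)
 (Net.cons (nat_lit 8) (nat_lit 0x3c009c00c800720028003600980040)
 (Net.cons (nat_lit 16) (nat_lit 0xfdc4000044d4000012b000007c86)
 (Net.cons (nat_lit 32) (nat_lit 0xdd1b50f600000000543d3028)
 (Net.cons (nat_lit 64) (nat_lit 0xcc7cebc4db1fdb20)
 Net.nil)))))))))))))

noncomputable def ns_110 : Net :=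
 (Net.cons (nat_lit 64) (nat_lit 0x1843209a9a83b14c)
 (Net.cons (nat_lit 32) (nat_lit 0x956187c000000000d33a091e)
 (Net.cons (nat_lit 16) (nat_lit 0x312100005293000030220000e111)
 (Net.cons (nat_lit 8) (nat_lit 0x5003f00200010008e0052006c00cb)
 (Net.cons (nat_lit 4) (nat_lit 0x804010208050a0b0d000700020e0f08)
 (Net.cons (nat_lit 2) (nat_lit 0x20010201001020221100120220011013)
 (Net.cons (nat_lit 1) (nat_lit 0x10550405010014510140505054501)
 (Net.cons (nat_lit 2) 8194
 (Net.cons (nat_lit 4) (nat_lit 0x202080e080000000000080a0808)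
 (Net.cons (nat_lit 8) (nat_lit 0x400a8007000380018002800a800a8)
 (Net.cons (nat_lit 16) (nat_lit 0x3522000042100000a130000086d4)
 (Net.cons (nat_lit 32) (nat_lit 0x956187c00000000054b6d814)
 (Net.cons (nat_lit 64) (nat_lit 0x1843209a9a83b14c)
 Net.nil)))))))))))))

noncomputable def ns_111 : Net :=
 (Net.cons (nat_lit 64) (nat_lit 0xc9812bf44688b02f)
 (Net.cons (nat_lit 32) (nat_lit 0x357b59f800000000ea49cee5)
 (Net.cons (nat_lit 16) (nat_lit 0x537e000087f00000ea2700007396)
 (Net.cons (nat_lit 8) (nat_lit 0xf00050007500810036001400640090)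
 (Net.cons (nat_lit 4) (nat_lit 0x907060d030c0a0a080a0a04040a0409)
 (Net.cons (nat_lit 2) (nat_lit 0x23120103000200222210023131023001)
 (Net.cons (nat_lit 1) (nat_lit 0x15510414410101011440401140540104)
 (Net.cons (nat_lit 2) (nat_lit 0x220200202020220002020020002)
 (Net.cons (nat_lit 4) (nat_lit 0x404060400080002040e0408040e0400)
 (Net.cons (nat_lit 8) (nat_lit 0x90002000700002006000d000500086)
 (Net.cons (nat_lit 16) (nat_lit 0x4a04000086f00000322c0000468c)
 (Net.cons (nat_lit 32) (nat_lit 0xb4fb5b0000000000dc234eea)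
 (Net.cons (nat_lit 64) (nat_lit 0xc9812bf874a37264)
 Net.nil)))))))))))))

noncomputable def ns_112 : Net :=
 (Net.cons (nat_lit 64) (nat_lit 0xdea980f828100981)
 (Net.cons (nat_lit 32) (nat_lit 0xd6743f3d00000000eae70290)
 (Net.cons (nat_lit 16) (nat_lit 0x720d00000f8000003b1700006306)
 (Net.cons (nat_lit 8) (nat_lit 0xac00b900da003b003c001d006200d4)
 (Net.cons (nat_lit 4) (nat_lit 0xe0702010a050d04050e050807020c09)
 (Net.cons (nat_lit 2) (nat_lit 0x12032201200100021202120230102100)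
 (Net.cons (nat_lit 1) (nat_lit 0x40044404001014411414010440104015)
 (Net.cons (nat_lit 2) (nat_lit 0x20000200000022002222020220000000)
 (Net.cons (nat_lit 4) (nat_lit 0x606000008040800000e040002000808)
 (Net.cons (nat_lit 8) (nat_lit 0x9800b6005a00f400ac0016006200d8)
 (Net.cons (nat_lit 16) (nat_lit 0x626400008f0800003a1200006644)
 (Net.cons (nat_lit 32) (nat_lit 0xdafdbfac00000000caf13998)
 (Net.cons (nat_lit 64) (nat_lit 0xdea980f6d76ae95a)
 Net.nil)))))))))))))

noncomputable def ns_113 : Net :=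
 (Net.cons (nat_lit 64) (nat_lit 0x1c72fa9c7a6a1fce)
 (Net.cons (nat_lit 32) (nat_lit 0x7de2c21a00000000127fbdaf)
 (Net.cons (nat_lit 16) (nat_lit 0xc180000091690000dfd60000698b)
 (Net.cons (nat_lit 8) (nat_lit 0x9400330093006200a000d1004100cd)
 (Net.cons (nat_lit 4) (nat_lit 0x20a040d010e0c0c01060108080c0603)
 (Net.cons (nat_lit 2) (nat_lit 0x12120220020300122121201002002303)
 (Net.cons (nat_lit 1) (nat_lit 0x40140441004414150444110505410504)
 (Net.cons (nat_lit 2) (nat_lit 0x202000000200020000000000002)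
 (Net.cons (nat_lit 4) (nat_lit 0xa0c040400080a06080c000808080806)
 (Net.cons (nat_lit 8) (nat_lit 0x400280080000800080010004400c0)
 (Net.cons (nat_lit 16) (nat_lit 0xf9820000151c00004ef800006a8a)
 (Net.cons (nat_lit 32) (nat_lit 0x6592189e00000000527ab8e8)
 (Net.cons (nat_lit 64) (nat_lit 0x1c72fa91fb095e0c)
 Net.nil)))))))))))))

noncomputable def ns_114 : Net :=
 (Net.cons (nat_lit 64) (nat_lit 0x12aff48c5ff37f5d)
 (Net.cons (nat_lit 32) (nat_lit 0x9f30b75800000000f7240665)
 (Net.cons (nat_lit 16) (nat_lit 0x5dba0000086d0000af2c000020ee)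
 (Net.cons (nat_lit 8) (nat_lit 0x9500e500f2001e005400c3001f0040)
 (Net.cons (nat_lit 4) (nat_lit 0xd050b02000a0c0904020209010c0005)
 (Net.cons (nat_lit 2) (nat_lit 0x2103200201222121012200121222201)
 (Net.cons (nat_lit 1) (nat_lit 0x1410111004440110104410510411101)
 (Net.cons (nat_lit 2) (nat_lit 0x2000200000200020000200000220202)
 (Net.cons (nat_lit 4) (nat_lit 0x8040800080a080c000204080208000c)
 (Net.cons (nat_lit 8) (nat_lit 0x8200f800d0003e000800c2007600d2)
 (Net.cons (nat_lit 16) (nat_lit 0x5ab4000068480000ad18000041a4)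
 (Net.cons (nat_lit 32) (nat_lit 0x8f3803dc000000001b240c26)
 (Net.cons (nat_lit 64) (nat_lit 0x12aff4802b04e902)
 Net.nil)))))))))))))

noncomputable def ns_115 : Net :=
 (Net.cons (nat_lit 64) (nat_lit 0xdd54f645c40a9528)
 (Net.cons (nat_lit 32) (nat_lit 0xf5dc5b5200000000432243a7)
 (Net.cons (nat_lit 16) (nat_lit 0x408a0000896f00006b2b00008d31)
 (Net.cons (nat_lit 8) (nat_lit 0xc00c000d80015002200e800f80024)
 (Net.cons (nat_lit 4) (nat_lit 0x40a0c010209080a00000807020a000d)
 (Net.cons (nat_lit 2) (nat_lit 0x10101320300101112000200323000012)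
 (Net.cons (nat_lit 1) (nat_lit 0x50104114440441044101011444140054)
 (Net.cons (nat_lit 2) (nat_lit 0x202020200220022200020220000000)
 (Net.cons (nat_lit 4) (nat_lit 0x40a00000208080c020008040200000a)
 (Net.cons (nat_lit 8) (nat_lit 0x14009c00dc00f6002000ea006c002c)
 (Net.cons (nat_lit 16) (nat_lit 0xf8c20000cb0800006aa800002d9c)
 (Net.cons (nat_lit 32) (nat_lit 0x30cc2b100000000041894a8c)
 (Net.cons (nat_lit 64) (nat_lit 0xdd54f646bf8a9202)
 Net.nil)))))))))))))

noncomputable def ns_116 : Net :=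
 (Net.cons (nat_lit 64) (nat_lit 0x8891451bb394489a)
 (Net.cons (nat_lit 32) (nat_lit 0x60dd23c400000000ac4f7b82)
 (Net.cons (nat_lit 16) (nat_lit 0x4ad40000c0ae0000e86100002e8a)
 (Net.cons (nat_lit 8) (nat_lit 0x200087002d008c008f0034000000b6)
 (Net.cons (nat_lit 4) (nat_lit 0xc000e0803000008030600080d08000d)
 (Net.cons (nat_lit 2) (nat_lit 0x2112321020000010321032200122033)
 (Net.cons (nat_lit 1) (nat_lit 0x4140110140400101401411040141041)
 (Net.cons (nat_lit 2) (nat_lit 0x200220000200200200202020020002)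
 (Net.cons (nat_lit 4) (nat_lit 0xc00020c0c0000020002000a0800000a)
 (Net.cons (nat_lit 8) (nat_lit 0x2000c60020000c00800096002400a6)
 (Net.cons (nat_lit 16) (nat_lit 0x6a940000459e0000124a000008e0)
 (Net.cons (nat_lit 32) (nat_lit 0xe8dd63cc000000008d23c340)
 (Net.cons (nat_lit 64) (nat_lit 0x8891451a52d4ef28)
 Net.nil)))))))))))))

noncomputable def ns_117 : Net :=
 (Net.cons (nat_lit 64) (nat_lit 0x3ee52a09780a00c1)
 (Net.cons (nat_lit 32) (nat_lit 0xea1040900000000258e4c89)
 (Net.cons (nat_lit 16) (nat_lit 0x26060000af960000dd3000001c69)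
 (Net.cons (nat_lit 8) (nat_lit 0xb60028006a00e50004000d003c0088)
 (Net.cons (nat_lit 4) (nat_lit 0xc040002080d0404040a000904060901)
 (Net.cons (nat_lit 2) (nat_lit 0x2100000002122213002020320012212)
 (Net.cons (nat_lit 1) (nat_lit 0x40100405400441411014410505100100)
 (Net.cons (nat_lit 2) (nat_lit 0x200022020000020000000000)
 (Net.cons (nat_lit 4) (nat_lit 0xc060002080608000c0808080c020000)
 (Net.cons (nat_lit 8) (nat_lit 0xb40020008200aa00b00008002e0002)
 (Net.cons (nat_lit 16) (nat_lit 0xe02000006760000583000004c22)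
 (Net.cons (nat_lit 32) (nat_lit 0x2445240200000000e48e9c10)
 (Net.cons (nat_lit 64) (nat_lit 0x3ee52a0acfc8a540)
 Net.nil)))))))))))))

noncomputable def ns_118 : Net :=
 (Net.cons (nat_lit 64) (nat_lit 0x5a93304aba80570a)
 (Net.cons (nat_lit 32) (nat_lit 0x4a1560a00000000021aca1cb)
 (Net.cons (nat_lit 16) (nat_lit 0x6a620000280e0000029a000005e5)
 (Net.cons (nat_lit 8) (nat_lit 0x20005000b900120002002d0018008c)
 (Net.cons (nat_lit 4) (nat_lit 0x3000e05010c0400060e0c0c000005)
 (Net.cons (nat_lit 2) (nat_lit 0x30010201013110020100022000220320)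
 (Net.cons (nat_lit 1) (nat_lit 0x40010014111441040014010444010114)
 (Net.cons (nat_lit 2) (nat_lit 0x20000000020200020020000002020022)
 (Net.cons (nat_lit 4) (nat_lit 0x4000604040c04000e02040808000e)
 (Net.cons (nat_lit 8) (nat_lit 0x5800c400020080008000a0008e)
 (Net.cons (nat_lit 16) (nat_lit 0x7ae40000111c000007d600000ec4)
 (Net.cons (nat_lit 32) (nat_lit 0x581640ac00000000a4e462ca)
 (Net.cons (nat_lit 64) (nat_lit 0x5a93304f1f845a80)
 Net.nil)))))))))))))

noncomputable def ns_119 : Net :=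
 (Net.cons (nat_lit 64) (nat_lit 0xd2e050fa1e225128)
 (Net.cons (nat_lit 32) (nat_lit 0x3da238d300000000c5e4a1a8)
 (Net.cons (nat_lit 16) (nat_lit 0xf40a0000552700004ba80000165a)
 (Net.cons (nat_lit 8) (nat_lit 0xa00098000000b2009f000100420012)
 (Net.cons (nat_lit 4) (nat_lit 0x100040e060100090b0c08060c000c02)
 (Net.cons (nat_lit 2) (nat_lit 0x12220002210100030302032002002000)
 (Net.cons (nat_lit 1) (nat_lit 0x40401045101050051145414044014110)
 (Net.cons (nat_lit 2) (nat_lit 0x200020000000000220022022000000)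
 (Net.cons (nat_lit 4) (nat_lit 0x80000000204000c020e040408000c02)
 (Net.cons (nat_lit 8) (nat_lit 0xe80058008200e200b00084004e0008)
 (Net.cons (nat_lit 16) (nat_lit 0xbc8a0000c75200004e8a00003252)
 (Net.cons (nat_lit 32) (nat_lit 0x7fa2284800000000c8fea0a0)
 (Net.cons (nat_lit 64) (nat_lit 0xd2e050f941a29160)
 Net.nil)))))))))))))

noncomputable def ns_120 : Net :=
 (Net.cons (nat_lit 64) (nat_lit 0xcf2254db318a6000)
 (Net.cons (nat_lit 32) (nat_lit 0x9941549000000000884e100c)
 (Net.cons (nat_lit 16) (nat_lit 0x464000009f92000081000000ed40)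
 (Net.cons (nat_lit 8) (nat_lit 0x30004a00a2001e00b00010003800ec)
 (Net.cons (nat_lit 4) (nat_lit 0x6060c0c0b080508090608010c040c00)
 (Net.cons (nat_lit 2) (nat_lit 0x10203212213232201020203200202)
 (Net.cons (nat_lit 1) (nat_lit 0x1104405550441051100000000004104)
 (Net.cons (nat_lit 2) (nat_lit 0x200000000002200000000000202)
 (Net.cons (nat_lit 4) (nat_lit 0x2060c0c00080808000408000c000c00)
 (Net.cons (nat_lit 8) (nat_lit 0x3000080024001e00b000100020008c)
 (Net.cons (nat_lit 16) (nat_lit 0x464000005990000081000000ed40)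
 (Net.cons (nat_lit 32) (nat_lit 0x9941548000000000884e100c)
 (Net.cons (nat_lit 64) (nat_lit 0xcf2254db318a6000)
 Net.nil)))))))))))))

noncomputable def ns_121 : Net :=
 (Net.cons (nat_lit 64) (nat_lit 0x5d86910aaa5af226)
 (Net.cons (nat_lit 32) (nat_lit 0xfb57a05e000000006a74c594)
 (Net.cons (nat_lit 16) (nat_lit 0x30c20000518a000069db0000bfb2)
 (Net.cons (nat_lit 8) (nat_lit 0x4300200022005a00cc003a00f800b2)
 (Net.cons (nat_lit 4) (nat_lit 0x304090f0b080803040f0e060c0a0506)
 (Net.cons (nat_lit 2) (nat_lit 0x3110223200003320200202210201013)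
 (Net.cons (nat_lit 1) (nat_lit 0x44000114500405010115144140014155)
 (Net.cons (nat_lit 2) (nat_lit 0x200000000000020222020000000)
 (Net.cons (nat_lit 4) (nat_lit 0x800080c080008000a0c0e0400080204)
 (Net.cons (nat_lit 8) (nat_lit 0x14003000220050008e001a00da0000)
 (Net.cons (nat_lit 16) (nat_lit 0x30c20000452c0000a9ee00009f50)
 (Net.cons (nat_lit 32) (nat_lit 0xfed1b054000000006a7d855c)
 (Net.cons (nat_lit 64) (nat_lit 0x5d869100640dbc74)
 Net.nil)))))))))))))

noncomputable def ns_122 : Net :=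
 (Net.cons (nat_lit 64) (nat_lit 0x7ab330c71d8458c8)
 (Net.cons (nat_lit 32) (nat_lit 0x6f0645aa000000004604c0aa)
 (Net.cons (nat_lit 16) (nat_lit 0x196c0000e86c000087ce00001035)
 (Net.cons (nat_lit 8) (nat_lit 0x63007e0000008200880099006800f5)
 (Net.cons (nat_lit 4) (nat_lit 0x30a00010a0b0a000a080e080c010206)
 (Net.cons (nat_lit 2) (nat_lit 0x31000013201002302102202220022120)
 (Net.cons (nat_lit 1) (nat_lit 0x40410111101050404000104104014441)
 (Net.cons (nat_lit 2) (nat_lit 0x20000002002000000000000200022002)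
 (Net.cons (nat_lit 4) (nat_lit 0x40000000a0e08000a080a080c080204)
 (Net.cons (nat_lit 8) (nat_lit 0x16005e001200a00008009c00e000e0)
 (Net.cons (nat_lit 16) (nat_lit 0x78ca0000c27c000000c200009934)
 (Net.cons (nat_lit 32) (nat_lit 0x451675e00000000043448988)
 (Net.cons (nat_lit 64) (nat_lit 0x7ab330cab8805540)
 Net.nil)))))))))))))

noncomputable def ns_123 : Net :=
 (Net.cons (nat_lit 64) (nat_lit 0x8485b47906cc100)
 (Net.cons (nat_lit 32) (nat_lit 0x205039a000000000b6d14248)
 (Net.cons (nat_lit 16) (nat_lit 0x484000000d140000c07a0000b8b0)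
 (Net.cons (nat_lit 8) (nat_lit 0x20002a008000900010000400e40034)
 (Net.cons (nat_lit 4) (nat_lit 0x808080e0008040e0002000e020c0a04)
 (Net.cons (nat_lit 2) (nat_lit 0x302002002102000020220303032012)
 (Net.cons (nat_lit 1) (nat_lit 0x40000141001004101145041010101100)
 (Net.cons (nat_lit 2) (nat_lit 0x2002002000020020000002000)
 (Net.cons (nat_lit 4) (nat_lit 0x808080c000804020002000e020c0a04)
 (Net.cons (nat_lit 8) (nat_lit 0x20002a000000900010000400e40034)
 (Net.cons (nat_lit 16) (nat_lit 0x4840000000140000807a0000b830)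
 (Net.cons (nat_lit 32) (nat_lit 0x201039a000000000b2d14248)
 (Net.cons (nat_lit 64) (nat_lit 0x8485b47806cc100)
 Net.nil)))))))))))))

noncomputable def ns_124 : Net :=
 (Net.cons (nat_lit 64) (nat_lit 0x28400d068aca0900)
 (Net.cons (nat_lit 32) (nat_lit 0x802407600000000002435342)
 (Net.cons (nat_lit 16) (nat_lit 0x88440000c8520000d3f400004420)
 (Net.cons (nat_lit 8) (nat_lit 0x6000a100b0005c00c200f100380098)
 (Net.cons (nat_lit 4) (nat_lit 0x80008000c080600040a0e0c080e0c08)
 (Net.cons (nat_lit 2) (nat_lit 0x2103202013002021030200020220)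
 (Net.cons (nat_lit 1) (nat_lit 0x40000144110005451110155105515410)
 (Net.cons (nat_lit 2) (nat_lit 0x2200000002020000200020220)
 (Net.cons (nat_lit 4) (nat_lit 0x80008000808060000080e0c080e0c08)
 (Net.cons (nat_lit 8) (nat_lit 0x4000a60030005c00c2007000180018)
 (Net.cons (nat_lit 16) (nat_lit 0x88440000c852000093f400004420)
 (Net.cons (nat_lit 32) (nat_lit 0x802407600000000002435340)
 (Net.cons (nat_lit 64) (nat_lit 0x28400d068aca0900)
 Net.nil)))))))))))))

noncomputable def ns_125 : Net :=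
 (Net.cons (nat_lit 64) (nat_lit 0xd2e050f941a29160)
 (Net.cons (nat_lit 32) (nat_lit 0x8155d7bd00000000c8fea0a0)
 (Net.cons (nat_lit 16) (nat_lit 0x55210000d61200004e8e00003a52)
 (Net.cons (nat_lit 8) (nat_lit 0xe0008a00100044004f0045004e0008)
 (Net.cons (nat_lit 4) (nat_lit 0x1050303080204080e0d000c0a000c02)
 (Net.cons (nat_lit 2) (nat_lit 0x13200210001022202110002122000000)
 (Net.cons (nat_lit 1) (nat_lit 0x14104101501040414541044444014110)
 (Net.cons (nat_lit 2) (nat_lit 0x22202200002020220000002002002000)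
 (Net.cons (nat_lit 4) (nat_lit 0x2000a060802000c0c04000e08000c02)
 (Net.cons (nat_lit 8) (nat_lit 0xb40008005000e2006000c000420012)
 (Net.cons (nat_lit 16) (nat_lit 0xc5900000de50000043a800001652)
 (Net.cons (nat_lit 32) (nat_lit 0xc355d72400000000c5e4a1a8)
 (Net.cons (nat_lit 64) (nat_lit 0xd2e050fa1e225128)
 Net.nil)))))))))))))

noncomputable def ns_126 : Net :=
 (Net.cons (nat_lit 64) (nat_lit 0x9880a201c270329)
 (Net.cons (nat_lit 32) (nat_lit 0xaad06d37000000008cafdf38)
 (Net.cons (nat_lit 16) (nat_lit 0x47ee000007e20000b5ca0000c61f)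
 (Net.cons (nat_lit 8) (nat_lit 0xb600a2000000880089000a002b00f5)
 (Net.cons (nat_lit 4) (nat_lit 0x706000d0004000006060e0e0e010602)
 (Net.cons (nat_lit 2) (nat_lit 0x33020221022101003333200210002110)
 (Net.cons (nat_lit 1) (nat_lit 0x41400101004004054140501441104011)
 (Net.cons (nat_lit 2) (nat_lit 0x22000200002000002020002022000000)
 (Net.cons (nat_lit 4) (nat_lit 0xc080c000408000c0808000a000600)
 (Net.cons (nat_lit 8) (nat_lit 0xb400aa00000008004200d4004a00e0)
 (Net.cons (nat_lit 16) (nat_lit 0x66ee000007e2000047ca0000b75c)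
 (Net.cons (nat_lit 32) (nat_lit 0xa3506d34000000008ccf0a22)
 (Net.cons (nat_lit 64) (nat_lit 0x9880a2285e5cd1a)
 Net.nil)))))))))))))

noncomputable def ns_127 : Net :=
 (Net.cons (nat_lit 64) (nat_lit 0x7700564637af309c)
 (Net.cons (nat_lit 32) (nat_lit 0x37580d2400000000ebeff4e2)
 (Net.cons (nat_lit 16) (nat_lit 0x73500000f0f800004cd00000b699)
 (Net.cons (nat_lit 8) (nat_lit 0x480043005900b40060004b00de0010)
 (Net.cons (nat_lit 4) (nat_lit 0x9000b0b010a0402000800080000000a)
 (Net.cons (nat_lit 2) (nat_lit 0x32003110321000210230001032222120)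
 (Net.cons (nat_lit 1) (nat_lit 0x14000150411440114105110044011001)
 (Net.cons (nat_lit 2) (nat_lit 0x22000000000020000200000020022002)
 (Net.cons (nat_lit 4) (nat_lit 0x8000a080a0a04000404000008080008)
 (Net.cons (nat_lit 8) (nat_lit 0x80072005c0010002e00a200d40004)
 (Net.cons (nat_lit 16) (nat_lit 0x34580000f2f8000084480000b632)
 (Net.cons (nat_lit 32) (nat_lit 0x37580d2400000000ebcff4e2)
 (Net.cons (nat_lit 64) (nat_lit 0x7700564637af389c)
 Net.nil)))))))))))))

noncomputable def ns_128 : Net :=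
 (Net.cons (nat_lit 64) (nat_lit 0xa2000e3280e2b2c0)
 (Net.cons (nat_lit 32) (nat_lit 0x7339178000000000c1600308)
 (Net.cons (nat_lit 16) (nat_lit 0xc9b00000a8640000b00000006196)
 (Net.cons (nat_lit 8) (nat_lit 0xb8004200040024000900820040009a)
 (Net.cons (nat_lit 4) (nat_lit 0x10a0c0d000204030903000000000c08)
 (Net.cons (nat_lit 2) (nat_lit 0x22201220220002310022100202203201)
 (Net.cons (nat_lit 1) (nat_lit 0x110100000044411401004104115010)
 (Net.cons (nat_lit 2) (nat_lit 0x200200000002202000000202200000)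
 (Net.cons (nat_lit 4) (nat_lit 0xa0c08000004040802000000000c00)
 (Net.cons (nat_lit 8) (nat_lit 0xb8004000000024003000800000009a)
 (Net.cons (nat_lit 16) (nat_lit 0xc9b00000a8640000b00000006096)
 (Net.cons (nat_lit 32) (nat_lit 0x733917800000000081600308)
 (Net.cons (nat_lit 64) (nat_lit 0xa2000e3080e2b080)
 Net.nil)))))))))))))

noncomputable def ns_129 : Net :=
 (Net.cons (nat_lit 64) (nat_lit 0x3a1cd5b86ff58cd4)
 (Net.cons (nat_lit 32) (nat_lit 0x43377d7400000000ecea4d8e)
 (Net.cons (nat_lit 16) (nat_lit 0x47020000af660000604800002d44)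
 (Net.cons (nat_lit 8) (nat_lit 0x660013003e00420041002b00520064)
 (Net.cons (nat_lit 4) (nat_lit 0xe070c0005000c0b0806000608010a0c)
 (Net.cons (nat_lit 2) (nat_lit 0x10122020322210032322012322023110)
 (Net.cons (nat_lit 1) (nat_lit 0x50041554011440510104040440144440)
 (Net.cons (nat_lit 2) (nat_lit 0x2022220020202020000222000)
 (Net.cons (nat_lit 4) (nat_lit 0xc06040a040004020c0400000802080c)
 (Net.cons (nat_lit 8) (nat_lit 0x520092003c00120048006400e00064)
 (Net.cons (nat_lit 16) (nat_lit 0x673e0000a96e00004c080000bf64)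
 (Net.cons (nat_lit 32) (nat_lit 0x692738e8000000006d69678c)
 (Net.cons (nat_lit 64) (nat_lit 0x3a1cd5b84b6d2552)
 Net.nil)))))))))))))

noncomputable def ns_130 : Net :=
 (Net.cons (nat_lit 64) (nat_lit 0x12509d6adfd30bf4)
 (Net.cons (nat_lit 32) (nat_lit 0x94055ab900000000149f4a48)
 (Net.cons (nat_lit 16) (nat_lit 0x5fb40000b1ba0000f5e700001e24)
 (Net.cons (nat_lit 8) (nat_lit 0xba000a00d2002c00280011008000ec)
 (Net.cons (nat_lit 4) (nat_lit 0x50a0a0702020c0a000e0e0c0f000c0a)
 (Net.cons (nat_lit 2) (nat_lit 0x11312021203030320010101000212210)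
 (Net.cons (nat_lit 1) (nat_lit 0x10501040411010500040451014404114)
 (Net.cons (nat_lit 2) (nat_lit 0x20202020000000002002002220)
 (Net.cons (nat_lit 4) (nat_lit 0x20a0602000c0000080a0c0e040c06)
 (Net.cons (nat_lit 8) (nat_lit 0x7a001a00b2002c0020001400600060)
 (Net.cons (nat_lit 16) (nat_lit 0x4bb00000b1f80000bd7200001a00)
 (Net.cons (nat_lit 32) (nat_lit 0x8415cafa000000005cbd0a54)
 (Net.cons (nat_lit 64) (nat_lit 0x12509d6a86d98374)
 Net.nil)))))))))))))

noncomputable def ns_131 : Net :=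
 (Net.cons (nat_lit 64) (nat_lit 0x2e17a946afd42928)
 (Net.cons (nat_lit 32) (nat_lit 0x5c1387a00000000bfde5686)
 (Net.cons (nat_lit 16) (nat_lit 0x3c040000b23d0000366000007b62)
 (Net.cons (nat_lit 8) (nat_lit 0x3000e300a800b70086004e0019000c)
 (Net.cons (nat_lit 4) (nat_lit 0x80d040d000c030f0408040b0a0f0500)
 (Net.cons (nat_lit 2) (nat_lit 0x20212132000010213000121122003110)
 (Net.cons (nat_lit 1) (nat_lit 0x10444111044111141410100440141010)
 (Net.cons (nat_lit 2) (nat_lit 0x20222202002220222200000200202000)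
 (Net.cons (nat_lit 4) (nat_lit 0x8080404000c00000800000c00060800)
 (Net.cons (nat_lit 8) (nat_lit 0x3200ca00a0004c0098007e0030008c)
 (Net.cons (nat_lit 16) (nat_lit 0x154000007c3a0000624000006b82)
 (Net.cons (nat_lit 32) (nat_lit 0x2bc4987600000000bfde06b0)
 (Net.cons (nat_lit 64) (nat_lit 0x2e17a94fe2d99d2a)
 Net.nil)))))))))))))

noncomputable def ns_132 : Net :=
 (Net.cons (nat_lit 64) (nat_lit 0xa7667835045100)
 (Net.cons (nat_lit 32) (nat_lit 0x8a242600000000048b60810)
 (Net.cons (nat_lit 16) (nat_lit 0x8200000f42c0000319c0000bd08)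
 (Net.cons (nat_lit 8) (nat_lit 0x76003000bc006200a000d000b0)
 (Net.cons (nat_lit 4) (nat_lit 0x40e06080008060c0c090b08080e00)
 (Net.cons (nat_lit 2) (nat_lit 0x202000120322012322220020022030)
 (Net.cons (nat_lit 1) (nat_lit 0x411000014540104014110410014454)
 (Net.cons (nat_lit 2) (nat_lit 0x202000020020002022220020020200)
 (Net.cons (nat_lit 4) (nat_lit 0x40800080008060c0c000808080000)
 (Net.cons (nat_lit 8) (nat_lit 0x10001000b0006200a0009000b0)
 (Net.cons (nat_lit 16) (nat_lit 0x8200000f42c0000319c0000bc08)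
 (Net.cons (nat_lit 32) (nat_lit 0x8a242600000000048b60810)
 (Net.cons (nat_lit 64) (nat_lit 0xa7667835044100)
 Net.nil)))))))))))))

noncomputable def ns_133 : Net :=
 (Net.cons (nat_lit 64) (nat_lit 0x408847885adeadd2)
 (Net.cons (nat_lit 32) (nat_lit 0xb0743b9500000000d97e4914)
 (Net.cons (nat_lit 16) (nat_lit 0xc8fc0000c5e40000653800009aea)
 (Net.cons (nat_lit 8) (nat_lit 0x28006a006d00420002004500620012)
 (Net.cons (nat_lit 4) (nat_lit 0x80c020d0c0c00040007040706080206)
 (Net.cons (nat_lit 2) (nat_lit 0x30303101200301032001300110202220)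
 (Net.cons (nat_lit 1) (nat_lit 0x10400504444500040110440410010440)
 (Net.cons (nat_lit 2) (nat_lit 0x20000002000000020000000200020220)
 (Net.cons (nat_lit 4) (nat_lit 0x80c080c000c00040802040000080004)
 (Net.cons (nat_lit 8) (nat_lit 0x30001e00e4004200000018006800a4)
 (Net.cons (nat_lit 16) (nat_lit 0x88fc0000c26400001d2e00001828)
 (Net.cons (nat_lit 32) (nat_lit 0xb0747a1000000000dd1ee95e)
 (Net.cons (nat_lit 64) (nat_lit 0x4088478d8e7f61f2)
 Net.nil)))))))))))))

noncomputable def ns_134 : Net :=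
 (Net.cons (nat_lit 64) (nat_lit 0xeef5445065022820)
 (Net.cons (nat_lit 32) (nat_lit 0x8c14a4d00000000ddb807a8)
 (Net.cons (nat_lit 16) (nat_lit 0x60720000e0300000299400000120)
 (Net.cons (nat_lit 8) (nat_lit 0xd4004800370078008a00a200620080)
 (Net.cons (nat_lit 4) (nat_lit 0x600000a020708050c04080103080808)
 (Net.cons (nat_lit 2) (nat_lit 0x20021021331331320022020201020)
 (Net.cons (nat_lit 1) (nat_lit 0x14040411501554144440141141011110)
 (Net.cons (nat_lit 2) (nat_lit 0x20020020000000222020202020002220)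
 (Net.cons (nat_lit 4) (nat_lit 0x200000a000800040c04000002080808)
 (Net.cons (nat_lit 8) (nat_lit 0x540024006400b8002200aa00420080)
 (Net.cons (nat_lit 16) (nat_lit 0x62620000b1f8000034bc00000020)
 (Net.cons (nat_lit 32) (nat_lit 0x88104e4000000000ccb80600)
 (Net.cons (nat_lit 64) (nat_lit 0xeef5445065402860)
 Net.nil)))))))))))))

noncomputable def ns_135 : Net :=
 (Net.cons (nat_lit 64) (nat_lit 0x1a73407200c10220)
 (Net.cons (nat_lit 32) (nat_lit 0xe260800000000000c99c0708)
 (Net.cons (nat_lit 16) (nat_lit 0x3400006cb800002e10000099c0)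
 (Net.cons (nat_lit 8) (nat_lit 0x9a004000c8002a00800084008800f0)
 (Net.cons (nat_lit 4) (nat_lit 0x407000800040c0d00000c0108040c00)
 (Net.cons (nat_lit 2) (nat_lit 0x2330030330230000000020212002220)
 (Net.cons (nat_lit 1) (nat_lit 0x14144051551051444100510401014110)
 (Net.cons (nat_lit 2) (nat_lit 0x2000000000000000000020202002220)
 (Net.cons (nat_lit 4) (nat_lit 0x408000800000c0000000c0008000c00)
 (Net.cons (nat_lit 8) (nat_lit 0x9a004000c8002a00800084008000b0)
 (Net.cons (nat_lit 16) (nat_lit 0x3400006cb800002e1000009840)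
 (Net.cons (nat_lit 32) (nat_lit 0xe260800000000000c99c0700)
 (Net.cons (nat_lit 64) (nat_lit 0x1a73407200c10220)
 Net.nil)))))))))))))

noncomputable def ns_136 : Net :=
 (Net.cons (nat_lit 64) (nat_lit 0x258b6e8118e1a24a)
 (Net.cons (nat_lit 32) (nat_lit 0xc439f0fe00000000e40417ac)
 (Net.cons (nat_lit 16) (nat_lit 0x8dc00001c0f0000465c0000e26a)
 (Net.cons (nat_lit 8) (nat_lit 0x4d007000810095000000d1005200e8)
 (Net.cons (nat_lit 4) (nat_lit 0x20c04060004060106080804020f090e)
 (Net.cons (nat_lit 2) (nat_lit 0x1133000220200000230020122102030)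
 (Net.cons (nat_lit 1) (nat_lit 0x4145004010440055050001050010104)
 (Net.cons (nat_lit 2) (nat_lit 0x2220002020220000000000000020000)
 (Net.cons (nat_lit 4) (nat_lit 0xe0404040a0000000c0808020a0e080e)
 (Net.cons (nat_lit 8) (nat_lit 0x6400e0008c009e0000008400e200a0)
 (Net.cons (nat_lit 16) (nat_lit 0x4c5600003f00000054280000b204)
 (Net.cons (nat_lit 32) (nat_lit 0xe53b9a7600000000a65496d0)
 (Net.cons (nat_lit 64) (nat_lit 0x258b6e81f741ed6c)
 Net.nil)))))))))))))

noncomputable def ns_137 : Net :=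
 (Net.cons (nat_lit 64) (nat_lit 0xf026912d8b0845a0)
 (Net.cons (nat_lit 32) (nat_lit 0x789113aa00000000715b9338)
 (Net.cons (nat_lit 16) (nat_lit 0xe0bf0000b0440000353e0000eba2)
 (Net.cons (nat_lit 8) (nat_lit 0x9c00f500220025000a0009005e00f4)
 (Net.cons (nat_lit 4) (nat_lit 0x80001030306000c0d08030902080900)
 (Net.cons (nat_lit 2) (nat_lit 0x2130012021202010323202030300)
 (Net.cons (nat_lit 1) (nat_lit 0x4101110104454104140451110415104)
 (Net.cons (nat_lit 2) (nat_lit 0x202000002000000020002200020000)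
 (Net.cons (nat_lit 4) (nat_lit 0x202000000040a0c0c020800040a08)
 (Net.cons (nat_lit 8) (nat_lit 0x9400c400000024001400c0005c0070)
 (Net.cons (nat_lit 16) (nat_lit 0xe01c000080000000402c0000e932)
 (Net.cons (nat_lit 32) (nat_lit 0xa8b7038000000000759af7a2)
 (Net.cons (nat_lit 64) (nat_lit 0xf0269121bacaf142)
 Net.nil)))))))))))))

noncomputable def ns_138 : Net :=
 (Net.cons (nat_lit 64) (nat_lit 0xf574213ccc07dcd4)
 (Net.cons (nat_lit 32) (nat_lit 0x2a05c8a000000000f2288f00)
 (Net.cons (nat_lit 16) (nat_lit 0x7f20000045900000902f00005a8c)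
 (Net.cons (nat_lit 8) (nat_lit 0x710035004a0021005000b4001f006e)
 (Net.cons (nat_lit 4) (nat_lit 0xc040e0b0104000f080d0e00070c0406)
 (Net.cons (nat_lit 2) (nat_lit 0x213002301030222013031130112012)
 (Net.cons (nat_lit 1) (nat_lit 0x14404515440041100005010540044440)
 (Net.cons (nat_lit 2) (nat_lit 0x20200020220020200000000020002220)
 (Net.cons (nat_lit 4) (nat_lit 0x4040c000204000a0808060802080006)
 (Net.cons (nat_lit 8) (nat_lit 0x300004004a0032005000b4000400c8)
 (Net.cons (nat_lit 16) (nat_lit 0x3f0000007596000040a400005280)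
 (Net.cons (nat_lit 32) (nat_lit 0xaf61c8a000000000f0aa1300)
 (Net.cons (nat_lit 64) (nat_lit 0xf574213526e4f0f4)
 Net.nil)))))))))))))

noncomputable def ns_139 : Net :=
 (Net.cons (nat_lit 64) (nat_lit 0xc9365d92bbf3acfa)
 (Net.cons (nat_lit 32) (nat_lit 0xa2061201000000004109fe06)
 (Net.cons (nat_lit 16) (nat_lit 0xc98c000028d10000224400009fca)
 (Net.cons (nat_lit 8) (nat_lit 0xec00d600b800c900cd000400230068)
 (Net.cons (nat_lit 4) (nat_lit 0xa040c0e0c090d04040402060a0e020c)
 (Net.cons (nat_lit 2) (nat_lit 0x3021023300031111301102002320030)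
 (Net.cons (nat_lit 1) (nat_lit 0x1144141441414041400104101115400)
 (Net.cons (nat_lit 2) (nat_lit 0x20022000220002000202000000200)
 (Net.cons (nat_lit 4) (nat_lit 0x8040c0e080e0c000c040a0408000204)
 (Net.cons (nat_lit 8) (nat_lit 0xe600d000ec0090008c0004002000d0)
 (Net.cons (nat_lit 16) (nat_lit 0xca980000fc5c000060040000bd82)
 (Net.cons (nat_lit 32) (nat_lit 0x2a161710000000005708fe02)
 (Net.cons (nat_lit 64) (nat_lit 0xc9365d90aa82ad7a)
 Net.nil)))))))))))))

noncomputable def ns_140 : Net :=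
 (Net.cons (nat_lit 64) (nat_lit 0x3174c6a2bc230620)
 (Net.cons (nat_lit 32) (nat_lit 0xa0a4943c00000000a0364f20)
 (Net.cons (nat_lit 16) (nat_lit 0xf5300000785800002edb00002580)
 (Net.cons (nat_lit 8) (nat_lit 0x740038006f00fd00d20056007b00c8)
 (Net.cons (nat_lit 4) (nat_lit 0x8040104080004060008010b04090900)
 (Net.cons (nat_lit 2) (nat_lit 0x30100210202223200220023303220300)
 (Net.cons (nat_lit 1) (nat_lit 0x44401151404150441441040504410100)
 (Net.cons (nat_lit 2) (nat_lit 0x20002200002000020222000002020200)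
 (Net.cons (nat_lit 4) (nat_lit 0xc0000040c000608000a000804080c00)
 (Net.cons (nat_lit 8) (nat_lit 0x2000aa0042004e0096004800b00040)
 (Net.cons (nat_lit 16) (nat_lit 0xf53000001250000042d80000a440)
 (Net.cons (nat_lit 32) (nat_lit 0x818494b4000000002ab64e28)
 (Net.cons (nat_lit 64) (nat_lit 0x3174c6a262184ee0)
 Net.nil)))))))))))))

noncomputable def ns_141 : Net :=
 (Net.cons (nat_lit 64) (nat_lit 0x6241b0256b220120)
 (Net.cons (nat_lit 32) (nat_lit 0xe25111200000000030800810)
 (Net.cons (nat_lit 16) (nat_lit 0x112000003e2e0000b6a00000fa18)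
 (Net.cons (nat_lit 8) (nat_lit 0xc300a000d8004a00880044009a0074)
 (Net.cons (nat_lit 4) (nat_lit 0x108000c080d040c0c000c0b0e070b00)
 (Net.cons (nat_lit 2) (nat_lit 0x10100022231122200200322223010200)
 (Net.cons (nat_lit 1) (nat_lit 0x10041454140014000011145104144)
 (Net.cons (nat_lit 2) (nat_lit 0x20022002020000000022220000000)
 (Net.cons (nat_lit 4) (nat_lit 0xa000c080a04080c000c0008060800)
 (Net.cons (nat_lit 8) (nat_lit 0xc200a000b0004a0088000400820064)
 (Net.cons (nat_lit 16) (nat_lit 0x112000003e2e0000b6a00000e808)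
 (Net.cons (nat_lit 32) (nat_lit 0xe25111200000000030800810)
 (Net.cons (nat_lit 64) (nat_lit 0x6241b025e9631000)
 Net.nil)))))))))))))

noncomputable def ns_142 : Net :=
 (Net.cons (nat_lit 64) (nat_lit 0xeef5445065402860)
 (Net.cons (nat_lit 32) (nat_lit 0x67e6b03f00000000ecb00220)
 (Net.cons (nat_lit 16) (nat_lit 0xfb4a00007362000004ba00000420)
 (Net.cons (nat_lit 8) (nat_lit 0xbc0031008b00e4000a00aa006a0080)
 (Net.cons (nat_lit 4) (nat_lit 0x20d020002000a0c08060b0d000a08)
 (Net.cons (nat_lit 2) (nat_lit 0x30021121032020230320320302001220)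
 (Net.cons (nat_lit 1) (nat_lit 0x50541440051414141100101554014110)
 (Net.cons (nat_lit 2) (nat_lit 0x22220000020220000000002002020)
 (Net.cons (nat_lit 4) (nat_lit 0x80200020006000a0c08060a0c000008)
 (Net.cons (nat_lit 8) (nat_lit 0xfc0034000a008800a20082006a0080)
 (Net.cons (nat_lit 16) (nat_lit 0xfb480000717200002d3000000520)
 (Net.cons (nat_lit 32) (nat_lit 0xe737b43200000000edb003a8)
 (Net.cons (nat_lit 64) (nat_lit 0xeef5445065022820)
 Net.nil)))))))))))))

noncomputable def ns : List Net := [Spor.ModelJ2.ns_0, Spor.ModelJ2.ns_1, ns_2, ns_3, ns_4, ns_5, ns_6, ns_7, ns_8, ns_9, ns_10, ns_11, ns_12, ns_13, ns_14, ns_15, ns_16, ns_17, ns_18, ns_19, ns_20, ns_21, ns_22, ns_23, ns_24, ns_25, ns_26, ns_27, ns_28, ns_29, ns_30, ns_31, ns_32, ns_33, ns_34, ns_35, ns_36, ns_37, ns_38, ns_39, ns_40, ns_41, ns_42, ns_43, ns_44, ns_45, ns_46, ns_47, ns_48, ns_49, ns_50, ns_51, ns_52, ns_53, ns_54, ns_55, ns_56, ns_57, ns_58, ns_59, ns_60, ns_61, ns_62, ns_63, ns_64,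 ns_65, ns_66, ns_67, ns_68, ns_69, ns_70, ns_71, ns_72, ns_73, ns_74, ns_75, ns_76, ns_77, ns_78, ns_79, ns_80, ns_81, ns_82, ns_83, ns_84, ns_85, ns_86, ns_87, ns_88, ns_89, ns_90, ns_91, ns_92, ns_93, ns_94, ns_95, ns_96, ns_97, ns_98, ns_99, ns_100, ns_101, ns_102, ns_103, ns_104, ns_105, ns_106, ns_107, ns_108, ns_109, ns_110, ns_111, ns_112, ns_113, ns_114, ns_115, ns_116, ns_117, ns_118, ns_119, ns_120, ns_121, ns_122, ns_123, ns_124, ns_125, ns_126, ns_127, ns_128, ns_129, ns_130, ns_131, ns_132, ns_133, ns_134, ns_135, ns_136, ns_137, ns_138, ns_139, ns_140, ns_141, ns_142]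

theorem ctx : Ctx 128 7 ns := ctx_of (by decide +kernel)

theorem lctx : LCtx 128 7 8 127 trN7 ns := lctx_of ctx trOK7 (by decide +kernel)

noncomputable def E : List ℕ → ℕ → ℕ := pfW0 128 7 8 127 trN7 ns

theorem hE : Evl 128 ns E := evl_pfW0 lctx

open Cfsg.Agent.Spor

theorem geq : gen ModelJ2.ns ModelJ2.G_ss0 = gen ns [[0], [2]] :=
  gen_eq_of_take (ns := ModelJ2.ns) (ns' := ns) (k := 2) rfl (ws := ModelJ2.G_ss0) (by decide +kernel)

theorem hn : Nat.card (gen ns [[0], [2]]) = 604800 :=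
  geq ▸ ModelJ2.G_card

noncomputable def equiv : Cfsg.Spor.J2 ≃* ↥(gen ns [[0], [2]]) :=
  ModelJ2.equiv.trans (MulEquiv.subgroupCongr geq)

theorem kn_0 : Known ns (gen ns [[0], [2]]) 3 :=
  known_gen (by decide +kernel)

theorem kn_1 : Known ns (gen ns [[0], [2]]) 132120575 :=
  kn_0.steps ctx (es := [(2, [3, 3, 1, 1, 1, 3]),
 (3, [0, 2, 1, 2]),
 (4, [6, 3, 6, 4, 6, 6, 5]),
 (5, [7, 7, 3, 5, 0, 4, 2, 5, 1]),
 (6, [10, 10, 8, 8, 11, 11]),
 (7, [8, 10, 12, 9, 10, 8]),
 (8, [8, 8, 12, 10, 9, 13, 8]),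
 (9, [14, 16, 15, 16, 16, 16, 16]),
 (10, [16, 16, 14, 17, 15, 16, 16, 16]),
 (11, [20, 19, 21, 19, 20, 19]),
 (12, [19, 21, 18, 18, 21, 18, 20, 19, 21]),
 (13, [24, 23, 24, 22, 24, 24, 24, 24]),
 (14, [9, 6, 10, 13, 14, 20, 26]),
 (15, [19, 6, 19, 8, 18, 14, 18]),
 (16, [11, 6, 16, 9, 14, 22]),
 (17, [16, 4, 20, 11, 16, 18]),
 (18, [9, 2, 12, 8, 15, 20, 22, 24]),
 (19, [11, 2, 8, 14, 22, 24]),
 (20, [4, 9, 2, 24, 8, 14, 18, 22, 26, 24]),
 (22, [14, 6, 19, 8, 16, 20, 22, 26, 24]),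
 (23, [12, 0, 15, 8, 24]),
 (24, [10, 2, 13, 8, 18, 14, 20, 22, 26, 24]),
 (25, [9, 6, 10, 13, 17]),
 (26, [15, 4, 10, 13, 14, 14, 20, 22, 24])]) (by decide +kernel)

noncomputable def aws : List (List ℕ) :=
  [[28], [30], [32], [34], [36], [38], [40], [42], [44], [46], [48], [50], [52], [0], [2], [3], [4], [6], [7], [8], [9], [10], [11], [12], [13], [14], [15], [16], [17], [18], [19], [20], [21], [22], [24], [26]]

theorem hle : gen ns [[0], [2]] ≤ gen ns [[42], [0], [2]] :=
  gen_mono ns fun _ hv => List.mem_cons_of_mem _ hv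

theorem kx_0 : Known ns (gen ns [[42], [0], [2]]) 134217727 :=
  (kn_1.mono hle).lor (known_gen (K := 2097152) (by decide +kernel))

theorem hs : (∀ a ∈ gen ns [[0], [2]], wp ns [42] * a * (wp ns [42])⁻¹ ∈ gen ns [[0], [2]]) ∧ wp ns [42] * wp ns [42] ∈ gen ns [[0], [2]] :=
  Wr2.nrm_of ctx kn_1 (vs := [[7, 12, 2, 10, 8, 14, 14, 20, 22, 24], [17, 18, 26]]) (by decide +kernel)

theorem haw : ∀ u ∈ aws, wp ns u ∈ gen ns [[42], [0], [2]] :=
  kx_0.words (by decide +kernel)

theorem hk0 : allLT aws.length (fun k => or' (Nat.beq k 7) (inK 132120575 (getL [] aws k))) = true :=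
  by decide +kernel

theorem kn0 : Known ns (gen ns [[0], [2]]) 132120575 :=
  kn_1

noncomputable def C0 : ℕ :=
  nat_lit 0x0

noncomputable def C1 : ℕ :=
  nat_lit 0x10000

noncomputable def C2 : ℕ :=
  nat_lit 0x3000200010000

noncomputable def C3 : ℕ :=
  nat_lit 0x70006000500040003000200010000

noncomputable def C4 : ℕ :=
  nat_lit 0xc000d000e000f00090008000b000a00060007000400050003000200010000

noncomputable def C5 : ℕ :=
  nat_lit 0x1c001d001e001f001b001a0019001800150014001700160012001300100011000d000c000f000e000a000b0008000900040005000600070003000200010000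

noncomputable def C6 : ℕ :=
  nat_lit 0xd000c000e000f001a001b0019001800270026002400250032003300310030001c001d001f001e000a000b0009000800370036003400350023002200200021002d002c002e002f003a003b0039003800060007000500040013001200100011003c003d003f003e002a002b0029002800160017001500140002000300010000

noncomputable def C7 : ℕ :=
  nat_lit 0x690068006a006b006d006c006e006f0065006400660067006100600062006300780079007b007a007c007d007f007e00740075007700760070007100730072005a005b00590058005e005f005d005c00560057005500540052005300510050004a004b00490048004e004f004d004c0046004700450044004200430041004000290028002a002b002d002c002e002f0025002400260027002100200022002300380039003b003a003c003d003f003e00340035003700360030003100330032001a001b00190018001e001f001d001c00160017001500140012001300110010000a000b00090008000e000f000d000c00060007000500040002000300010000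

noncomputable def BU : List (ℕ × ℕ × List (List ℕ)) :=
  [(0, 5, [[6, 3, 2], [7, 6, 5, 2], [7, 2, 0]]),
 (1, 1, [[7, 6, 5, 2], [7, 2, 0]])]

end Cfsg.Agent.J2W.K
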