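import Cfsg.Agent.J2W.Z3

/-! The two factors (copies of `Wr2.Sz.exists_Δ`, `Wr2.Sz.exists_Fn`). -/

set_option autoImplicit false
set_option linter.unusedSectionVars false

namespace Cfsg.Agent.J2W

open Cfsg Subgroup Cfsg.Agent.PLocal Cfsg.Agent.PLocal.Amb Cfsg.Agent.Lyons
open Cfsg.Agent.Wr2 (St Tw Fo Oc Sw')
open Cfsg.Agent.Wr (conj_eq_iff mem_C conj_sq inv_eq_of_sq conj_conj_of_sq mem_z)
open Cfsg.Agent.Wr3 (MulOn Au)
open scoped commutatorElement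

universe v

variable {G : Type*} [Group G] [Finite G] {Y : Type*} [Group Y] [Finite Y] {D : Dt Y}
  {A : Subgroup G} {ρ : G → Y} {j : Y → G}

/-- copy of `Wr2.Sz.exists_Δ`: the structure `Dbl` on `N(O)/O` with `M = st.img Mc`, then `hD` -/
theorem Sz.exists_Δ {G : Type v} [Group G] [Finite G] {A : Subgroup G} {ρ : G → Y} {j : Y → G}
    {t s : G} (h : Sz D A ρ j t s) (hD : Rd.{v} D) :
    (∃ Δ : Set G, Δ ⊆ A ∧ D.Y₀ ≤ closure ((fun a => ρ a * D.z * (ρ a)⁻¹) '' Δ) ∧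
      ∀ a ∈ Δ, ∀ b ∈ Δ, a * s * a⁻¹ * (t * (b * s * b⁻¹) * t⁻¹) =
        t * (b * s * b⁻¹) * t⁻¹ * (a * s * a⁻¹)) ∨
    ∃ v, Av D A ρ j t (Wr2.Mc A (j D.z) t s) v := by
  classical
  have zY := h.F.toBs.zY
  set M := Wr2.Mc A (j D.z) t s
  set O := Oc A t
  have MN : M ≤ 𝐍[A] := fun _ => h.MN
  let F : Y → G := fun y => if hy : ∃ m ∈ M, y = ρ m * D.z * (ρ m)⁻¹ then
    hy.choose * s * hy.choose⁻¹ else 1
  have key : ∀ m ∈ M, F (ρ m * D.z * (ρ m)⁻¹) = m * s * m⁻¹ := fun a ha => by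
    have hx : ∃ b ∈ M, ρ a * D.z * (ρ a)⁻¹ = ρ b * D.z * (ρ b)⁻¹ := ⟨a, ha, rfl⟩
    obtain ⟨hb, e1⟩ := hx.choose_spec
    simp only [F, dif_pos hx]
    generalize hx.choose = b at hb e1
    have m := mul_mem (inv_mem ha) hb
    have := h.Ms m (h.st.com_lift (MN m) h.zA (Wr2.tw_of_sq h.zz) (by
      rw [h.st.mul _ (inv_mem (MN ha)) _ (MN hb), h.st.inv (MN ha), h.ρj _ zY, ← conj_eq_iff,
        show (ρ a)⁻¹ * ρ b * D.z * ((ρ a)⁻¹ * ρ b)⁻¹ =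
          (ρ a)⁻¹ * (ρ b * D.z * (ρ b)⁻¹) * ρ a by group, ← e1]; group))
    calc _ = a * (a⁻¹ * b * s) * b⁻¹ := by group
      _ = _ := by rw [this]; group
  have f1 : F 1 = 1 := dif_neg fun ⟨a, _, e1⟩ => h.F.z1 (conj_eq_one_iff.1 e1.symm)
  have fz : F (D.z) = s := by simpa [h.st.one] using key 1 (one_mem _)
  have nM : ∀ m ∈ M, m ∈ 𝐍[O] := fun m hm => h.nO (h.Mt hm)
  have cs : s ∈ 𝐂[O] := mem_C.2 fun o ho => (h.sO o ho).symm
  have cF : ∀ y, F y ∈ 𝐂[O] ∧ F y * F y = 1 := fun y => by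
    by_cases hy : ∃ m ∈ M, y = ρ m * D.z * (ρ m)⁻¹
    · obtain ⟨m, hm, rfl⟩ := hy
      rw [key m hm]
      exact ⟨conj_mem_of_mem_normalizer (normalizer_le_normalizer_centralizer _ (nM m hm)) cs,
        conj_sq h.ss⟩
    · simp only [F, dif_neg hy]; exact ⟨one_mem _, one_mul _⟩
  have nF : ∀ y, F y ∈ 𝐍[O] := fun y => centralizer_le_normalizer' _ (cF y).1
  let π := QuotientGroup.mk' (O.subgroupOf 𝐍[O])
  have hπ : ∀ x y : 𝐍[O], π x = π y ↔ (x : G)⁻¹ * y ∈ O := fun x y => QuotientGroup.eq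
  choose σ σ1 σ2 using fun y : h.st.img M => (h.st.mem_img MN).1 y.2
  have wd : ∀ a (ha : a ∈ M) b (hb : b ∈ M), ρ a = ρ b → π ⟨a, nM a ha⟩ = π ⟨b, nM b hb⟩ :=
    fun a ha b hb e1 => (hπ _ _).2 (h.MK (mul_mem (inv_mem ha) hb) (h.st.div (MN ha) (MN hb) e1))
  let ι : h.st.img M →* _ := MonoidHom.mk' (fun y => π ⟨σ y, nM _ (σ1 y)⟩) fun a b => by
    rw [← map_mul]
    exact wd _ (σ1 _) _ (mul_mem (σ1 a) (σ1 b)) (by
      rw [h.st.mul _ (MN (σ1 a)) _ (MN (σ1 b)), σ2, σ2, σ2]; rfl)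
  have hι : ∀ y, ι y = π ⟨σ y, nM _ (σ1 y)⟩ := fun y => rfl
  have hι' : ∀ y : h.st.img M, ∀ m (hm : m ∈ M), ρ m = y → π ⟨m, nM m hm⟩ = ι y :=
    fun y m hm e1 => wd _ hm _ (σ1 y) (e1.trans (σ2 y).symm)
  have Y1 : D.Y₀ ≤ h.st.img M := fun y hy => by
    obtain ⟨a, ha, rfl⟩ := h.st.sur y hy
    exact (h.st.mem_img MN).2 ⟨a, mem_sup_left ha, rfl⟩
  have nt : t ∈ 𝐍[O] := h.nO rfl
  have od : ∀ o ∈ O, o * o = 1 → o = 1 := fun o ho e1 =>
    (Wr2.tw_of_sq e1).eq_one (odd_orderOf (odd_oc _) ho)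
  have Db : Wr.Dbl ι (π ⟨t, nt⟩) ⟨D.z, Y1 zY⟩ fun y => π ⟨F y, nF y⟩ := by
    refine ⟨(injective_iff_map_eq_one _).2 fun a e1 => Subtype.ext ((σ2 a).symm.trans (h.st.kerC (h.OK
      ((QuotientGroup.eq_one_iff (N := O.subgroupOf 𝐍[O]) ⟨σ a, nM _ (σ1 a)⟩).1 e1)))), ?_,
      fun a => ?_, fun a e1 => ?_, fun x e1 => ?_, Subtype.ext h.F.zz, ?_, ?_, ?_, fun a x hx => ?_⟩
    · rw [← map_mul, ← map_one π]; exact congrArg π (Subtype.ext h.tt)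
    · rw [hι, ← map_mul, ← map_mul]; exact congrArg π (Subtype.ext (h.Mt (σ1 a)).symm)
    · exact h.tM ((mul_mem_cancel_left (inv_mem (σ1 a))).1 (h.OM ((hπ _ _).1 e1)))
    · obtain ⟨⟨x, hx⟩, rfl⟩ := QuotientGroup.mk'_surjective _ x
      rw [← map_mul, ← map_mul] at e1
      have e2 : (x * t)⁻¹ * (t * x) ∈ O := (hπ _ _).1 e1
      have e3 : (x * t)⁻¹ * (t * x) = 1 := od _ e2 (by
        calc _ = t⁻¹ * (t * ((x * t)⁻¹ * (t * x))) * (t⁻¹ * (x⁻¹ * t * x)) := by group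
          _ = t⁻¹ * t⁻¹ * x⁻¹ * (t * t) * x := by rw [← h.Ot e2]; group
          _ = 1 := by rw [inv_eq_of_sq h.tt, h.tt]; group)
      rcases h.Ct (inv_mul_eq_one.1 e3) with e4 | e4
      · exact ⟨⟨_, (h.st.mem_img MN).2 ⟨x, e4, rfl⟩⟩, Or.inl (hι' _ _ e4 rfl)⟩
      · refine ⟨⟨_, (h.st.mem_img MN).2 ⟨_, e4, rfl⟩⟩, Or.inr ?_⟩
        rw [← hι' _ _ e4 rfl, ← map_mul]
        exact congrArg π (Subtype.ext (show x = x * t * t by rw [mul_assoc, h.tt, mul_one]))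
    · rw [← map_one π]; exact congrArg π (Subtype.ext f1)
    · rw [← map_mul, ← map_one π]; exact congrArg π (Subtype.ext (cF _).2)
    · rw [← hι' _ _ (mem_sup_left h.zA) (h.ρj _ zY), ← map_mul, ← map_mul, ← map_mul]
      refine congrArg π (Subtype.ext (show F (D.z) * t * F (D.z) = t * j D.z from ?_))
      rw [fz, ← h.sw, inv_eq_of_sq h.ss]
    · rw [hι, ← map_inv, ← map_mul, ← map_mul]
      refine congrArg π (Subtype.ext (show F (a * x * (a : Y)⁻¹) = σ a * F x * (σ a)⁻¹ from ?_))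
      rcases hx with rfl | ⟨b, rfl⟩
      · simp [f1]
      · have e1 := key _ (σ1 b)
        have e2 := key _ (mul_mem (σ1 a) (σ1 b))
        rw [h.st.mul _ (MN (σ1 a)) _ (MN (σ1 b)), σ2 a] at e2
        rw [σ2 b] at e1 e2
        change F (a * (b * D.z * (b : Y)⁻¹) * (a : Y)⁻¹) =
          σ a * F (b * D.z * (b : Y)⁻¹) * (σ a)⁻¹
        rw [e1, show (a : Y) * (b * D.z * (b : Y)⁻¹) * (a : Y)⁻¹ =
          a * b * D.z * ((a : Y) * b)⁻¹ by group, e2]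
        group
  have lift : ∀ a b : h.st.img M, Wr.Rel (π ⟨t, nt⟩) (fun y : h.st.img M => π ⟨F y, nF y⟩) a b →
      Wr.Rel t F a b := fun a b e1 => by
    unfold Wr.Rel at e1 ⊢
    simp only [← map_inv, ← map_mul] at e1
    have e2 : (F a * (t * F b * t⁻¹))⁻¹ * (t * F b * t⁻¹ * F a) ∈ O := (hπ _ _).1 e1
    have u2 := (cF a).2
    have v2 : t * F b * t⁻¹ * (t * F b * t⁻¹) = 1 := conj_sq (cF b).2
    have c := conj_eq_iff.2 (mem_C.1 (cF a).1 _ e2).symm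
    clear e1
    generalize t * F b * t⁻¹ = v at e2 v2 c ⊢
    generalize F a = u at e2 u2 c ⊢
    refine inv_mul_eq_one.1 (od _ e2 ?_)
    conv_lhs => lhs; rw [← c]
    rw [mul_inv_rev, inv_eq_of_sq u2, inv_eq_of_sq v2]
    calc _ = u * v * u * v * (u * u) * v * u * v * u := by group
      _ = u * v * u * (v * v) * u * v * u := by rw [u2]; group
      _ = u * v * (u * u) * v * u := by rw [v2]; group
      _ = u * (v * v) * u := by rw [u2]; group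
      _ = 1 := by rw [v2, mul_one, u2]
  have dY := h.F.dY
  have rY := h.F.rY
  have cl : ∀ y (hy : D.Cj D.z y) (m : y ∈ h.st.img M), Wr.Cl (⟨D.z, Y1 zY⟩ : h.st.img M) ⟨y, m⟩ :=
    fun y ⟨k, hk, e1⟩ m => Wr.cl_of_conj (k := ⟨k, Y1 hk⟩) (Subtype.ext e1)
  rcases Db.line (d := ⟨D.z, Y1 zY⟩) (e := ⟨D.d, Y1 dY⟩) (ρ := ⟨D.r, Y1 rY⟩) (Wr.cl_self _)
    (cl _ h.F.cjd _) (cl _ h.F.cjzd (Y1 (mul_mem zY dY))) (Subtype.ext h.F.dzc.symm)
    (fun e1 => h.F.z1 (congrArg Subtype.val e1)) (fun e1 => h.F.d1 (congrArg Subtype.val e1))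
    (fun e1 => h.F.dz (congrArg Subtype.val e1).symm) (Subtype.ext h.F.r1) (Subtype.ext h.F.r2)
    (fun x hx => by
      have := (h.F.memV _).1 (h.F.cP x fun c hc e1 => congrArg Subtype.val
        (hx ⟨c, Y1 hc.1⟩ ⟨Subtype.ext (mem_z.1 hc.2), Subtype.ext e1⟩))
      exact this.imp Subtype.ext (Or.imp Subtype.ext (Or.imp Subtype.ext Subtype.ext))) with ad | an
  · obtain ⟨Δ, d1, d2, d3⟩ := hD
    refine .inl ⟨{a | a ∈ A ∧ ρ a * D.z * (ρ a)⁻¹ ∈ Δ}, fun a ha => ha.1,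
      d2.trans (closure_mono fun y hy => ?_), fun a ha b hb => ?_⟩
    · obtain ⟨k, hk, e1⟩ := d1 y hy
      obtain ⟨a, ha, rfl⟩ := h.st.sur k hk
      exact ⟨a, ⟨ha, e1 ▸ hy⟩, e1⟩
    · rw [← key a (mem_sup_left ha.1), ← key b (mem_sup_left hb.1)]
      have m : ∀ a ∈ A, ρ a * D.z * (ρ a)⁻¹ ∈ h.st.img M := fun a ha =>
        Y1 (mul_mem (mul_mem (h.st.mem a ha) zY) (inv_mem (h.st.mem a ha)))
      exact lift ⟨_, m a ha.1⟩ ⟨_, m b hb.1⟩ (d3 _ Y1 _ ι _ _ _ _ rfl rfl Db ad _ _ ha.2 hb.2)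
  have ex : ∀ y, D.Cj D.z y → ∃ a ∈ A, ρ a * D.z * (ρ a)⁻¹ = y := fun y ⟨k, hk, e1⟩ => by
    obtain ⟨a, ha, rfl⟩ := h.st.sur k hk
    exact ⟨a, ha, e1⟩
  have ti := inv_eq_of_sq h.tt
  have sq : ∀ y, D.Cj D.z y → t * F y * (t * F y) = j y := fun y hy => by
    obtain ⟨a, ha, rfl⟩ := ex y hy
    rw [key a (mem_sup_left ha), ← h.jconj (le_normalizer ha) zY]
    calc _ = t * a * s * (a⁻¹ * (t * a)) * s * a⁻¹ := by group
      _ = a * (t * (s * t * s⁻¹)) * a⁻¹ := by rw [← h.tA ha, inv_eq_of_sq h.ss]; group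
      _ = _ := by rw [h.sw, ← mul_assoc t, h.tt, one_mul]
  have eqv : ∀ m ∈ M, ∀ y, D.Cj D.z y → t * F (ρ m * y * (ρ m)⁻¹) = m * (t * F y) * m⁻¹ := fun m hm y hy => by
    obtain ⟨a, ha, rfl⟩ := ex y hy
    have e2 := key _ (mul_mem hm (mem_sup_left ha))
    rw [h.st.mul _ (MN hm) _ (le_normalizer ha)] at e2
    rw [key a (mem_sup_left ha), show ρ m * (ρ a * D.z * (ρ a)⁻¹) * (ρ m)⁻¹ = ρ m * ρ a * D.z * (ρ m * ρ a)⁻¹ by
      group, e2, ← mul_assoc m t, h.Mt hm]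
    group
  have cv : ∀ y, t * F y ∈ 𝐂[O] := fun y => mul_mem (mem_C.2 fun o ho => h.Ot ho) (cF y).1
  have zz := h.zz
  have cA : ∀ a ∈ D.V, ∀ y ∈ D.V, D.Cj D.z y → j a * (t * F y) = t * F y * j a := fun a ha y hy c => by
    have := eqv _ (mem_sup_left (h.jA a (h.F.VY ha))) y c
    rw [h.ρj a (h.F.VY ha), conj_eq_iff.2 (show a * y = y * a by
      have q1 := h.F.dzc
      rcases (h.F.memV _).1 ha with rfl | rfl | rfl | rfl <;> rcases (h.F.memV _).1 hy with rfl | rfl | rfl | rfl <;>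
        simp only [mul_one, one_mul, mul_assoc, q1, ← mul_assoc D.d D.z])] at this
    exact conj_eq_iff.1 this.symm
  obtain ⟨an1, an2⟩ := an
  simp only [← map_mul] at an1 an2
  have e1 : (t * F D.z * (t * F D.d))⁻¹ * (t * F D.d * (t * F D.z)) ∈ O := (hπ _ _).1 an1
  have e2 : t * F (D.z * D.d) * (t * F D.d) * (t * F D.z) ∈ O :=
    (QuotientGroup.eq_one_iff (N := O.subgroupOf 𝐍[O]) _).1 an2
  have sz := sq _ (Dt.Cj.refl D _)
  have sd := sq _ h.F.cjd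
  have szd := sq _ h.F.cjzd
  have zdV := mul_mem h.F.zV h.F.dV
  have c1 := cA _ h.F.zV _ h.F.dV h.F.cjd
  have k1 := cv D.z
  have k2 := cv D.d
  have k3 := cv (D.z * D.d)
  have j2 : ∀ a ∈ D.V, D.Cj D.z a → j a * j a = 1 := fun a ha ⟨k, hk, e⟩ => by
    rw [← h.jmul (h.F.VY ha) (h.F.VY ha), ← e, conj_sq h.F.zz, h.jone]
  have d2 := j2 _ h.F.dV h.F.cjd
  have zd2 := j2 _ zdV h.F.cjzd
  have com : t * F D.z * (t * F D.d) = t * F D.d * (t * F D.z) := by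
    generalize t * F D.z = p at *
    generalize t * F D.d = q at *
    refine inv_mul_eq_one.1 (od _ e1 ?_)
    have c := mem_C.1 k1 _ e1
    have e : q * p = p * q * ((p * q)⁻¹ * (q * p)) := by group
    generalize (p * q)⁻¹ * (q * p) = o at c e
    rw [← sz] at c1
    refine mul_left_cancel (a := p * p * q) ?_
    calc _ = p * (p * q * o) * o := by group
      _ = p * q * (p * o) := by rw [← e]; group
      _ = p * q * o * p := by rw [← c]; group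
      _ = _ := by rw [← e, c1]; group
  refine .inr ⟨fun y => t * F y, h.toSy, fun a ha => mem_sup_left ha, fun o => h.OM, fun m => h.Mt, h.tM,
    fun x => h.Ct, sq, fun y _ => ?_, fun y _ => cv y, eqv, com, ?_⟩
  · rw [mul_inv_rev, inv_eq_of_sq (cF y).2, ← mul_assoc, h.tt, one_mul]
  · show t * F (D.z * D.d) * (t * F D.d) * (t * F D.z) = 1
    generalize t * F D.z = p at *
    generalize t * F D.d = q at *
    generalize t * F (D.z * D.d) = u at *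
    have c2 : Commute (u * q * p) p := mem_C.1 k1 _ e2
    have c3 : Commute (u * q * p) q := mem_C.1 k2 _ e2
    have c4 : Commute q p := com.symm
    have e : u = u * q * p * (q * p)⁻¹ := by group
    generalize u * q * p = o at c2 c3 e e2
    have p4 : ∀ x : G, x * x * (x * x) = x ^ 4 := fun x => by simp only [pow_succ, pow_zero, one_mul, mul_assoc]
    rw [← sz, p4] at zz
    rw [← sd, p4] at d2
    rw [← szd, p4, e, (c3.mul_right c2).inv_right.mul_pow, inv_pow, c4.mul_pow, zz, d2, ← p4] at zd2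
    exact od _ e2 (od _ (mul_mem e2 e2) (by simpa using zd2))

/-- copy of `Wr2.Sz.exists_Fn` (`Bs.exists_St`; `cO` is proved there for `B₀`) -/
theorem Sz.exists_Fn {G : Type v} [Group G] [Finite G] {A : Subgroup G} {ρ : G → Y} {j : Y → G}
    {t s : G} (h : Sz D A ρ j t s) {Δ : Set G} (d1 : Δ ⊆ A)
    (d2 : D.Y₀ ≤ closure ((fun a => ρ a * D.z * (ρ a)⁻¹) '' Δ))
    (d3 : ∀ a ∈ Δ, ∀ b ∈ Δ, a * s * a⁻¹ * (t * (b * s * b⁻¹) * t⁻¹) =
      t * (b * s * b⁻¹) * t⁻¹ * (a * s * a⁻¹)) {X : Subgroup G} [X.Normal] (hA : A ≤ X) :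
    ∃ B ρ₁, Fn D X A ρ j t B ρ₁ := by
  have zY := h.F.toBs.zY
  have tc : ∀ a : G, t * (t * a * t⁻¹) * t⁻¹ = a := fun a => conj_conj_of_sq h.tt rfl
  have hmul : ∀ u v : G, t * (u * v) * t⁻¹ = t * u * t⁻¹ * (t * v * t⁻¹) := fun u v => by group
  set B₀ := closure ((fun a => a * s * a⁻¹) '' Δ) with hB₀
  have hc : ∀ a ∈ B₀, ∀ b ∈ B₀, a * (t * b * t⁻¹) = t * b * t⁻¹ * a := by
    have c1 : cj(t, B₀) ≤ 𝐂[B₀] := by
      rw [hB₀, centralizer_closure, MonoidHom.map_closure, closure_le]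
      rintro _ ⟨_, ⟨b, hb, rfl⟩, rfl⟩
      rw [SetLike.mem_coe, mem_centralizer_iff]
      rintro _ ⟨a, ha, rfl⟩
      exact d3 a ha b hb
    exact fun a ha b hb => mem_C.1 (c1 (conj_mem_cj t hb)) a ha
  have cm : ∀ a ∈ B₀, ∀ b ∈ B₀, a * b * (t * (a * b) * t⁻¹) =
      a * (t * a * t⁻¹) * (b * (t * b * t⁻¹)) := fun a ha b hb => by
    rw [hmul, mul_assoc a, ← mul_assoc b, hc b hb a ha]; group
  let χ : B₀ →* G := MonoidHom.mk' (fun x => x * (t * x * t⁻¹)) fun a b => cm a a.2 b b.2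
  have gz : ∀ a ∈ A, a * s * a⁻¹ * (t * (a * s * a⁻¹) * t⁻¹) = a * j D.z * a⁻¹ := fun a ha => by
    calc _ = a * s * (a⁻¹ * (t * a)) * s * (t * a)⁻¹ := by group
      _ = a * (s * t * s⁻¹) * (s * s) * (a * t)⁻¹ := by rw [← h.tA ha]; group
      _ = _ := by rw [h.sw, h.ss, ← h.tA h.zA]; group
  have χA : ∀ b ∈ B₀, b * (t * b * t⁻¹) ∈ A := fun b hb => by
    induction hb using closure_induction with
    | mem x hx =>
      obtain ⟨a, ha, rfl⟩ := hx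
      rw [gz a (d1 ha)]; exact mul_mem (mul_mem (d1 ha) h.zA) (inv_mem (d1 ha))
    | one => simp
    | mul a b ha hb h1 h2 => rw [cm a ha b hb]; exact mul_mem h1 h2
    | inv a ha h1 =>
      show χ ⟨a, ha⟩⁻¹ ∈ A
      rw [map_inv]; exact inv_mem h1
  have χr : χ.range = A := le_antisymm (by rintro _ ⟨b, rfl⟩; exact χA b b.2)
    (h.st.le_of_sur fun y hy => h.st.gen (by
      rintro _ ⟨a, ha, rfl⟩
      exact ⟨_, mem_inf.2 ⟨mul_mem (mul_mem (d1 ha) h.zA) (inv_mem (d1 ha)),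
        ⟨_, subset_closure ⟨a, ha, rfl⟩⟩, gz a (d1 ha)⟩, by
          rw [h.st.conj (le_normalizer (d1 ha)) (le_normalizer h.zA), h.ρj _ zY]⟩) (d2 hy))
  have χs : ∀ a ∈ A, ∃ b ∈ B₀, b * (t * b * t⁻¹) = a := fun a ha => by
    obtain ⟨b, rfl⟩ : a ∈ χ.range := χr ▸ ha
    exact ⟨b, b.2, rfl⟩
  have nA : ∀ a ∈ A, ∀ x ∈ B₀, a * x * a⁻¹ ∈ B₀ := fun a ha x hx => by
    obtain ⟨b, hb, rfl⟩ := χs a ha
    rw [show b * (t * b * t⁻¹) * x * (b * (t * b * t⁻¹))⁻¹ =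
      b * (t * b * t⁻¹ * x * (t * b * t⁻¹)⁻¹) * b⁻¹ by group, conj_eq_iff.2 (hc x hx b hb).symm]
    exact mul_mem (mul_mem hb hx) (inv_mem hb)
  have sB : s ∈ B₀ := by
    rcases Δ.eq_empty_or_nonempty with rfl | ⟨a, ha⟩
    · exact absurd (by simpa using d2 zY) h.F.z1
    · simpa [mul_assoc] using nA _ (inv_mem (d1 ha)) _ (subset_closure ⟨a, ha, rfl⟩)
  have nM : Wr2.Mc A (j D.z) t s ≤ 𝐍[B₀] := fun m hm => mem_normalizer_of_cj_le (by
    conv_lhs => rw [hB₀, MonoidHom.map_closure]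
    rw [closure_le]
    rintro _ ⟨_, ⟨a, ha, rfl⟩, rfl⟩
    obtain ⟨b, hb, c, -, c2, e1⟩ := h.Mdec (mul_mem hm (mem_sup_left (d1 ha)))
    show m * (a * s * a⁻¹) * m⁻¹ ∈ B₀
    rw [show m * (a * s * a⁻¹) * m⁻¹ = m * a * s * (m * a)⁻¹ by group, e1,
      show b * c * s * (b * c)⁻¹ = b * (c * s * c⁻¹) * b⁻¹ by group, conj_eq_iff.2 c2]
    exact nA b hb s sB)
  have cO : B₀ ≤ 𝐂[Oc A t] := (closure_le _).2 (by
    rintro _ ⟨a, ha, rfl⟩
    exact conj_mem_of_mem_normalizer (normalizer_le_normalizer_centralizer _ (h.nO (h.tA (d1 ha))))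
      (mem_C.2 fun o ho => (h.sO o ho).symm))
  have h1 : ∀ a ∈ B₀, ∀ b ∈ B₀, ρ (a * b * (t * (a * b) * t⁻¹)) =
      ρ (a * (t * a * t⁻¹)) * ρ (b * (t * b * t⁻¹)) := fun a ha b hb => by
    rw [cm a ha b hb, h.st.mul _ (le_normalizer (χA a ha)) _ (le_normalizer (χA b hb))]
  have kz : ∀ x ∈ B₀, x * (t * x * t⁻¹) ∈ 𝐂[A] → x ∈ 𝐂[B₀] := fun x hx e1 => mem_C.2 fun b hb => by
    have := mem_C.1 (cO hb) _ (h.AK (χA x hx) e1 ▸ one_mem _ : x * (t * x * t⁻¹) ∈ Oc A t)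
    rw [mul_assoc x, ← hc b hb x hx, ← mul_assoc x b, ← mul_assoc b x] at this
    exact (mul_right_cancel this).symm
  have bl : ⁅B₀, B₀⁆ ≤ B₀ := commutator_le_self B₀
  have Cs : ∀ a ∈ A, ∃ b ∈ ⁅B₀, B₀⁆, b * (t * b * t⁻¹) = a := fun a ha => by
    rw [← h.st.perf, ← χr, MonoidHom.range_eq_map, ← map_commutator] at ha
    obtain ⟨b, hb, rfl⟩ := ha
    have := mem_map_of_mem B₀.subtype hb
    rw [map_commutator, ← MonoidHom.range_eq_map, range_subtype] at this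
    exact ⟨b, this, rfl⟩
  have Cp : ⁅⁅B₀, B₀⁆, ⁅B₀, B₀⁆⁆ = ⁅B₀, B₀⁆ := by
    refine le_antisymm (commutator_mono bl bl) (commutator_le.2 fun a ha b hb => ?_)
    have k : ∀ a ∈ B₀, ∃ c ∈ ⁅B₀, B₀⁆, c⁻¹ * a ∈ 𝐂[B₀] := fun a ha => by
      obtain ⟨c, c1, c2⟩ := Cs _ (χA a ha)
      refine ⟨c, c1, kz _ (mul_mem (inv_mem (bl c1)) ha) ?_⟩
      rw [cm _ (inv_mem (bl c1)) a ha, ← c2, ← cm _ (inv_mem (bl c1)) c (bl c1)]
      simp
    obtain ⟨c, c1, n1⟩ := k a ha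
    obtain ⟨c', c1', n2⟩ := k b hb
    have : ⁅a, b⁆ = ⁅c, c'⁆ := by
      have q1 := mem_C.1 n1 b hb
      have q2 := mem_C.1 n2 _ (inv_mem (bl c1))
      calc ⁅a, b⁆ = c * (c⁻¹ * a * b) * a⁻¹ * b⁻¹ := by rw [commutatorElement_def]; group
        _ = c * c' * (c'⁻¹ * b * c⁻¹) * b⁻¹ := by rw [← q1]; group
        _ = _ := by rw [← q2, commutatorElement_def]; group
    rw [this]
    exact commutator_mem_commutator c1 c1'
  obtain ⟨ρ₁, st, uq⟩ := h.F.toBs.exists_St (A := ⁅B₀, B₀⁆) (ψ := fun b => ρ (b * (t * b * t⁻¹)))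
    (fun a ha b hb => h1 a (bl ha) b (bl hb)) (fun a ha => h.st.mem _ (χA a (bl ha)))
    (fun y hy => by
      obtain ⟨a, ha, rfl⟩ := h.st.sur y hy
      obtain ⟨b, hb, rfl⟩ := Cs a ha
      exact ⟨b, hb, rfl⟩) (fun a ha e1 => by
      have a0 := bl ha
      have k1 := (h.st.ker _ (le_normalizer (χA a a0))).1 e1
      refine ⟨centralizer_anti bl (kz a a0 k1), Nat.not_even_iff_odd.1 fun ⟨m, hm⟩ => ?_⟩
      have p := orderOf_pos a
      have x1 : a ^ m ≠ 1 := pow_ne_one_of_lt_orderOf (by omega) (by omega)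
      have x2 : a ^ m * a ^ m = 1 := by rw [← pow_add, ← hm, pow_orderOf_eq_one]
      have x3 : a ^ m * (t * a ^ m * t⁻¹) ∈ 𝐂[A] := by
        show χ (⟨a, a0⟩ ^ m) ∈ _
        rw [map_pow]; exact pow_mem k1 m
      have x4 := pow_mem a0 m
      generalize a ^ m = x at x1 x2 x3 x4
      have x5 := kz x x4 x3
      have x6 : x * t = t * x := by
        have := h.st.eq_one (χA x x4) (Wr2.tw_of_sq (by
          rw [← cm x x4 x x4, x2]; simp)) (h.st.kerC x3)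
        rw [mul_eq_one_iff_inv_eq, inv_eq_of_sq x2, eq_comm, conj_eq_iff] at this
        exact this.symm
      rcases h.Kt (mem_C.2 fun a ha => by
        obtain ⟨b, hb, rfl⟩ := χs a ha
        rw [mul_assoc, ← hc x x4 b hb, ← mul_assoc, mem_C.1 x5 b hb, mul_assoc]) x6 with o | o
      · exact x1 ((Wr2.tw_of_sq x2).eq_one (odd_orderOf (odd_oc _) o))
      · have := ((Wr2.tw_of_sq x2).mul (Wr2.tw_of_sq h.tt) x6).eq_one (odd_orderOf (odd_oc _) o)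
        rw [mul_eq_one_iff_eq_inv, inv_eq_of_sq h.tt] at this
        exact h.tM (mem_sup_right (mem_inf.2 ⟨mem_inf.2 ⟨mem_z.2 rfl,
          mem_z.2 (h.tA h.zA).symm⟩, mem_z.2 (this ▸ mem_C.1 x5 s sB).symm⟩))) Cp
  have nB : ∀ m ∈ Wr2.Mc A (j D.z) t s, m ∈ 𝐍[⁅B₀, B₀⁆] ∧ ρ₁ m = ρ m := fun m hm => by
    have n := le_normalizer_commutator nM nM hm
    refine ⟨n, uq m n _ fun a ha => ?_⟩
    rw [← h.st.conj (h.MN hm) (le_normalizer (χA a (bl ha)))]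
    congr 1
    calc _ = m * a * m⁻¹ * (t * m) * a * (t * m)⁻¹ := by group
      _ = _ := by rw [← h.Mt hm]; group
  refine ⟨_, ρ₁, h.toSy, st, commutator_le.2 fun a ha b hb => ?_,
    fun a ha b hb => hc a (bl ha) b (bl hb), fun b hb => ⟨χA b (bl hb), (uq b (le_normalizer hb) _
      fun a ha => ?_).symm⟩, fun x e1 => (h.Ct e1).imp (nB x) fun e2 => ?_, bl.trans cO⟩
  · have e1 := congrArg (QuotientGroup.mk' X) (hc a ha b hb)
    have e2 : QuotientGroup.mk' X (b * (t * b * t⁻¹)) = 1 :=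
      (QuotientGroup.eq_one_iff _).2 (hA (χA b hb))
    rw [map_mul] at e2
    rw [map_mul, map_mul _ _ a, eq_inv_of_mul_eq_one_right e2] at e1
    rw [← QuotientGroup.eq_one_iff, ← QuotientGroup.mk'_apply, map_commutatorElement,
      commutatorElement_eq_one_iff_commute]
    exact (Commute.inv_right_iff.1 e1)
  · rw [h1 _ (bl (mul_mem hb ha)) _ (bl (inv_mem hb)), h1 b (bl hb) a (bl ha),
      ← h.st.inv (le_normalizer (χA b (bl hb)))]
    exact congrArg (_ * ρ ·) (map_inv χ ⟨b, bl hb⟩)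
  · refine ⟨(nB _ e2).1, (nB _ e2).2.trans ?_⟩
    rw [h.st.mul _ (h.tN e1) _ (h.tN rfl), h.st.kerC h.tK, mul_one]

end Cfsg.Agent.J2W
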